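import Cfsg.Agent.Lib.PLocal.SLTwoBasic
import Cfsg.Agent.Classical.SLGen

/-!
A finite subgroup of `SL(2, K)`, `K` of odd characteristic `p`, containing non-trivial upper and lower
unitriangular elements contains a copy of `SL(2, p)`.

The proof counts the non-central elements along the maximal abelian subgroups (their centralizers):
it shows that the number of Sylow `p`-subgroups is `q + 1` (which puts `upper 1` into the group when
`lower 1` is there), except for one configuration with `q = 3` and order `120`, treated separately.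
-/

set_option autoImplicit false
set_option linter.unusedSectionVars false

namespace CfsgLib.PLocal.SLTwo

variable {K : Type*} [Field K] {p : ℕ} [hpf : Fact p.Prime] [CharP K p]
variable {H : Subgroup (S2 K)} [Finite H]

/-- The centralizer of an element of `H`. -/
def cen (x : H) : Subgroup H := Subgroup.centralizer {x}

theorem mem_cen {x y : H} : y ∈ cen x ↔ x * y = y * x := by
  rw [cen, Subgroup.mem_centralizer_iff]
  simp

theorem self_mem_cen (x : H) : x ∈ cen x := mem_cen.mpr rfl

theorem cen_eq_of_mem {x y : H} (hx : NonZ (x : S2 K)) (hy : NonZ (y : S2 K)) (h : y ∈ cen x) :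
    cen y = cen x := by
  have hxy : (x : S2 K) * y = y * x := congrArg Subtype.val (mem_cen.mp h)
  ext z
  rw [mem_cen, mem_cen]
  constructor
  · intro hz
    exact Subtype.ext (commute_of_common hy hxy.symm (congrArg Subtype.val hz))
  · intro hz
    exact Subtype.ext (commute_of_common hx hxy (congrArg Subtype.val hz))

theorem cen_conj (h x : H) :
    cen (h * x * h⁻¹) = (cen x).map (MulAut.conj h).toMonoidHom := by
  ext z
  constructor
  · intro hz
    refine ⟨h⁻¹ * z * h, ?_, by simp [mul_assoc]⟩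
    rw [SetLike.mem_coe, mem_cen]
    have := congrArg (fun w => h⁻¹ * w * h) (mem_cen.mp hz)
    simpa [mul_assoc] using this
  · rintro ⟨w, hw, rfl⟩
    rw [mem_cen]
    have := mem_cen.mp hw
    calc h * x * h⁻¹ * (h * w * h⁻¹) = h * (x * w) * h⁻¹ := by group
      _ = h * (w * x) * h⁻¹ := by rw [this]
      _ = h * w * h⁻¹ * (h * x * h⁻¹) := by group

theorem nonZ_conj {x h : H} (hx : NonZ (x : S2 K)) :
    NonZ ((h * x * h⁻¹ : H) : S2 K) := by
  have key : ∀ c : S2 K, (h : S2 K) * c = c * h → ((h * x * h⁻¹ : H) : S2 K) = c → (x : S2 K) = c := by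
    intro c hc e
    simp only [Subgroup.coe_mul, Subgroup.coe_inv] at e
    calc (x : S2 K) = (h : S2 K)⁻¹ * ((h : S2 K) * x * (h : S2 K)⁻¹) * h := by group
      _ = (h : S2 K)⁻¹ * (h * c) := by rw [e, hc]; group
      _ = c := by group
  exact ⟨fun e => hx.1 (key 1 (by simp) e), fun e => hx.2 (key (-1) (commute_neg_one _) e)⟩

/-- The elements whose centralizer is conjugate to `M`. -/
def cls (M : Subgroup H) : Set H :=
  {x | NonZ (x : S2 K) ∧ ∃ h : H, cen x = M.map (MulAut.conj h).toMonoidHom}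

theorem map_conj_conj (M : Subgroup H) (a b : H) :
    (M.map (MulAut.conj b).toMonoidHom).map (MulAut.conj a).toMonoidHom =
      M.map (MulAut.conj (a * b)).toMonoidHom := by
  rw [Subgroup.map_map]; congr 1; ext x; simp [mul_assoc]

theorem map_conj_one (M : Subgroup H) : M.map (MulAut.conj (1 : H)).toMonoidHom = M := by
  ext x; simp

theorem mem_cls_self {x : H} (hx : NonZ (x : S2 K)) : x ∈ cls (cen x) :=
  ⟨hx, 1, (map_conj_one _).symm⟩

theorem disjoint_cls_of_notMem {x : H} {M : Subgroup H} (hx : NonZ (x : S2 K)) (h : x ∉ cls M) :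
    Disjoint (cls M) (cls (cen x)) := by
  rw [Set.disjoint_left]
  rintro y ⟨-, a, ha⟩ ⟨-, b, hb⟩
  refine h ⟨hx, b⁻¹ * a, ?_⟩
  have := congrArg (fun S : Subgroup H => S.map (MulAut.conj b⁻¹).toMonoidHom) (hb.symm.trans ha)
  simpa only [map_conj_conj, inv_mul_cancel, map_conj_one] using this

theorem conj_mem_normalizer_iff {M : Subgroup H} {a : H} :
    a ∈ Subgroup.normalizer (M : Set H) ↔ M.map (MulAut.conj a).toMonoidHom = M :=
  Subgroup.mem_normalizer_iff_map_conj_eq

section Counting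

variable (hneg : (-1 : S2 K) ∈ H)

include hneg in
theorem negOne_mem_cen (x : H) : (⟨-1, hneg⟩ : H) ∈ cen x :=
  mem_cen.mpr (Subtype.ext (commute_neg_one (x : S2 K)))

include hneg in
theorem card_nonZ (hp2 : p ≠ 2) (M : Subgroup H) (hM : (⟨-1, hneg⟩ : H) ∈ M) :
    {y : H | y ∈ M ∧ NonZ (y : S2 K)}.ncard + 2 = Nat.card M := by
  have hne : (1 : H) ≠ ⟨-1, hneg⟩ := fun h => by
    have h' := congrArg (fun z : H => (z : S2 K).1 0 0) h
    simp only [OneMemClass.coe_one, one_entry, if_true, neg_entry] at h'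
    exact two_ne_zero' (K := K) hp2 (by linear_combination h')
  have hset : {y : H | y ∈ M ∧ NonZ (y : S2 K)} = (M : Set H) \ {1, ⟨-1, hneg⟩} := by
    ext y
    simp only [Set.mem_setOf_eq, Set.mem_sdiff, SetLike.mem_coe, Set.mem_insert_iff,
      Set.mem_singleton_iff, not_or, NonZ, Subtype.ext_iff, OneMemClass.coe_one]
  have hsub : ({1, ⟨-1, hneg⟩} : Set H) ⊆ (M : Set H) := by
    rintro y (rfl | rfl)
    · exact one_mem M
    · exact hM
  have h := Set.ncard_sdiff_add_ncard_of_subset hsub (Set.toFinite _)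
  rw [Set.ncard_pair hne] at h
  rw [hset, h, ← Nat.card_coe_set_eq]
  rfl

include hneg in
/-- `|cls M| = [H : N(M)] (|M| - 2)`. -/
theorem card_cls (hp2 : p ≠ 2) {x₀ : H} (hx₀ : NonZ (x₀ : S2 K)) :
    (cls (cen x₀)).ncard + 2 * (Subgroup.normalizer (cen x₀ : Set H)).index =
      (Subgroup.normalizer (cen x₀ : Set H)).index * Nat.card (cen x₀) := by
  set M := cen x₀ with hM
  set N := Subgroup.normalizer (M : Set H) with hN
  let A := {y : H | y ∈ M ∧ NonZ (y : S2 K)}
  have hmem : ∀ (a : H) (y : A), a * (y : H) * a⁻¹ ∈ cls M := fun a y =>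
    ⟨nonZ_conj y.2.2, a, by rw [cen_conj, cen_eq_of_mem hx₀ y.2.2 y.2.1]⟩
  let φ : (H ⧸ N) × A → cls M := fun cy => ⟨_, hmem cy.1.out cy.2⟩
  have hφ : Function.Bijective φ := by
    constructor
    · rintro ⟨c, y⟩ ⟨c', y'⟩ e
      have e' : c.out * (y : H) * c.out⁻¹ = c'.out * (y' : H) * c'.out⁻¹ := congrArg Subtype.val e
      have hM' : M.map (MulAut.conj c.out).toMonoidHom = M.map (MulAut.conj c'.out).toMonoidHom := by
        have := congrArg cen e'
        rwa [cen_conj, cen_conj, cen_eq_of_mem hx₀ y.2.2 y.2.1,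
          cen_eq_of_mem hx₀ y'.2.2 y'.2.1] at this
      have hn : c'.out⁻¹ * c.out ∈ N := conj_mem_normalizer_iff.mpr (by
        rw [← map_conj_conj, hM', map_conj_conj, inv_mul_cancel, map_conj_one])
      have hc : c = c' := by
        have h2 : QuotientGroup.mk (s := N) c'.out = QuotientGroup.mk c.out := QuotientGroup.eq.mpr hn
        rw [QuotientGroup.out_eq', QuotientGroup.out_eq'] at h2
        exact h2.symm
      subst hc
      exact Prod.ext rfl (Subtype.ext (by simpa using e'))
    · rintro ⟨x, hx, h, hh⟩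
      set c : H ⧸ N := QuotientGroup.mk h with hc
      obtain ⟨n, hn⟩ := QuotientGroup.mk_out_eq_mul N h
      have hM' : M.map (MulAut.conj c.out).toMonoidHom = M.map (MulAut.conj h).toMonoidHom := by
        rw [hc, hn, ← map_conj_conj, conj_mem_normalizer_iff.mp n.2]
      have hy1 : c.out⁻¹ * x * c.out ∈ M := by
        have h1 : x ∈ M.map (MulAut.conj c.out).toMonoidHom := by
          rw [hM', ← hh]; exact self_mem_cen x
        obtain ⟨y, hy, e⟩ := h1
        have e' : y = c.out⁻¹ * x * c.out := by rw [← e]; simp [mul_assoc]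
        rwa [← e']
      have hy2 : NonZ ((c.out⁻¹ * x * c.out : H) : S2 K) := by
        simpa using nonZ_conj (h := c.out⁻¹) hx
      exact ⟨(c, ⟨_, hy1, hy2⟩), Subtype.ext (by simp [φ, mul_assoc])⟩
  have h1 := Nat.card_congr (Equiv.ofBijective φ hφ)
  rw [Nat.card_prod, ← Subgroup.index, Nat.card_coe_set_eq, Nat.card_coe_set_eq] at h1
  rw [← h1, ← card_nonZ hneg hp2 M (negOne_mem_cen hneg x₀)]
  ring

include hneg in
theorem card_cls_union_le (hp2 : p ≠ 2) (U : Set H) (hU : ∀ x ∈ U, NonZ (x : S2 K)) :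
    U.ncard + 2 ≤ Nat.card H := by
  have h := card_nonZ hneg hp2 (⊤ : Subgroup H) (Subgroup.mem_top _)
  rw [Subgroup.card_top] at h
  have h' : U.ncard ≤ {y : H | y ∈ (⊤ : Subgroup H) ∧ NonZ (y : S2 K)}.ncard :=
    Set.ncard_le_ncard (fun x hx => ⟨Subgroup.mem_top _, hU x hx⟩) (Set.toFinite _)
  omega

include hneg in
theorem exists_notMem (hp2 : p ≠ 2) (U : Set H) (h : U.ncard + 2 < Nat.card H) :
    ∃ x : H, NonZ (x : S2 K) ∧ x ∉ U := by
  by_contra hcon
  push Not at hcon
  have h1 := card_nonZ hneg hp2 (⊤ : Subgroup H) (Subgroup.mem_top _)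
  rw [Subgroup.card_top] at h1
  have h' : {y : H | y ∈ (⊤ : Subgroup H) ∧ NonZ (y : S2 K)}.ncard ≤ U.ncard :=
    Set.ncard_le_ncard (fun x hx => hcon x hx.2) (Set.toFinite _)
  omega

include hneg in
theorem semisimple_card (hp2 : p ≠ 2) {x : H} (hx : NonZ (x : S2 K))
    (ht : tr (x : S2 K) ^ 2 ≠ 4) :
    ¬ p ∣ Nat.card (cen x) ∧
      (∃ d, 2 ≤ d ∧ Nat.card (cen x) = 2 * d) ∧
      ∃ e, (e = 1 ∨ e = 2) ∧
        (cen x).relIndex (Subgroup.normalizer (cen x : Set H)) = e := by
  have h2 : (2 : K) ≠ 0 := two_ne_zero' hp2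
  have hz : (⟨-1, hneg⟩ : H) ∈ cen x := negOne_mem_cen hneg x
  refine ⟨?_, ?_, ?_⟩
  · intro hdvd
    obtain ⟨⟨y, hy⟩, hord⟩ := exists_prime_orderOf_dvd_card' p hdvd
    rw [Subgroup.orderOf_mk] at hord
    have hyp : ((y : S2 K)) ^ p ^ 1 = 1 := by
      rw [pow_one, ← Subgroup.coe_pow, ← hord, pow_orderOf_eq_one, OneMemClass.coe_one]
    have hty : tr (y : S2 K) = 2 := tr_eq_two_of_pow_eq_one hyp
    have hyne : NonZ (y : S2 K) := by
      refine ⟨fun h => ?_, fun h => ?_⟩
      · have h' : y = 1 := Subtype.ext h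
        rw [h', orderOf_one] at hord
        exact hpf.out.one_lt.ne hord
      · rw [h] at hty
        simp [tr] at hty
        exact h2 (mul_left_cancel₀ h2 (by linear_combination -hty))
    refine ht (trace_sq_of_commute hyne ?_ (congrArg Subtype.val (mem_cen.mp hy)).symm)
    rw [hty]; norm_num
  · have heven : 2 ∣ Nat.card (cen x) := by
      have ho : orderOf (⟨⟨-1, hneg⟩, hz⟩ : cen x) = 2 := by
        rw [orderOf_eq_prime_iff]
        refine ⟨Subtype.ext (Subtype.ext (by rw [sq]; exact neg_one_mul_self)), fun h => ?_⟩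
        have h' : (-1 : S2 K) = 1 := congrArg (fun w : cen x => ((w : H) : S2 K)) h
        have h'' := congrArg (fun w : S2 K => w.1 0 0) h'
        simp only [neg_entry, one_entry, if_true] at h''
        exact h2 (by linear_combination -h'')
      have h := orderOf_dvd_natCard (⟨⟨-1, hneg⟩, hz⟩ : cen x)
      rwa [ho] at h
    obtain ⟨d, hd⟩ := heven
    refine ⟨d, ?_, hd⟩
    have h1 := card_nonZ hneg hp2 (cen x) hz
    have h3 : 1 ≤ {y : H | y ∈ cen x ∧ NonZ (y : S2 K)}.ncard :=
      Nat.one_le_iff_ne_zero.mpr (Set.ncard_ne_zero_of_mem (a := x) ⟨self_mem_cen x, hx⟩ (Set.toFinite _))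
    omega
  · set N := Subgroup.normalizer (cen x : Set H) with hN
    refine ⟨_, ?_, rfl⟩
    have hle : cen x ≤ N := Subgroup.le_normalizer
    have hpos : 0 < (cen x).relIndex N := Nat.pos_of_ne_zero Subgroup.index_ne_zero_of_finite
    suffices h : (cen x).relIndex N ≤ 2 by omega
    let f : N ⧸ (cen x).subgroupOf N → ({x, x⁻¹} : Set H) := fun c =>
      ⟨(c.out : H) * x * (c.out : H)⁻¹, by
        have hn := Subgroup.mem_normalizer_iff.mp c.out.2 x
        have hmem := hn.mp (self_mem_cen x)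
        rcases eq_or_inv_of_trace_eq h2 hx ht (congrArg Subtype.val (mem_cen.mp hmem))
          (by simp only [Subgroup.coe_mul, Subgroup.coe_inv]; exact tr_conj _ _) with e | e
        · exact Or.inl (Subtype.ext e)
        · exact Or.inr (Subtype.ext e)⟩
    have hf : Function.Injective f := by
      intro c c' e
      have e' : (c.out : H) * x * (c.out : H)⁻¹ = (c'.out : H) * x * (c'.out : H)⁻¹ :=
        congrArg Subtype.val e
      rw [← QuotientGroup.out_eq' c, ← QuotientGroup.out_eq' c', QuotientGroup.eq,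
        Subgroup.mem_subgroupOf, mem_cen]
      have h3 := congrArg (fun w => (c.out : H)⁻¹ * w * c'.out) e'
      simpa [mul_assoc] using h3
    have h1 := Nat.card_le_card_of_injective f hf
    rw [Nat.card_coe_set_eq] at h1
    calc (cen x).relIndex N = Nat.card (N ⧸ (cen x).subgroupOf N) := rfl
      _ ≤ ({x, x⁻¹} : Set H).ncard := h1
      _ ≤ 2 := by
        refine (Set.ncard_insert_le _ _).trans ?_
        rw [Set.ncard_singleton]

end Counting

/-! ### The unipotent class and the Borel subgroup -/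

/-- Upper unitriangular elements of `H`. -/
def uniSub (H : Subgroup (S2 K)) : Subgroup H where
  carrier := {x | (x : S2 K).1 1 0 = 0 ∧ (x : S2 K).1 0 0 = 1}
  one_mem' := by simp
  mul_mem' {a b} ha hb := by
    simp only [Set.mem_setOf_eq, Subgroup.coe_mul, mul_entry] at *
    obtain ⟨a1, a2⟩ := ha
    obtain ⟨b1, b2⟩ := hb
    simp [a1, a2, b1, b2]
  inv_mem' {a} ha := by
    simp only [Set.mem_setOf_eq, Subgroup.coe_inv] at *
    obtain ⟨a1, a2⟩ := ha
    obtain ⟨i1, -, i3, -⟩ := inv_entry (a : S2 K)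
    have hd := det_eq (a : S2 K)
    rw [a1, a2, mul_zero, sub_zero, one_mul] at hd
    simp [i1, i3, a1, hd]

/-- Upper triangular elements of `H`. -/
def borelSub (H : Subgroup (S2 K)) : Subgroup H where
  carrier := {x | (x : S2 K).1 1 0 = 0}
  one_mem' := by simp
  mul_mem' {a b} ha hb := by
    simp only [Set.mem_setOf_eq, Subgroup.coe_mul, mul_entry] at *
    simp [ha, hb]
  inv_mem' {a} ha := by
    simp only [Set.mem_setOf_eq, Subgroup.coe_inv] at *
    obtain ⟨-, -, i3, -⟩ := inv_entry (a : S2 K)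
    simp [i3, ha]

omit [Finite H] in
theorem mem_uniSub {x : H} : x ∈ uniSub H ↔ (x : S2 K).1 1 0 = 0 ∧ (x : S2 K).1 0 0 = 1 :=
  Iff.rfl

omit [Finite H] in
theorem mem_borelSub {x : H} : x ∈ borelSub H ↔ (x : S2 K).1 1 0 = 0 := Iff.rfl

omit [Finite H] in
theorem uniSub_le_borelSub : uniSub H ≤ borelSub H := fun _ hx => hx.1

/-- The upper left entry on the Borel subgroup. -/
def borelChar (H : Subgroup (S2 K)) : borelSub H →* K where
  toFun x := ((x : H) : S2 K).1 0 0
  map_one' := by simp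
  map_mul' a b := by
    have hb : ((b : H) : S2 K).1 1 0 = 0 := b.2
    simp [hb]

set_option maxHeartbeats 1600000 in
/-- `|upper 1 ∈ H|` or the configuration of order 120. -/
theorem main_dichotomy (hp2 : p ≠ 2) (hneg : (-1 : S2 K) ∈ H) {lam : K} (hlam : lam ≠ 0)
    (hu : upper lam ∈ H) (hw : lower 1 ∈ H) :
    upper 1 ∈ H ∨ (p = 3 ∧ ∃ a i : S2 K, a ∈ H ∧ i ∈ H ∧ a ^ 3 = 1 ∧ a ≠ 1 ∧ i * i = -1 ∧
      i * (a * i * a⁻¹) = -(a * i * a⁻¹ * i)) := by
  classical
  have h2 : (2 : K) ≠ 0 := two_ne_zero' hp2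
  set z : H := ⟨-1, hneg⟩ with hz
  set u₀ : H := ⟨upper lam, hu⟩ with hu₀
  set w₀ : H := ⟨lower 1, hw⟩ with hw₀
  have hu₀nz : NonZ (u₀ : S2 K) := nonZ_upper hlam
  set M₀ := cen u₀ with hM₀
  set P₀ := uniSub H with hP₀
  set B₀ := borelSub H with hB₀
  -- `M₀ = ±P₀`
  have hM₀mem : ∀ y : H, y ∈ M₀ ↔ (y : S2 K).1 1 0 = 0 ∧ (y : S2 K).1 0 0 = (y : S2 K).1 1 1 := by
    intro y
    constructor
    · intro hy
      obtain ⟨a, b, -⟩ := commute_upper_entries hlam (congrArg Subtype.val (mem_cen.mp hy))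
      exact ⟨a, b⟩
    · rintro ⟨a, b⟩
      rw [hM₀, mem_cen]
      refine Subtype.ext (ext_entries ?_ ?_ ?_ ?_) <;>
        simp [hu₀, a, b, mul_comm, add_comm]
  have hpm : ∀ y ∈ M₀, (y : S2 K).1 0 0 = 1 ∨ (y : S2 K).1 0 0 = -1 := fun y hy =>
    (commute_upper_entries hlam (congrArg Subtype.val (mem_cen.mp hy))).2.2
  have hP₀M₀ : P₀ ≤ M₀ := by
    intro y hy
    obtain ⟨a, b⟩ := hy
    refine (hM₀mem y).mpr ⟨a, ?_⟩
    have hd := det_eq (y : S2 K)
    rw [a, b, mul_zero, sub_zero, one_mul] at hd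
    rw [b, hd]
  have hu₀P : u₀ ∈ P₀ := mem_uniSub.mpr (by simp [hu₀])
  have hM₀B₀ : M₀ ≤ B₀ := fun y hy => ((hM₀mem y).mp hy).1
  have hne1 : (1 : K) ≠ -1 := fun h => h2 (by linear_combination h)
  have hPrel : P₀.relIndex M₀ = 2 := by
    rw [Subgroup.relIndex, Subgroup.index_eq_two_iff]
    refine ⟨⟨z, negOne_mem_cen hneg u₀⟩, fun b => ?_⟩
    have hb10 := ((hM₀mem _).mp b.2).1
    have e10 : (((b : H) * z : H) : S2 K).1 1 0 = 0 := by simp [hz, hb10]
    have e00 : (((b : H) * z : H) : S2 K).1 0 0 = -((b : H) : S2 K).1 0 0 := by simp [hz]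
    rw [Subgroup.mem_subgroupOf, Subgroup.mem_subgroupOf, Subgroup.coe_mul, hP₀, mem_uniSub,
      mem_uniSub, e10, e00]
    rcases hpm _ b.2 with h | h
    · exact Or.inr ⟨⟨hb10, h⟩, fun h' => hne1 (by rw [h] at h'; exact h'.2.symm)⟩
    · exact Or.inl ⟨⟨rfl, by rw [h, neg_neg]⟩, fun h' => hne1 (h'.2.symm.trans h)⟩
  set q := Nat.card P₀ with hq
  have hM₀card : Nat.card M₀ = 2 * q := by
    have h1 := Subgroup.relIndex_mul_relIndex (⊥ : Subgroup H) P₀ M₀ bot_le hP₀M₀
    rw [Subgroup.relIndex_bot_left, Subgroup.relIndex_bot_left, hPrel] at h1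
    rw [← h1, hq]; ring
  have hP₀pow : ∀ y ∈ P₀, y ^ p = 1 := by
    intro y hy
    obtain ⟨a, b⟩ := hy
    apply Subtype.ext
    rw [Subgroup.coe_pow, OneMemClass.coe_one, eq_upper a b]
    have : ∀ (n : ℕ) (t : K), upper t ^ n = upper ((n : K) * t) := by
      intro n t
      induction n with
      | zero => simp [upper_zero]
      | succ n ih => rw [pow_succ, ih, upper_mul]; push_cast; ring_nf
    rw [this, CharP.cast_eq_zero, zero_mul, upper_zero]
  have hP₀p : IsPGroup p P₀ := fun y => ⟨1, by rw [pow_one]; exact Subtype.ext (hP₀pow y y.2)⟩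
  obtain ⟨m, hm⟩ := IsPGroup.iff_card.mp hP₀p
  have hu₀1 : u₀ ≠ 1 := fun h => hu₀nz.1 (congrArg Subtype.val h)
  have hpq : p ∣ q := by
    have : orderOf (⟨u₀, hu₀P⟩ : P₀) = p := orderOf_eq_prime (Subtype.ext (hP₀pow _ hu₀P))
      (fun h => hu₀1 (congrArg Subtype.val h))
    exact this ▸ orderOf_dvd_natCard _
  have hq3 : 3 ≤ q := by
    have := Nat.le_of_dvd (hq ▸ Nat.card_pos) hpq
    have := hpf.out.two_le
    omega
  have hqodd : Odd q := by rw [hq, hm]; exact (hpf.out.odd_of_ne_two hp2).pow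
  -- `P₀` is a Sylow subgroup
  obtain ⟨S₀, hS₀⟩ := hP₀p.exists_le_sylow
  have hS₀eq : (S₀ : Subgroup H) = P₀ := by
    refine le_antisymm ?_ hS₀
    haveI : Nontrivial (S₀ : Subgroup H) :=
      ⟨⟨⟨u₀, hS₀ hu₀P⟩, 1, fun h => hu₀1 (congrArg Subtype.val h)⟩⟩
    obtain ⟨⟨c, hc⟩, hc1⟩ :=
      Subgroup.ne_bot_iff_exists_ne_one.mp (ne_of_gt S₀.isPGroup'.bot_lt_center)
    have hcne : ((c : H) : S2 K) ≠ 1 := fun h => hc1 (Subtype.ext (Subtype.ext (Subtype.ext h)))
    have hcM : (c : H) ∈ M₀ := by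
      rw [hM₀, mem_cen]
      exact congrArg Subtype.val (Subgroup.mem_center_iff.mp hc ⟨u₀, hS₀ hu₀P⟩)
    have htr2 : ∀ r : (S₀ : Subgroup H), tr ((r : H) : S2 K) = 2 := fun r => by
      obtain ⟨k, hk⟩ := S₀.isPGroup' r
      exact tr_eq_two_of_pow_eq_one (p := p) (k := k) (by simpa [Subtype.ext_iff] using hk)
    obtain ⟨c10, cd⟩ := (hM₀mem _).mp hcM
    have c00 : ((c : H) : S2 K).1 0 0 = 1 := by
      have := htr2 c; rw [tr, ← cd] at this
      exact mul_left_cancel₀ h2 (by linear_combination this)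
    have hc01 : ((c : H) : S2 K).1 0 1 ≠ 0 := fun h =>
      hcne (ext_entries (by simp [c00]) (by simp [h]) (by simp [c10]) (by simp [← cd, c00]))
    intro r hr
    have hcr := congrArg Subtype.val (congrArg Subtype.val (Subgroup.mem_center_iff.mp hc ⟨r, hr⟩))
    simp only [Subgroup.coe_mul] at hcr
    rw [eq_upper c10 c00] at hcr
    obtain ⟨r10, rd, -⟩ := commute_upper_entries hc01 hcr.symm
    have := htr2 ⟨r, hr⟩; rw [tr, ← rd] at this
    exact mem_uniSub.mpr ⟨r10, mul_left_cancel₀ h2 (by linear_combination this)⟩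
  -- unipotent elements
  have hunip : ∀ y : H, NonZ (y : S2 K) → tr (y : S2 K) ^ 2 = 4 → y ∈ cls M₀ := by
    intro y hy ht
    refine ⟨hy, ?_⟩
    set c := y * y with hc
    have hcp : c ^ p = 1 := Subtype.ext (by
      rw [Subgroup.coe_pow, hc, Subgroup.coe_mul, ← sq, ← pow_mul, OneMemClass.coe_one]
      exact pow_two_mul_eq_one hp2 ht)
    have hc1 : c ≠ 1 := fun h => by
      rcases eq_one_or_neg_one_of_sq h2
        (show (y : S2 K) * y = 1 from congrArg Subtype.val h) with h' | h'
      · exact hy.1 h'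
      · exact hy.2 h'
    have hcp' : IsPGroup p (Subgroup.zpowers c) :=
      IsPGroup.of_card (n := 1) (by rw [Nat.card_zpowers, pow_one, orderOf_eq_prime hcp hc1])
    obtain ⟨R, hR⟩ := hcp'.exists_le_sylow
    obtain ⟨h, hh⟩ := MulAction.exists_smul_eq H R S₀
    have hmem : h * c * h⁻¹ ∈ P₀ := by
      rw [← hS₀eq, ← hh, Sylow.coe_subgroup_smul]
      exact ⟨c, hR (Subgroup.mem_zpowers c), rfl⟩
    have hcz : NonZ (c : S2 K) := by
      refine ⟨fun h' => hc1 (Subtype.ext h'), fun h' => ?_⟩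
      have h1 := congrArg Subtype.val hcp
      rw [Subgroup.coe_pow, h', OneMemClass.coe_one] at h1
      obtain ⟨k, hk⟩ := hpf.out.odd_of_ne_two hp2
      rw [hk, pow_succ, pow_mul, sq, neg_one_mul_self, one_pow, one_mul] at h1
      have := congrArg (fun w : S2 K => w.1 0 0) h1
      simp only [neg_entry, one_entry, if_true] at this
      exact hne1 this.symm
    have h1 : cen y = cen c := (cen_eq_of_mem hy hcz (mem_cen.mpr (by simp [hc, mul_assoc]))).symm
    have h2' : cen (h * c * h⁻¹) = M₀ := cen_eq_of_mem hu₀nz (nonZ_conj hcz) (hP₀M₀ hmem)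
    rw [cen_conj] at h2'
    refine ⟨h⁻¹, ?_⟩
    rw [h1, ← h2', map_conj_conj, inv_mul_cancel, map_conj_one]
  -- the Borel subgroup normalizes `M₀`
  have hNM₀ : Subgroup.normalizer (M₀ : Set H) = B₀ := by
    ext b
    have hb := det_eq (b : S2 K)
    obtain ⟨i1, i2, i3, i4⟩ := inv_entry (b : S2 K)
    constructor
    · intro hbN
      have hmem : b * u₀ * b⁻¹ ∈ M₀ :=
        (Subgroup.mem_normalizer_iff.mp hbN u₀).mp (self_mem_cen u₀)
      have h10 := ((hM₀mem _).mp hmem).1
      simp only [Subgroup.coe_mul, Subgroup.coe_inv, mul_entry, i1, i3, hu₀,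
        (upper_entries lam).1, (upper_entries lam).2.1, (upper_entries lam).2.2.1,
        (upper_entries lam).2.2.2] at h10
      rw [hB₀, mem_borelSub]
      have : lam * ((b : S2 K).1 1 0 * (b : S2 K).1 1 0) = 0 := by linear_combination -h10
      exact mul_self_eq_zero.mp ((mul_eq_zero.mp this).resolve_left hlam)
    · intro hbB
      rw [hB₀, mem_borelSub] at hbB
      rw [conj_mem_normalizer_iff, hM₀, ← cen_conj]
      refine cen_eq_of_mem hu₀nz (nonZ_conj hu₀nz) ((hM₀mem _).mpr ⟨?_, ?_⟩)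
      · simp [i1, i3, hu₀, hbB]
      · simp only [Subgroup.coe_mul, Subgroup.coe_inv, mul_entry, i1, i2, i3, i4, hu₀, hbB,
          (upper_entries lam).1, (upper_entries lam).2.1, (upper_entries lam).2.2.1,
          (upper_entries lam).2.2.2]
        ring
  set k := M₀.relIndex B₀ with hk
  set n := B₀.index with hn
  have hcardH : Nat.card H = 2 * (n * q * k) := by
    rw [← B₀.card_mul_index, ← hn]
    have h1 := Subgroup.relIndex_mul_relIndex (⊥ : Subgroup H) M₀ B₀ bot_le hM₀B₀
    rw [Subgroup.relIndex_bot_left, Subgroup.relIndex_bot_left, hM₀card, ← hk] at h1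
    rw [← h1]; ring
  have hcls₀ : (cls M₀).ncard + 2 * n = n * (2 * q) := by
    have := card_cls hneg hp2 hu₀nz
    rwa [hNM₀, ← hn, hM₀card] at this
  have hkpos : 1 ≤ k := Nat.one_le_iff_ne_zero.mpr Subgroup.index_ne_zero_of_finite
  -- `k ≤ q - 1`
  have hkle : k + 1 ≤ q := by
    let f : B₀ ⧸ M₀.subgroupOf B₀ → ((P₀ : Set H) \ {1} : Set H) := fun c =>
      ⟨(c.out : H) * u₀ * (c.out : H)⁻¹, by
        refine ⟨?_, fun h => hu₀1 (by simpa using h)⟩
        have hb := mem_borelSub.mp c.out.2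
        have hd := det_eq ((c.out : H) : S2 K)
        obtain ⟨i1, i2, i3, i4⟩ := inv_entry ((c.out : H) : S2 K)
        rw [hb, mul_zero, sub_zero] at hd
        refine mem_uniSub.mpr ⟨?_, ?_⟩ <;> simp [i1, i3, hu₀, hb, hd]⟩
    have hf : Function.Injective f := by
      intro c c' e
      have e' : (c.out : H) * u₀ * (c.out : H)⁻¹ = (c'.out : H) * u₀ * (c'.out : H)⁻¹ :=
        congrArg Subtype.val e
      rw [← QuotientGroup.out_eq' c, ← QuotientGroup.out_eq' c', QuotientGroup.eq,
        Subgroup.mem_subgroupOf]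
      refine mem_cen.mpr ?_
      simpa [mul_assoc] using congrArg (fun w => (c.out : H)⁻¹ * w * c'.out) e'
    have h1 := Nat.card_le_card_of_injective f hf
    rw [Nat.card_coe_set_eq, Set.ncard_sdiff_singleton_of_mem (one_mem P₀)] at h1
    have h3 : (P₀ : Set H).ncard = q := by rw [← Nat.card_coe_set_eq]; rfl
    have h4 : Nat.card (B₀ ⧸ M₀.subgroupOf B₀) = k := rfl
    omega
  -- the action of `P₀` on `H ⧸ B₀`
  set c₀ : H ⧸ B₀ := QuotientGroup.mk 1 with hc₀
  have hn2 : 2 ≤ n := by
    by_contra hcon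
    have h1 : B₀ = ⊤ := Subgroup.index_eq_one.mp (by
      have := Subgroup.index_ne_zero_of_finite (H := B₀)
      omega)
    have h2' : w₀ ∈ B₀ := h1 ▸ Subgroup.mem_top _
    simp [hB₀, mem_borelSub, hw₀] at h2'
  have hsemireg : ∀ c : H ⧸ B₀, c ≠ c₀ → ∀ t ∈ P₀, t • c = c → t = 1 := by
    intro c hc t ht htc
    obtain ⟨h, rfl⟩ := QuotientGroup.mk_surjective c
    have hh : h⁻¹ * t⁻¹ * h ∈ B₀ := by
      have := QuotientGroup.eq.mp (htc : QuotientGroup.mk (t * h) = QuotientGroup.mk h)
      simpa [mul_assoc] using this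
    by_contra ht1
    apply hc
    rw [hc₀, QuotientGroup.eq, mul_one, inv_mem_iff]
    set t' := h⁻¹ * t⁻¹ * h with ht'
    have ht'10 := mem_borelSub.mp hh
    have htp : (t' : S2 K) ^ p ^ 1 = 1 := by
      rw [pow_one, ← Subgroup.coe_pow]
      have : t' ^ p = 1 := by
        rw [ht', show h⁻¹ * t⁻¹ * h = h⁻¹ * t⁻¹ * (h⁻¹)⁻¹ by rw [inv_inv], conj_pow,
          hP₀pow _ (inv_mem ht), mul_one, mul_inv_cancel]
      rw [this, OneMemClass.coe_one]
    have ht'00 : (t' : S2 K).1 0 0 = 1 := by
      have h1 := tr_eq_two_of_pow_eq_one htp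
      have h3 := det_eq (t' : S2 K)
      rw [ht'10, mul_zero, sub_zero] at h3
      rw [tr] at h1
      have h4 : ((t' : S2 K).1 0 0 - 1) * ((t' : S2 K).1 0 0 - 1) = 0 := by
        linear_combination (t' : S2 K).1 0 0 * h1 - h3
      exact sub_eq_zero.mp (mul_self_eq_zero.mp h4)
    have ht'P : t' ∈ P₀ := mem_uniSub.mpr ⟨ht'10, ht'00⟩
    have hnzP : ∀ y ∈ P₀, y ≠ 1 → cen y = M₀ := by
      intro y hy hy1
      refine cen_eq_of_mem hu₀nz ⟨fun h => hy1 (Subtype.ext h), fun h => ?_⟩ (hP₀M₀ hy)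
      have h1 := (mem_uniSub.mp hy).2
      rw [h, neg_entry, one_entry, if_pos rfl] at h1
      exact hne1 h1.symm
    rw [← hNM₀, conj_mem_normalizer_iff]
    have h5 : cen t' = M₀ := hnzP t' ht'P (fun h0 => ht1 (by
      have := congrArg (MulAut.conj h) h0
      simpa [ht', mul_assoc] using this))
    rw [← h5, ← cen_conj, show h * t' * h⁻¹ = t⁻¹ by rw [ht']; group,
      hnzP t⁻¹ (inv_mem ht) (by simpa using ht1), h5]
  have horbit : ∀ c : H ⧸ B₀, c ≠ c₀ → Set.MapsTo (fun t : H => t • c) (P₀ : Set H)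
      ({c₀}ᶜ : Set (H ⧸ B₀)) := by
    intro c hc t ht hcon
    apply hc
    have h1 : t⁻¹ • c₀ = c := by rw [← (hcon : t • c = c₀), inv_smul_smul]
    rw [← h1, hc₀, MulAction.Quotient.smul_mk, QuotientGroup.eq]
    simpa using hM₀B₀ (hP₀M₀ ht)
  have horbinj : ∀ c : H ⧸ B₀, c ≠ c₀ → Set.InjOn (fun t : H => t • c) (P₀ : Set H) := by
    intro c hc t ht t' ht' e
    have := hsemireg c hc (t⁻¹ * t') (mul_mem (inv_mem ht) ht') (by
      have e' : t • c = t' • c := e
      rw [mul_smul, ← e', inv_smul_smul])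
    exact inv_mul_eq_one.mp this
  -- `q ∣ n - 1`
  obtain ⟨j, hj⟩ : ∃ j, n = 1 + q * j := by
    let T : SubMulAction P₀ (H ⧸ B₀) :=
      { carrier := {c₀}ᶜ
        smul_mem' := fun t c hc => horbit c hc t.2 }
    have hstab : ∀ c : T, MulAction.stabilizer P₀ c = ⊥ := by
      intro c
      rw [eq_bot_iff]
      intro t ht
      rw [Subgroup.mem_bot]
      exact Subtype.ext (hsemireg (c : H ⧸ B₀) c.2 t t.2 (congrArg Subtype.val ht))
    refine ⟨Nat.card (MulAction.orbitRel.Quotient P₀ T), ?_⟩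
    have h1 : Nat.card T + 1 = n := by
      have h' : Nat.card T = ({c₀}ᶜ : Set (H ⧸ B₀)).ncard := by
        rw [← Nat.card_coe_set_eq]; rfl
      rw [h', hn, Subgroup.index, add_comm, ← Set.ncard_singleton c₀]
      exact Set.ncard_add_ncard_compl _
    have h3 : Nat.card T = q * Nat.card (MulAction.orbitRel.Quotient P₀ T) := by
      rw [Nat.card_congr (MulAction.selfEquivSigmaOrbits' P₀ T)]
      rw [Nat.card_congr (Equiv.sigmaCongrRight fun ω : MulAction.orbitRel.Quotient P₀ T =>
        ((Equiv.setCongr (MulAction.orbitRel.Quotient.orbit_eq_orbit_out ω Quotient.out_eq')).trans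
          ((MulAction.orbitEquivQuotientStabilizer P₀ ω.out).trans
            ((Subgroup.quotientEquivOfEq (hstab ω.out)).trans
              (QuotientGroup.quotientBot (G := P₀)).toEquiv))))]
      rw [Nat.card_congr (Equiv.sigmaEquivProd _ _), Nat.card_prod, mul_comm]
    omega
  -- the case `n = q + 1`
  by_cases hnq : n = q + 1
  · left
    obtain ⟨R, hR⟩ : ∃ R : Sylow p H, w₀ ∈ R := by
      have h1 : w₀ ^ p = 1 := Subtype.ext (by
        rw [Subgroup.coe_pow, OneMemClass.coe_one, hw₀]
        have : ∀ (n : ℕ) (t : K), lower t ^ n = lower ((n : K) * t) := by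
          intro n t
          induction n with
          | zero =>
            rw [pow_zero, Nat.cast_zero, zero_mul]
            exact ext_entries (by simp) (by simp) (by simp) (by simp)
          | succ n ih => rw [pow_succ, ih, lower_mul]; push_cast; ring_nf
        rw [this, CharP.cast_eq_zero, zero_mul]
        exact ext_entries (by simp) (by simp) (by simp) (by simp))
      have h3 : IsPGroup p (Subgroup.zpowers w₀) :=
        IsPGroup.of_card_dvd_pow (n := 1)
          (by rw [Nat.card_zpowers, pow_one]; exact orderOf_dvd_of_pow_eq_one h1)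
      obtain ⟨R, hR⟩ := h3.exists_le_sylow
      exact ⟨R, hR (Subgroup.mem_zpowers w₀)⟩
    obtain ⟨h, hh⟩ := MulAction.exists_smul_eq H S₀ R
    have hwconj : w₀ ∈ ((h • S₀ : Sylow p H) : Subgroup H) := hh.symm ▸ hR
    rw [Sylow.coe_subgroup_smul, Subgroup.mem_pointwise_smul_iff_inv_smul_mem, hS₀eq] at hwconj
    have hwP : h⁻¹ * w₀ * h ∈ P₀ := by simpa using hwconj
    -- `h` sends the upper fixed line to the lower one
    obtain ⟨s, hs⟩ : ∃ s : K, ((h⁻¹ * w₀ * h : H) : S2 K) = upper s :=
      ⟨_, eq_upper (mem_uniSub.mp hwP).1 (mem_uniSub.mp hwP).2⟩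
    have hh00 : (h : S2 K).1 0 0 = 0 := by
      have e : (lower 1 : S2 K) * (h : S2 K) = (h : S2 K) * upper s := by
        rw [← hs]; simp [hw₀, mul_assoc]
      have e0 := congrArg (fun x : S2 K => x.1 1 0) e
      simp only [mul_entry, (lower_entries (1 : K)).2.2.1, (lower_entries (1 : K)).2.2.2,
        (upper_entries s).1, (upper_entries s).2.2.1] at e0
      linear_combination e0
    have hd := det_eq (h : S2 K)
    rw [hh00, zero_mul, zero_sub] at hd
    have hh10 : (h : S2 K).1 1 0 ≠ 0 := fun h' => by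
      rw [h', mul_zero, neg_zero] at hd; exact zero_ne_one hd
    set ch : H ⧸ B₀ := QuotientGroup.mk h with hch
    set cw : H ⧸ B₀ := QuotientGroup.mk w₀ with hcw
    have hchne : ch ≠ c₀ := fun e => hh10 (by
      have e' := QuotientGroup.eq.mp e
      rw [mul_one, inv_mem_iff] at e'
      exact e')
    have hcwne : cw ∈ ({c₀}ᶜ : Set (H ⧸ B₀)) := fun (e : cw = c₀) => by
      have e' := QuotientGroup.eq.mp e
      rw [mul_one, inv_mem_iff, hB₀, mem_borelSub, hw₀] at e'
      simp at e'
    have himg : (fun t : H => t • ch) '' (P₀ : Set H) = ({c₀}ᶜ : Set (H ⧸ B₀)) := by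
      refine Set.eq_of_subset_of_ncard_le (horbit ch hchne).image_subset ?_ (Set.toFinite _)
      rw [(horbinj ch hchne).ncard_image]
      have h1 : ({c₀}ᶜ : Set (H ⧸ B₀)).ncard + 1 = n := by
        rw [hn, Subgroup.index, add_comm, ← Set.ncard_singleton c₀]
        exact Set.ncard_add_ncard_compl _
      have h3 : (P₀ : Set H).ncard = q := by rw [← Nat.card_coe_set_eq]; rfl
      omega
    obtain ⟨t, ht, htc⟩ := himg.ge hcwne
    have e' := QuotientGroup.eq.mp (htc : QuotientGroup.mk (t * h) = QuotientGroup.mk w₀)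
    obtain ⟨t10, t00⟩ := mem_uniSub.mp ht
    have htd := det_eq (t : S2 K)
    rw [t10, t00, mul_zero, sub_zero, one_mul] at htd
    have e'' : ((t : S2 K) * h)⁻¹.1 1 0 * 1 + ((t : S2 K) * h)⁻¹.1 1 1 * 1 = 0 := by
      have := mem_borelSub.mp e'
      simpa [hw₀] using this
    obtain ⟨-, -, j3, j4⟩ := inv_entry ((t : S2 K) * (h : S2 K))
    simp only [j3, j4, mul_entry, t10, t00, htd, hh00] at e''
    have ht01 : (t : S2 K).1 0 1 = 1 := by
      have : (h : S2 K).1 1 0 * ((t : S2 K).1 0 1 - 1) = 0 := by linear_combination e''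
      exact sub_eq_zero.mp ((mul_eq_zero.mp this).resolve_left hh10)
    have : (t : S2 K) = upper 1 := by rw [eq_upper t10 t00, ht01]
    exact this ▸ t.2
  -- otherwise: counting
  right
  have hTmem : ∀ x : H, NonZ (x : S2 K) → x ∉ cls M₀ →
      ∃ i e d, 2 ≤ d ∧ (e = 1 ∨ e = 2) ∧ i * e * d = n * q * k ∧
        (cls (cen x)).ncard + 2 * i = i * (2 * d) ∧ Nat.card (cen x) = 2 * d ∧
        Nat.card (Subgroup.normalizer (cen x : Set H)) = e * (2 * d) := by
    intro x hx hxM
    have ht : tr (x : S2 K) ^ 2 ≠ 4 := fun h => hxM (hunip x hx h)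
    obtain ⟨-, ⟨d, hd, hcd⟩, e, he, hrel⟩ := semisimple_card hneg hp2 hx ht
    refine ⟨_, e, d, hd, he, ?_, hcd ▸ card_cls hneg hp2 hx, hcd, ?_⟩
    · have h1 := (Subgroup.normalizer (cen x : Set H)).index_mul_card
      have h3 := Subgroup.relIndex_mul_relIndex (⊥ : Subgroup H) (cen x) _ bot_le
        (Subgroup.le_normalizer (H := cen x))
      rw [Subgroup.relIndex_bot_left, Subgroup.relIndex_bot_left, hrel, hcd] at h3
      rw [← h3, hcardH] at h1
      refine Nat.eq_of_mul_eq_mul_left (n := 2) (by norm_num) ?_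
      rw [← h1]; ring
    · have h3 := Subgroup.relIndex_mul_relIndex (⊥ : Subgroup H) (cen x) _ bot_le
        (Subgroup.le_normalizer (H := cen x))
      rw [Subgroup.relIndex_bot_left, Subgroup.relIndex_bot_left, hrel, hcd] at h3
      rw [← h3]; ring
  have hclsNonZ : ∀ (M : Subgroup H), ∀ x ∈ cls M, NonZ (x : S2 K) := fun _ _ hx => hx.1
  have hU0 := card_cls_union_le hneg hp2 (cls M₀) (hclsNonZ M₀)
  rw [hcardH] at hU0
  by_cases hk1 : k = 1
  · exfalso
    rw [hk1, mul_one] at hU0
    obtain ⟨x, hx, hxM⟩ := exists_notMem hneg hp2 (cls M₀) (by rw [hcardH, hk1, mul_one]; nlinarith)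
    obtain ⟨i, e, d, hd, he, hied, hc, -, -⟩ := hTmem x hx hxM
    rw [hk1, mul_one] at hied
    have hdisj : Disjoint (cls M₀) (cls (cen x)) := disjoint_cls_of_notMem hx hxM
    have hU1 := card_cls_union_le hneg hp2 (cls M₀ ∪ cls (cen x))
      (by rintro y (hy | hy) <;> exact hy.1)
    rw [Set.ncard_union_eq hdisj (Set.toFinite _) (Set.toFinite _), hcardH, hk1, mul_one] at hU1
    have hineq : i * d + 1 ≤ n + i := by linarith
    have hid : i * 2 ≤ i * d := Nat.mul_le_mul_left i hd
    have hnq3 : n * 3 ≤ n * q := Nat.mul_le_mul_left n hq3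
    have he2 : e = 2 := by
      rcases he with rfl | rfl
      · exfalso
        rw [mul_one] at hied
        linarith
      · rfl
    subst he2
    have hq3' : q = 3 := by
      by_contra hne
      have hnq4 : n * 4 ≤ n * q := Nat.mul_le_mul_left n (by omega)
      linarith
    have hd2 : d = 2 := by
      by_contra hne
      have hid3 : i * 3 ≤ i * d := Nat.mul_le_mul_left i (by omega)
      rw [hq3'] at hied
      linarith
    subst hd2
    have hneq : i + 1 ≠ n := fun h => hnq (by rw [hq3'] at hied; omega)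
    obtain ⟨x', hx', hxU⟩ := exists_notMem hneg hp2 (cls M₀ ∪ cls (cen x)) (by
      rw [Set.ncard_union_eq hdisj (Set.toFinite _) (Set.toFinite _), hcardH, hk1, mul_one]
      rw [hq3'] at hcls₀ ⊢
      omega)
    obtain ⟨i', e', d', hd', he', hied', hc', -, -⟩ := hTmem x' hx' (fun h => hxU (Or.inl h))
    rw [hk1, mul_one] at hied'
    have hdisj' : Disjoint (cls M₀ ∪ cls (cen x)) (cls (cen x')) := by
      rw [Set.disjoint_union_left]
      exact ⟨disjoint_cls_of_notMem hx' fun h => hxU (Or.inl h),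
        disjoint_cls_of_notMem hx' fun h => hxU (Or.inr h)⟩
    have hU2 := card_cls_union_le hneg hp2 (cls M₀ ∪ cls (cen x) ∪ cls (cen x'))
      (by rintro y ((hy | hy) | hy) <;> exact hy.1)
    rw [Set.ncard_union_eq hdisj' (Set.toFinite _) (Set.toFinite _),
      Set.ncard_union_eq hdisj (Set.toFinite _) (Set.toFinite _), hcardH, hk1, mul_one] at hU2
    rw [hq3'] at hied hied' hU2 hcls₀
    have hid' : i' * 2 ≤ i' * d' := Nat.mul_le_mul_left i' hd'
    rcases he' with rfl | rfl <;> linarith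
  have hk2 : 2 ≤ k := by omega
  -- the torus in the Borel subgroup
  obtain ⟨xT, hxT, hxTM, hcT⟩ : ∃ x : H, NonZ (x : S2 K) ∧ x ∉ cls M₀ ∧
      Nat.card (cen x) = 2 * k := by
    have hPB : P₀ ≤ B₀ := hP₀M₀.trans hM₀B₀
    set χ : borelSub H →* Kˣ := (borelChar H).toHomUnits with hχ
    have hker : χ.ker = P₀.subgroupOf B₀ := by
      ext b
      rw [MonoidHom.mem_ker, Subgroup.mem_subgroupOf, hP₀, mem_uniSub]
      constructor
      · intro hb
        exact ⟨mem_borelSub.mp b.2, congrArg Units.val hb⟩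
      · intro hb
        exact Units.ext hb.2
    have hrange : Nat.card χ.range = 2 * k := by
      have h1 : χ.ker.index = 2 * k := by
        rw [hker, ← Subgroup.relIndex,
          ← Subgroup.relIndex_mul_relIndex P₀ M₀ B₀ hP₀M₀ hM₀B₀, hPrel, ← hk]
      rw [← h1, Subgroup.index_ker]
    haveI : Finite χ.range := Finite.of_surjective χ.rangeRestrict χ.rangeRestrict_surjective
    haveI : IsCyclic χ.range := isCyclic_of_subgroup_isDomain
      ((Units.coeHom K).comp χ.range.subtype) (fun a b h => Subtype.ext (Units.ext h))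
    obtain ⟨⟨g, hg⟩, hgen⟩ := IsCyclic.exists_generator (α := χ.range)
    obtain ⟨b, hbg⟩ := MonoidHom.mem_range.mp hg
    have hord : orderOf (χ b) = 2 * k := by
      rw [hbg, ← Subgroup.orderOf_mk g hg, orderOf_eq_card_of_forall_mem_zpowers hgen, hrange]
    set x : H := (b : H) with hxdef
    have hx10 : (x : S2 K).1 1 0 = 0 := mem_borelSub.mp b.2
    have hsq : (x : S2 K).1 0 0 * (x : S2 K).1 0 0 ≠ 1 := fun h => by
      have h1 : χ b ^ 2 = 1 := Units.ext (by
        rw [Units.val_pow_eq_pow_val, sq]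
        exact h)
      have h3 := Nat.le_of_dvd (by norm_num) (orderOf_dvd_of_pow_eq_one h1)
      omega
    have hxnz : NonZ (x : S2 K) := by
      constructor <;> intro h <;> apply hsq <;> rw [h] <;> simp
    have hxd := det_eq (x : S2 K)
    rw [hx10, mul_zero, sub_zero] at hxd
    have htx : tr (x : S2 K) ^ 2 ≠ 4 := by
      intro h
      rw [tr] at h
      have h3 : ((x : S2 K).1 0 0 * (x : S2 K).1 0 0 - 1) *
          ((x : S2 K).1 0 0 * (x : S2 K).1 0 0 - 1) = 0 := by
        linear_combination ((x : S2 K).1 0 0 * (x : S2 K).1 0 0) * h -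
          (2 * ((x : S2 K).1 0 0 * (x : S2 K).1 0 0) + (x : S2 K).1 0 0 * (x : S2 K).1 1 1 + 1) * hxd
      exact hsq (sub_eq_zero.mp (mul_self_eq_zero.mp h3))
    have hxM : x ∉ cls M₀ := by
      rintro ⟨-, h, hh⟩
      have hd := (semisimple_card hneg hp2 hxnz htx).1
      rw [hh, Subgroup.card_map_of_injective (MulAut.conj h).injective, hM₀card] at hd
      exact hd (dvd_mul_of_dvd_right hpq 2)
    refine ⟨x, hxnz, hxM, le_antisymm ?_ ?_⟩
    · have hTB : cen x ≤ B₀ := by
        intro y hy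
        obtain ⟨α, β, -, -, a3, -⟩ := exists_affine hxnz (congrArg Subtype.val (mem_cen.mp hy))
        rw [hB₀, mem_borelSub, a3, hx10, mul_zero]
      have hinj : Function.Injective (χ.comp (Subgroup.inclusion hTB)) := by
        rw [injective_iff_map_eq_one]
        intro y hy
        have hyP : (y : H) ∈ P₀ := hker.le (show Subgroup.inclusion hTB y ∈ χ.ker from hy)
        have h1 : (y : H) ^ p = 1 := hP₀pow _ hyP
        have h3 : orderOf y ∣ p := orderOf_dvd_of_pow_eq_one (Subtype.ext h1)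
        rcases (Nat.dvd_prime hpf.out).mp h3 with h4 | h4
        · exact orderOf_eq_one_iff.mp h4
        · exact absurd (h4 ▸ orderOf_dvd_natCard y) (semisimple_card hneg hp2 hxnz htx).1
      rw [← hrange]
      exact Nat.card_le_card_of_injective
        (fun y => (⟨_, ⟨Subgroup.inclusion hTB y, rfl⟩⟩ : χ.range))
        (fun a c h => hinj (congrArg Subtype.val h))
    · have h1 : Subgroup.zpowers x ≤ cen x := Subgroup.zpowers_le.mpr (self_mem_cen x)
      refine le_trans ?_ (Subgroup.card_le_of_le h1)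
      rw [Nat.card_zpowers, ← hord]
      have : orderOf (χ b) ∣ orderOf x := by
        rw [hxdef, Subgroup.orderOf_coe]
        exact orderOf_map_dvd χ b
      exact Nat.le_of_dvd (orderOf_pos x) this
  obtain ⟨iT, eT, dT, hdT, heT, hiedT, hclT, hcT', hNT⟩ := hTmem xT hxT hxTM
  have hdk : dT = k := by omega
  subst hdk
  have hieT : iT * eT = n * q := Nat.eq_of_mul_eq_mul_right (by omega : 0 < k) hiedT
  set U₁ := cls M₀ ∪ cls (cen xT) with hU₁
  have hdisj1 : Disjoint (cls M₀) (cls (cen xT)) := disjoint_cls_of_notMem hxT hxTM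
  have hU₁card : U₁.ncard = (cls M₀).ncard + (cls (cen xT)).ncard :=
    Set.ncard_union_eq hdisj1 (Set.toFinite _) (Set.toFinite _)
  have hU₁nz : ∀ y ∈ U₁, NonZ (y : S2 K) := by rintro y (hy | hy) <;> exact hy.1
  obtain ⟨xM, hxM, hxMU⟩ := exists_notMem hneg hp2 U₁ (by
    rw [hU₁card, hcardH]
    have h2k := Nat.mul_le_mul_left (n * q) hk2
    have h3n := Nat.mul_le_mul_left n hq3
    rcases heT with rfl | rfl <;> linarith)
  obtain ⟨iM, eM, dM, hdM, heM, hiedM, hclM, hcM, -⟩ := hTmem xM hxM fun h => hxMU (Or.inl h)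
  have hdisj2 : Disjoint U₁ (cls (cen xM)) := by
    rw [hU₁, Set.disjoint_union_left]
    exact ⟨disjoint_cls_of_notMem hxM fun h => hxMU (Or.inl h),
      disjoint_cls_of_notMem hxM fun h => hxMU (Or.inr h)⟩
  set U₂ := U₁ ∪ cls (cen xM) with hU₂
  have hU₂card : U₂.ncard = U₁.ncard + (cls (cen xM)).ncard :=
    Set.ncard_union_eq hdisj2 (Set.toFinite _) (Set.toFinite _)
  have hU₂nz : ∀ y ∈ U₂, NonZ (y : S2 K) := by
    rintro y (hy | hy)
    · exact hU₁nz y hy
    · exact hy.1
  have hle2 := card_cls_union_le hneg hp2 U₂ hU₂nz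
  rw [hU₂card, hU₁card, hcardH] at hle2
  -- `eT = 2` and `eM = 2`
  have hiM : n * q * k ≤ 2 * (iM * (eM * (dM - 1))) := by
    obtain ⟨c, rfl⟩ : ∃ c, dM = c + 2 := ⟨dM - 2, by omega⟩
    rw [show c + 2 - 1 = c + 1 by omega]
    linarith [Nat.zero_le (iM * eM * c)]
  have heT2 : eT = 2 := by
    rcases heT with rfl | rfl
    · exfalso
      obtain ⟨c, rfl⟩ : ∃ c, dM = c + 2 := ⟨dM - 2, by omega⟩
      rw [show c + 2 - 1 = c + 1 by omega] at hiM
      have hbig : n * q * k ≤ 4 * (iM * (c + 1)) := by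
        have := Nat.zero_le (iM * (c + 1))
        rcases heM with rfl | rfl <;> linarith
      have : iT = n * q := by rw [← hieT, mul_one]
      subst this
      linarith [Nat.mul_le_mul_left n (Nat.mul_le_mul hq3 hk2)]
    · rfl
  subst heT2
  have heM2 : eM = 2 := by
    rcases heM with rfl | rfl
    · exfalso
      obtain ⟨c, rfl⟩ : ∃ c, dM = c + 2 := ⟨dM - 2, by omega⟩
      rw [show c + 2 - 1 = c + 1 by omega] at hiM
      linarith [Nat.mul_le_mul_left n hq3]
    · rfl
  subst heM2
  -- no further class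
  have hcover : ∀ y : H, NonZ (y : S2 K) → y ∈ U₂ := by
    intro y hy
    by_contra hyU
    obtain ⟨i', e', d', hd', he', hied', hc', -, -⟩ :=
      hTmem y hy fun h => hyU (Or.inl (Or.inl h))
    have hdisj3 : Disjoint U₂ (cls (cen y)) := by
      rw [hU₂, hU₁, Set.disjoint_union_left, Set.disjoint_union_left]
      exact ⟨⟨disjoint_cls_of_notMem hy fun h => hyU (Or.inl (Or.inl h)),
        disjoint_cls_of_notMem hy fun h => hyU (Or.inl (Or.inr h))⟩,
        disjoint_cls_of_notMem hy fun h => hyU (Or.inr h)⟩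
    have hle3 := card_cls_union_le hneg hp2 (U₂ ∪ cls (cen y))
      (by rintro w (hw | hw); exacts [hU₂nz w hw, hw.1])
    rw [Set.ncard_union_eq hdisj3 (Set.toFinite _) (Set.toFinite _), hU₂card, hU₁card,
      hcardH] at hle3
    obtain ⟨c, rfl⟩ : ∃ c, dM = c + 2 := ⟨dM - 2, by omega⟩
    obtain ⟨c', rfl⟩ : ∃ c', d' = c' + 2 := ⟨d' - 2, by omega⟩
    have h1 : n * q * k ≤ 4 * (iM * (c + 1)) := by linarith [Nat.zero_le (iM * c)]
    have h3 : n * q * k ≤ 4 * (i' * (c' + 1)) := by
      have := Nat.zero_le (i' * c')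
      rcases he' with rfl | rfl <;> linarith
    linarith [Nat.mul_le_mul_left n hq3]
  have heq : U₂.ncard + 2 = 2 * (n * q * k) := by
    refine le_antisymm (hcardH ▸ card_cls_union_le hneg hp2 U₂ hU₂nz) ?_
    by_contra hlt
    obtain ⟨y, hy, hyU⟩ := exists_notMem hneg hp2 U₂ (hcardH ▸ not_le.mp hlt)
    exact hyU (hcover y hy)
  rw [hU₂card, hU₁card] at heq
  -- the arithmetic
  have hE : n * q + 2 = 2 * iM + 2 * n := by linarith
  clear_value q
  obtain ⟨r, rfl⟩ | hr : (∃ r, q = r + 2) ∨ q < 2 := by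
    by_cases h : q < 2
    · exact Or.inr h
    · exact Or.inl ⟨q - 2, by omega⟩
  swap
  · omega
  have hjpos : 1 ≤ j := by
    by_contra h
    have : j = 0 := by omega
    subst this; omega
  have hD : dM * (1 + r * j) = (1 + (r + 2) * j) * k := by
    have h3 : 2 * iM = (r + 2) * (1 + r * j) := by rw [hj] at hE; nlinarith
    refine Nat.eq_of_mul_eq_mul_left (n := r + 2) (by omega) ?_
    rw [hj] at hiedM
    calc (r + 2) * (dM * (1 + r * j)) = 2 * iM * dM := by rw [h3]; ring
      _ = iM * 2 * dM := by ring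
      _ = _ := by rw [hiedM]; ring
  have hdvd : (1 + r * j) ∣ 2 * k := by
    have h1 : (1 + r * j) ∣ j * (2 * k) := by
      have h4 : (1 + r * j) * dM = (1 + r * j) * k + j * (2 * k) := by linarith
      have h5 : (1 + r * j) ∣ (1 + r * j) * k + j * (2 * k) := ⟨dM, h4.symm⟩
      exact (Nat.dvd_add_right (dvd_mul_right _ _)).mp h5
    refine Nat.Coprime.dvd_of_dvd_mul_left ?_ h1
    exact (Nat.coprime_add_mul_right_left 1 j r).mpr (Nat.coprime_one_left j)
  have hle := Nat.le_of_dvd (by omega) hdvd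
  have hrodd : r % 2 = 1 := by
    obtain ⟨s, hs⟩ := hqodd
    omega
  have hj1 : j ≠ 1 := fun h => by subst h; omega
  have hr1 : r = 1 := by
    by_contra hne
    have hr3 : 3 ≤ r := by omega
    have hj2 : j ≤ 2 := by
      by_contra h
      have : r * 3 ≤ r * j := Nat.mul_le_mul_left r (by omega)
      omega
    have : j = 2 := by omega
    subst this
    have hco : Nat.Coprime (1 + r * 2) 2 :=
      (Nat.coprime_add_mul_right_left 1 2 r).mpr (Nat.coprime_one_left 2)
    have := Nat.le_of_dvd (by omega) (hco.dvd_of_dvd_mul_left hdvd)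
    omega
  subst hr1
  have hkT : k = 2 := by omega
  clear_value k
  subst hkT
  have hj3 : j = 3 := by
    have : j ≤ 3 := by omega
    interval_cases j
    · exact absurd rfl hj1
    · norm_num at hdvd
    · rfl
  subst hj3
  have hdM5 : dM = 5 := by omega
  subst hdM5
  have hn10 : n = 10 := by omega
  -- the configuration of order `120`
  have hp3 : p = 3 := (Nat.prime_dvd_prime_iff_eq hpf.out Nat.prime_three).mp (by simpa using hpq)
  refine ⟨hp3, ?_⟩
  set T := cen xT with hT
  set S := Subgroup.normalizer (T : Set H) with hS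
  have hT4 : Nat.card T = 4 := hcT
  have hS8 : Nat.card S = 8 := hNT
  have htr_ne : tr (xT : S2 K) ^ 2 ≠ 4 := fun h => hxTM (hunip xT hxT h)
  -- `xT ^ 2 = -1`
  have hxx : (xT : S2 K) * xT = -1 := by
    have h1 : xT ^ 4 = 1 := by
      have := pow_card_eq_one' (x := (⟨xT, self_mem_cen xT⟩ : T))
      rw [hT4] at this
      exact congrArg Subtype.val this
    have h4 : ((xT : S2 K) * xT) * ((xT : S2 K) * xT) = 1 := by
      have := congrArg Subtype.val h1
      simpa [pow_succ, mul_assoc] using this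
    rcases eq_one_or_neg_one_of_sq h2 h4 with h | h
    · rcases eq_one_or_neg_one_of_sq h2 h with h' | h'
      · exact absurd h' hxT.1
      · exact absurd h' hxT.2
    · exact h
  have hinv : ∀ x : H, (x : S2 K) * x = -1 → ((x⁻¹ : H) : S2 K) = -(x : S2 K) := by
    intro x hx
    rw [Subgroup.coe_inv]
    refine inv_eq_of_mul_eq_one_right ?_
    rw [← neg_one_mul', ← commute_neg_one, ← mul_assoc, hx]
    exact neg_one_mul_self
  -- elements of `S` outside `T`
  have hout : ∀ y ∈ S, y ∉ T → (y * xT * y⁻¹ = xT⁻¹ ∧ (y : S2 K) * y = -1) := by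
    intro y hy hyT
    have hmem := (Subgroup.mem_normalizer_iff.mp hy xT).mp (self_mem_cen xT)
    have hcase := eq_or_inv_of_trace_eq h2 hxT htr_ne (congrArg Subtype.val (mem_cen.mp hmem))
      (by simp only [Subgroup.coe_mul, Subgroup.coe_inv]; exact tr_conj _ _)
    have hyxi : y * xT * y⁻¹ = xT⁻¹ := by
      rcases hcase with e | e
      · exfalso
        apply hyT
        have e' : y * xT * y⁻¹ = xT := Subtype.ext e
        rw [mul_inv_eq_iff_eq_mul] at e'
        rw [hT, mem_cen]
        exact e'.symm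
      · exact Subtype.ext e
    refine ⟨hyxi, ?_⟩
    -- `y²` lies in `T` and commutes with `y`
    have hy2T : y * y ∈ T := by
      rw [hT, mem_cen]
      have h3 : y * y * xT * (y * y)⁻¹ = xT := by
        calc y * y * xT * (y * y)⁻¹ = y * (y * xT * y⁻¹) * y⁻¹ := by group
          _ = y * xT⁻¹ * y⁻¹ := by rw [hyxi]
          _ = (y * xT * y⁻¹)⁻¹ := by group
          _ = xT := by rw [hyxi, inv_inv]
      rw [mul_inv_eq_iff_eq_mul] at h3
      exact h3.symm
    by_cases hz2 : NonZ ((y * y : H) : S2 K)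
    · exfalso
      apply hyT
      rw [hT, ← cen_eq_of_mem hxT hz2 hy2T]
      exact mem_cen.mpr (by group)
    · unfold NonZ at hz2
      rw [Subgroup.coe_mul] at hz2
      have hynz : NonZ (y : S2 K) := by
        refine ⟨fun h => hyT ?_, fun h => hyT ?_⟩
        · rw [show y = 1 from Subtype.ext h]; exact one_mem T
        · rw [show y = z from Subtype.ext h]; exact negOne_mem_cen hneg xT
      by_contra hne
      have h5 : (y : S2 K) * y = 1 := by
        by_contra h6
        exact hz2 ⟨h6, hne⟩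
      rcases eq_one_or_neg_one_of_sq h2 h5 with h | h
      · exact hynz.1 h
      · exact hynz.2 h
  have hTS : T ≤ S := Subgroup.le_normalizer
  obtain ⟨y₁, hy₁S, hy₁T⟩ : ∃ y ∈ S, y ∉ T := by
    by_contra h
    push Not at h
    have := Subgroup.card_le_of_le (show S ≤ T from h)
    omega
  -- a conjugating element into each torus of `S`
  have hmove : ∀ y ∈ S, y ∉ T → ∃ h : H, h ∈ Subgroup.normalizer (S : Set H) ∧
      cen y = T.map (MulAut.conj h).toMonoidHom := by
    intro y hy hyT
    obtain ⟨hyx, hyy⟩ := hout y hy hyT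
    have hynz : NonZ (y : S2 K) := by
      refine ⟨fun h => hne1 ?_, fun h => hne1 ?_⟩ <;>
      · rw [h] at hyy
        have := congrArg (fun w : S2 K => w.1 0 0) hyy
        simpa using this
    have hy4 : y ^ 4 = 1 := Subtype.ext (by
      rw [Subgroup.coe_pow, show 4 = 2 * 2 from rfl, pow_mul, sq (y : S2 K), hyy, sq,
        neg_one_mul_self, OneMemClass.coe_one])
    have hy2 : y ^ 2 ≠ 1 := fun h => by
      have h' := congrArg Subtype.val h
      rw [Subgroup.coe_pow, sq, hyy, OneMemClass.coe_one] at h'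
      have := congrArg (fun w : S2 K => w.1 0 0) h'
      simp only [neg_entry, one_entry, if_true] at this
      exact hne1 this.symm
    have hord : orderOf y = 4 := orderOf_eq_prime_pow (p := 2) (n := 1) (by simpa using hy2)
      (by norm_num; exact hy4)
    have hdvd4 : 4 ∣ Nat.card (cen y) := by
      rw [← hord]
      exact (Subgroup.orderOf_mk y (self_mem_cen y)) ▸ orderOf_dvd_natCard (⟨y, self_mem_cen y⟩ : cen y)
    rcases hcover y hynz with (hy0 | hy0) | hy0
    · obtain ⟨-, g, hg⟩ := hy0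
      rw [hg, Subgroup.card_map_of_injective (MulAut.conj g).injective, hM₀card] at hdvd4
      omega
    · obtain ⟨-, h, hh⟩ := hy0
      refine ⟨h, ?_, hh⟩
      have hcy : cen y = Subgroup.zpowers y := by
        refine (Subgroup.eq_of_le_of_card_ge (Subgroup.zpowers_le.mpr (self_mem_cen y)) ?_).symm
        rw [hh, Subgroup.card_map_of_injective (MulAut.conj h).injective, hT4, Nat.card_zpowers, hord]
      have hxy : xT * y * xT⁻¹ = y⁻¹ := by
        refine Subtype.ext ?_
        rw [Subgroup.coe_mul, Subgroup.coe_mul, hinv xT hxx, hinv y hyy]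
        have h7 : (y : S2 K) * xT = -(xT : S2 K) * y := by
          have h8 : y * xT = xT⁻¹ * y := by rw [← hyx]; group
          have := congrArg Subtype.val h8
          rw [Subgroup.coe_mul, Subgroup.coe_mul, hinv xT hxx] at this
          exact this
        rw [mul_neg, mul_assoc, h7, neg_mul, mul_neg, ← mul_assoc, hxx, neg_one_mul', neg_neg]
      have hScy : S ≤ Subgroup.normalizer (cen y : Set H) := by
        have hxn : xT ∈ Subgroup.normalizer (cen y : Set H) := by
          rw [conj_mem_normalizer_iff, hcy, MonoidHom.map_zpowers]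
          simp [hxy, Subgroup.zpowers_inv]
        have hyn : y ∈ Subgroup.normalizer (cen y : Set H) := Subgroup.le_normalizer (self_mem_cen y)
        have hTx : T = Subgroup.zpowers xT := by
          refine (Subgroup.eq_of_le_of_card_ge (Subgroup.zpowers_le.mpr (self_mem_cen xT)) ?_).symm
          rw [hT4, Nat.card_zpowers]
          have : orderOf xT = 4 := orderOf_eq_prime_pow (p := 2) (n := 1)
            (fun h => by
              have h' := congrArg Subtype.val h
              norm_num [sq] at h'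
              rw [hxx] at h'
              have := congrArg (fun w : S2 K => w.1 0 0) h'
              simp only [neg_entry, one_entry, if_true] at this
              exact hne1 this.symm)
            (Subtype.ext (by
              norm_num
              rw [show 4 = 2 * 2 from rfl, pow_mul, sq (xT : S2 K), hxx, sq, neg_one_mul_self]))
          omega
        intro s hs
        have key : ∀ t ∈ T, t ∈ Subgroup.normalizer (cen y : Set H) := fun t ht => by
          rw [hTx] at ht
          exact Subgroup.zpowers_le.mpr hxn ht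
        by_cases hsT : s ∈ T
        · exact key s hsT
        · have hsy : s * y⁻¹ ∈ T := by
            obtain ⟨hsx, -⟩ := hout s hs hsT
            rw [hT, mem_cen]
            have h9 : s * y⁻¹ * xT * (s * y⁻¹)⁻¹ = xT := by
              have h10 : y⁻¹ * xT * y = xT⁻¹ := by
                have := congrArg (·⁻¹) (congrArg (fun w => y⁻¹ * w * y) hyx)
                simp [mul_assoc] at this
                simpa [mul_assoc] using this.symm
              calc s * y⁻¹ * xT * (s * y⁻¹)⁻¹ = s * (y⁻¹ * xT * y) * s⁻¹ := by group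
                _ = s * xT⁻¹ * s⁻¹ := by rw [h10]
                _ = (s * xT * s⁻¹)⁻¹ := by group
                _ = xT := by rw [hsx, inv_inv]
            rw [mul_inv_eq_iff_eq_mul] at h9
            exact h9.symm
          have := mul_mem (key _ hsy) hyn
          simpa using this
      have hmap : S.map (MulAut.conj h).toMonoidHom = Subgroup.normalizer (cen y : Set H) := by
        rw [hS, hh]
        exact Subgroup.map_equiv_normalizer_eq T (MulAut.conj h)
      rw [conj_mem_normalizer_iff]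
      refine (Subgroup.eq_of_le_of_card_ge ?_ ?_).symm
      · rw [hmap]; exact hScy
      · rw [Subgroup.card_map_of_injective (MulAut.conj h).injective]
    · obtain ⟨-, g, hg⟩ := hy0
      rw [hg, Subgroup.card_map_of_injective (MulAut.conj g).injective, hcM] at hdvd4
      omega
  -- three cosets of `S` in its normalizer
  set NS := Subgroup.normalizer (S : Set H) with hNS
  have hSNS : S ≤ NS := Subgroup.le_normalizer
  have hy₂T : xT * y₁ ∉ T := fun h => hy₁T (by simpa using mul_mem (inv_mem (self_mem_cen xT)) h)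
  have hy₂S : xT * y₁ ∈ S := mul_mem (hTS (self_mem_cen xT)) hy₁S
  obtain ⟨h₁, hh₁N, hh₁⟩ := hmove y₁ hy₁S hy₁T
  obtain ⟨h₂, hh₂N, hh₂⟩ := hmove _ hy₂S hy₂T
  have hne₁ : cen y₁ ≠ T := fun h => hy₁T (h ▸ self_mem_cen y₁)
  have hne₂ : cen (xT * y₁) ≠ T := fun h => hy₂T (h ▸ self_mem_cen _)
  have hnz₁ : NonZ (y₁ : S2 K) := by
    refine ⟨fun h => hy₁T ?_, fun h => hy₁T ?_⟩
    · rw [show y₁ = 1 from Subtype.ext h]; exact one_mem T
    · rw [show y₁ = z from Subtype.ext h]; exact negOne_mem_cen hneg xT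
  have hne₁₂ : cen y₁ ≠ cen (xT * y₁) := fun h => hne₁ (by
    have h1 : xT ∈ cen y₁ := by
      have h3 : xT * y₁ ∈ cen y₁ := h ▸ self_mem_cen _
      simpa using mul_mem h3 (inv_mem (self_mem_cen y₁))
    exact (cen_eq_of_mem hnz₁ hxT h1).symm)
  have horb3 : S.relIndex NS = 3 := by
    let F : NS ⧸ S.subgroupOf NS → Subgroup H := fun c =>
      T.map (MulAut.conj (c.out : H)).toMonoidHom
    have hFS : ∀ g : NS, F (QuotientGroup.mk g) = T.map (MulAut.conj (g : H)).toMonoidHom := by
      intro g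
      obtain ⟨s, hs⟩ := QuotientGroup.mk_out_eq_mul (S.subgroupOf NS) g
      simp only [F]
      rw [hs, Subgroup.coe_mul, ← map_conj_conj,
        conj_mem_normalizer_iff.mp (show ((s : NS) : H) ∈ S from s.2)]
    have hinjF : Function.Injective F := by
      intro c c' e
      rw [← QuotientGroup.out_eq' c, ← QuotientGroup.out_eq' c', QuotientGroup.eq,
        Subgroup.mem_subgroupOf]
      refine conj_mem_normalizer_iff.mpr ?_
      rw [Subgroup.coe_mul, Subgroup.coe_inv, ← map_conj_conj]
      have e' : T.map (MulAut.conj (c.out : H)).toMonoidHom =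
          T.map (MulAut.conj (c'.out : H)).toMonoidHom := e
      rw [← e', map_conj_conj, inv_mul_cancel, map_conj_one]
    have hrange : Set.range F = {T, cen y₁, cen (xT * y₁)} := by
      refine subset_antisymm ?_ ?_
      · rintro _ ⟨c, rfl⟩
        obtain ⟨g, rfl⟩ := QuotientGroup.mk_surjective c
        rw [hFS, hT, ← cen_conj]
        set g' := (g : H) * xT * (g : H)⁻¹ with hg'
        have hgS : g' ∈ S := (Subgroup.mem_normalizer_iff.mp g.2 xT).mp (hTS (self_mem_cen xT))
        have hg'nz : NonZ (g' : S2 K) := nonZ_conj hxT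
        by_cases hgT : g' ∈ T
        · exact Or.inl (cen_eq_of_mem hxT hg'nz hgT)
        · right
          obtain ⟨hgx, -⟩ := hout g' hgS hgT
          obtain ⟨hy₁x, -⟩ := hout y₁ hy₁S hy₁T
          have hq' : g' * y₁⁻¹ ∈ T := by
            rw [hT, mem_cen]
            have h9 : g' * y₁⁻¹ * xT * (g' * y₁⁻¹)⁻¹ = xT := by
              have h10 : y₁⁻¹ * xT * y₁ = xT⁻¹ := by
                have := congrArg (·⁻¹) (congrArg (fun w => y₁⁻¹ * w * y₁) hy₁x)
                simp [mul_assoc] at this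
                simpa [mul_assoc] using this.symm
              calc g' * y₁⁻¹ * xT * (g' * y₁⁻¹)⁻¹ = g' * (y₁⁻¹ * xT * y₁) * g'⁻¹ := by group
                _ = g' * xT⁻¹ * g'⁻¹ := by rw [h10]
                _ = (g' * xT * g'⁻¹)⁻¹ := by group
                _ = xT := by rw [hgx, inv_inv]
            rw [mul_inv_eq_iff_eq_mul] at h9
            exact h9.symm
          -- `T = {1, -1, xT, -xT}`
          have hTset : ∀ t ∈ T, (t : S2 K) = 1 ∨ (t : S2 K) = -1 ∨ t = xT ∨ t = z * xT := by
            intro t ht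
            by_cases hnz : NonZ (t : S2 K)
            · right; right
              have hc := cen_eq_of_mem hxT hnz ht
              obtain ⟨α, β, a1, a2, a3, a4⟩ := exists_affine hxT (congrArg Subtype.val (mem_cen.mp ht))
              have htt : (t : S2 K) * t = -1 := by
                have h1 : t ^ 4 = 1 := by
                  have := pow_card_eq_one' (x := (⟨t, ht⟩ : T))
                  rw [hT4] at this
                  exact congrArg Subtype.val this
                have h4 : ((t : S2 K) * t) * ((t : S2 K) * t) = 1 := by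
                  have := congrArg Subtype.val h1
                  simpa [pow_succ, mul_assoc] using this
                rcases eq_one_or_neg_one_of_sq h2 h4 with h | h
                · rcases eq_one_or_neg_one_of_sq h2 h with h' | h'
                  · exact absurd h' hnz.1
                  · exact absurd h' hnz.2
                · exact h
              have htr0 : ∀ x : H, (x : S2 K) * x = -1 → tr (x : S2 K) = 0 := by
                intro x hx
                have hi := hinv x hx
                rw [Subgroup.coe_inv] at hi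
                obtain ⟨i1, -, -, -⟩ := inv_entry (x : S2 K)
                rw [hi, neg_entry] at i1
                rw [tr]; linear_combination -i1
              rcases eq_or_inv_of_trace_eq h2 hxT htr_ne (congrArg Subtype.val (mem_cen.mp ht))
                (by rw [htr0 t htt, htr0 xT hxx]) with e | e
              · exact Or.inl (Subtype.ext e)
              · refine Or.inr (Subtype.ext ?_)
                rw [e, ← Subgroup.coe_inv, hinv xT hxx, Subgroup.coe_mul, hz, neg_one_mul']
            · unfold NonZ at hnz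
              by_cases h1 : (t : S2 K) = 1
              · exact Or.inl h1
              · by_cases h3 : (t : S2 K) = -1
                · exact Or.inr (Or.inl h3)
                · exact absurd ⟨h1, h3⟩ hnz
          have hzc : ∀ w : H, NonZ (w : S2 K) → NonZ ((z * w : H) : S2 K) ∧ cen (z * w) = cen w := by
            intro w hw
            have hnz : NonZ ((z * w : H) : S2 K) := by
              rw [Subgroup.coe_mul, hz, neg_one_mul']
              exact ⟨fun h => hw.2 (by rw [← h, neg_neg]), fun h => hw.1 (neg_injective h)⟩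
            exact ⟨hnz, cen_eq_of_mem hw hnz (mul_mem (negOne_mem_cen hneg w) (self_mem_cen w))⟩
          have hnz₂ : NonZ ((xT * y₁ : H) : S2 K) := by
            refine ⟨fun h => hy₂T ?_, fun h => hy₂T ?_⟩
            · rw [show xT * y₁ = 1 from Subtype.ext h]; exact one_mem T
            · rw [show xT * y₁ = z from Subtype.ext h]; exact negOne_mem_cen hneg xT
          have hgy : g' = (g' * y₁⁻¹) * y₁ := by group
          rcases hTset _ hq' with h | h | h | h
          · left; rw [hgy, show g' * y₁⁻¹ = 1 from Subtype.ext h, one_mul]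
          · left; rw [hgy, show g' * y₁⁻¹ = z from Subtype.ext h]; exact (hzc y₁ hnz₁).2
          · right; rw [hgy, h]; rfl
          · right; rw [hgy, h, mul_assoc]; exact (hzc _ hnz₂).2
      · rintro _ (rfl | rfl | rfl)
        · exact ⟨QuotientGroup.mk 1, by rw [hFS]; exact map_conj_one T⟩
        · exact ⟨QuotientGroup.mk ⟨h₁, hh₁N⟩, by rw [hFS]; exact hh₁.symm⟩
        · exact ⟨QuotientGroup.mk ⟨h₂, hh₂N⟩, by rw [hFS]; exact hh₂.symm⟩
    have h3 := Set.ncard_range_of_injective hinjF
    rw [hrange] at h3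
    rw [Subgroup.relIndex, Subgroup.index, ← h3,
      Set.ncard_insert_of_notMem (by simp [Ne.symm hne₁, Ne.symm hne₂]) (Set.toFinite _),
      Set.ncard_pair hne₁₂]
  have h3dvd : 3 ∣ Nat.card NS := horb3 ▸ Subgroup.relIndex_dvd_card S NS
  obtain ⟨⟨a, haN⟩, hord⟩ := exists_prime_orderOf_dvd_card' (hp := ⟨Nat.prime_three⟩) 3 h3dvd
  rw [Subgroup.orderOf_mk] at hord
  have ha3 : a ^ 3 = 1 := hord ▸ pow_orderOf_eq_one a
  have haS : a ∉ S := fun h => by
    have h3 := Subgroup.orderOf_dvd_natCard S h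
    rw [hord, hS8] at h3
    norm_num at h3
  have hax : a * xT * a⁻¹ ∈ S := (Subgroup.mem_normalizer_iff.mp haN xT).mp (hTS (self_mem_cen xT))
  have haxT : a * xT * a⁻¹ ∉ T := fun h => haS (by
    rw [hS, conj_mem_normalizer_iff, hT, ← cen_conj]
    exact cen_eq_of_mem hxT (nonZ_conj hxT) h)
  obtain ⟨hanti, -⟩ := hout _ hax haxT
  refine ⟨(a : S2 K), (xT : S2 K), a.2, xT.2, congrArg Subtype.val ha3, fun h => ?_, hxx, ?_⟩
  · have h' : a = 1 := Subtype.ext h
    rw [h', orderOf_one] at hord
    norm_num at hord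
  · set b := a * xT * a⁻¹ with hb
    have e : b * xT = xT⁻¹ * b := by rw [← hanti]; group
    have e' : (b : S2 K) * (xT : S2 K) = ((xT⁻¹ : H) : S2 K) * b := congrArg Subtype.val e
    rw [hinv xT hxx] at e'
    have hb' : (b : S2 K) = (a : S2 K) * xT * (a : S2 K)⁻¹ := by simp [hb]
    rw [← hb', e', ← neg_one_mul' (xT : S2 K), mul_assoc, neg_one_mul', neg_neg]

/-! ### The copy of `SL(2, p)` -/

theorem exists_hom_of_mem (hu : upper 1 ∈ H) (hw : lower 1 ∈ H) :
    ∃ ψ : Matrix.SpecialLinearGroup (Fin 2) (ZMod p) →* S2 K,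
      Function.Injective ψ ∧ (∀ x, ψ x ∈ H) ∧
        ∀ x, (ψ x).1 = x.1.map (ZMod.castHom (dvd_refl p) K) := by
  let ι : ZMod p →+* K := ZMod.castHom (dvd_refl p) K
  let ψ : Matrix.SpecialLinearGroup (Fin 2) (ZMod p) →* S2 K := Matrix.SpecialLinearGroup.map ι
  have hψ : ∀ (x : Matrix.SpecialLinearGroup (Fin 2) (ZMod p)) (i j : Fin 2),
      (ψ x).1 i j = ι (x.1 i j) := fun _ _ _ => rfl
  refine ⟨ψ, ?_, ?_, fun _ => rfl⟩
  · intro x y h
    refine Subtype.ext (Matrix.ext fun i j => ι.injective ?_)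
    rw [← hψ, ← hψ, h]
  · suffices H.comap ψ = ⊤ from fun x => this.ge (Subgroup.mem_top x)
    refine Cfsg.Agent.Classical.sl_subgroup_eq_top_of_transvection_mem _ fun i j hij c => ?_
    obtain ⟨m, rfl⟩ : ∃ m : ℕ, (m : ZMod p) = c := ⟨c.val, ZMod.natCast_zmod_val c⟩
    have hup : ∀ m : ℕ, upper (m : K) ∈ H := by
      intro m
      induction m with
      | zero => rw [Nat.cast_zero, upper_zero]; exact one_mem H
      | succ m ih => rw [Nat.cast_succ, ← upper_mul]; exact mul_mem ih hu
    have hlo : ∀ m : ℕ, lower (m : K) ∈ H := by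
      intro m
      induction m with
      | zero =>
        rw [Nat.cast_zero, show lower (0 : K) = 1 from
          ext_entries (by simp) (by simp) (by simp) (by simp)]
        exact one_mem H
      | succ m ih => rw [Nat.cast_succ, ← lower_mul]; exact mul_mem ih hw
    rw [Subgroup.mem_comap]
    fin_cases i <;> fin_cases j
    · exact absurd rfl hij
    · convert hup m using 1
      refine ext_entries ?_ ?_ ?_ ?_ <;> (rw [hψ]) <;>
        simp [Matrix.SpecialLinearGroup.transvection, Matrix.transvection]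
    · convert hlo m using 1
      refine ext_entries ?_ ?_ ?_ ?_ <;> (rw [hψ]) <;>
        simp [Matrix.SpecialLinearGroup.transvection, Matrix.transvection]
    · exact absurd rfl hij

theorem exists_hom_of_order_three (hp3 : p = 3) {a i : S2 K} (ha : a ∈ H) (hi : i ∈ H)
    (ha3 : a ^ 3 = 1) (ha1 : a ≠ 1) (hii : i * i = -1)
    (hanti : i * (a * i * a⁻¹) = -(a * i * a⁻¹ * i)) :
    ∃ (T : Matrix (Fin 2) (Fin 2) K) (ψ : Matrix.SpecialLinearGroup (Fin 2) (ZMod p) →* S2 K),
      T.det ≠ 0 ∧ Function.Injective ψ ∧ (∀ x, ψ x ∈ H) ∧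
        ∀ x, (ψ x).1 * T = T * x.1.map (ZMod.castHom (dvd_refl p) K) := by
  subst hp3
  have h2 : (2 : K) ≠ 0 := two_ne_zero' (p := 3) (by norm_num)
  have hta : tr a = 2 := tr_eq_two_of_pow_eq_one (p := 3) (k := 1) (by simpa using ha3)
  -- a vector fixed by `a`
  obtain ⟨v, hv, hav⟩ : ∃ v : Fin 2 → K, v ≠ 0 ∧ a.1.mulVec v = v := by
    obtain ⟨v, hv, hav⟩ :=
      Matrix.exists_mulVec_eq_zero_iff.mpr (show (a.1 - 1).det = 0 by
        have hd := det_eq a
        rw [tr] at hta
        rw [Matrix.det_fin_two]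
        simp
        linear_combination hd - hta)
    refine ⟨v, hv, ?_⟩
    rwa [Matrix.sub_mulVec, Matrix.one_mulVec, sub_eq_zero] at hav
  set v' := i.1.mulVec v with hv'
  have hii' : i.1.mulVec v' = -v := by
    rw [hv', Matrix.mulVec_mulVec, ← Matrix.SpecialLinearGroup.coe_mul, hii,
      Matrix.SpecialLinearGroup.coe_neg, Matrix.SpecialLinearGroup.coe_one, Matrix.neg_mulVec,
      Matrix.one_mulVec]
  have hainv : (a⁻¹).1.mulVec v = v := by
    calc (a⁻¹).1.mulVec v = (a⁻¹).1.mulVec (a.1.mulVec v) := by rw [hav]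
      _ = v := by
        rw [Matrix.mulVec_mulVec, ← Matrix.SpecialLinearGroup.coe_mul, inv_mul_cancel,
          Matrix.SpecialLinearGroup.coe_one, Matrix.one_mulVec]
  set g : Matrix (Fin 2) (Fin 2) K := !![v 0, v' 0; v 1, v' 1] with hg
  have hdet : g.det ≠ 0 := by
    intro h0
    -- otherwise `v` is an eigenvector of `i`
    obtain ⟨c, hc⟩ : ∃ c : K, v' = c • v := by
      rw [hg, Matrix.det_fin_two] at h0
      simp at h0
      by_cases h00 : v 0 = 0
      · have h01 : v 1 ≠ 0 := fun h => hv (funext fun k => by fin_cases k <;> assumption)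
        refine ⟨v' 1 / v 1, funext fun k => ?_⟩
        fin_cases k
        · rw [h00, zero_mul, zero_sub, neg_eq_zero, mul_eq_zero] at h0
          have := h0.resolve_right h01
          simp [h00, this]
        · simp [h01]
      · refine ⟨v' 0 / v 0, funext fun k => ?_⟩
        fin_cases k
        · simp [h00]
        · simp; field_simp; linear_combination h0
    have hiv : i.1.mulVec v = c • v := hc
    set b := a * i * a⁻¹ with hb
    have hbv : b.1.mulVec v = c • v := by
      rw [hb, Matrix.SpecialLinearGroup.coe_mul, Matrix.SpecialLinearGroup.coe_mul,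
        ← Matrix.mulVec_mulVec, hainv, ← Matrix.mulVec_mulVec, hiv, Matrix.mulVec_smul, hav]
    have h := congrArg (fun w : S2 K => w.1.mulVec v) hanti
    simp only [Matrix.SpecialLinearGroup.coe_mul, Matrix.SpecialLinearGroup.coe_neg,
      Matrix.neg_mulVec, ← Matrix.mulVec_mulVec, hbv, hiv, Matrix.mulVec_smul] at h
    have hc2 : c * c = -1 := by
      have h3 := hii'
      rw [hc, Matrix.mulVec_smul, hiv, smul_smul] at h3
      obtain ⟨k, hk⟩ : ∃ k, v k ≠ 0 := by
        by_contra hh
        push Not at hh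
        exact hv (funext hh)
      have := congrFun h3 k
      simp at this
      exact mul_right_cancel₀ hk (by linear_combination this)
    rw [smul_smul, hc2] at h
    apply hv
    have h4 : (2 : K) • v = 0 := by
      rw [two_smul]
      have : -v = v := by simpa using h
      nth_rewrite 1 [← this]; exact neg_add_cancel v
    exact (smul_eq_zero.mp h4).resolve_left h2
  let gu := Matrix.GeneralLinearGroup.mkOfDetNeZero g hdet
  let c : S2 K →* S2 K :=
    { toFun := fun x => ⟨((gu⁻¹ : GL (Fin 2) K) : Matrix (Fin 2) (Fin 2) K) * x.1 * g, by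
        rw [Matrix.det_mul, Matrix.det_mul, x.2, mul_one, ← Matrix.det_mul,
          show g = (gu : Matrix (Fin 2) (Fin 2) K) from rfl, Units.inv_mul, Matrix.det_one]⟩
      map_one' := Subtype.ext (by
        simp only [Matrix.SpecialLinearGroup.coe_one, mul_one]
        exact Units.inv_mul gu)
      map_mul' := fun x y => Subtype.ext (by
        show ((gu⁻¹ : GL (Fin 2) K) : Matrix (Fin 2) (Fin 2) K) * (x.1 * y.1) * g =
          ((gu⁻¹ : GL (Fin 2) K) : Matrix (Fin 2) (Fin 2) K) * x.1 * g *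
            (((gu⁻¹ : GL (Fin 2) K) : Matrix (Fin 2) (Fin 2) K) * y.1 * g)
        have : g * ((gu⁻¹ : GL (Fin 2) K) : Matrix (Fin 2) (Fin 2) K) = 1 := Units.mul_inv gu
        simp only [mul_assoc]
        rw [← mul_assoc g, this, one_mul]) }
  have hgg : g * ((gu⁻¹ : GL (Fin 2) K) : Matrix (Fin 2) (Fin 2) K) = 1 := Units.mul_inv gu
  have hc_inj : Function.Injective c := by
    intro x y h
    have h' : ((gu⁻¹ : GL (Fin 2) K) : Matrix (Fin 2) (Fin 2) K) * x.1 * g =
        ((gu⁻¹ : GL (Fin 2) K) : Matrix (Fin 2) (Fin 2) K) * y.1 * g := congrArg Subtype.val h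
    have h'' := congrArg (fun M => g * M * ((gu⁻¹ : GL (Fin 2) K) : Matrix (Fin 2) (Fin 2) K)) h'
    simp only [mul_assoc, hgg, mul_one] at h''
    rw [← mul_assoc g, ← mul_assoc g, hgg, one_mul, one_mul] at h''
    exact Subtype.ext h''
  have hgc : ∀ x : S2 K, g * (c x).1 = x.1 * g := fun x => by
    show g * (((gu⁻¹ : GL (Fin 2) K) : Matrix (Fin 2) (Fin 2) K) * x.1 * g) = x.1 * g
    rw [← mul_assoc, ← mul_assoc, hgg, one_mul]
  -- the images
  have hci : (c i).1 = !![0, -1; 1, 0] := by
    have h1 : g * (c i).1 = g * !![0, -1; 1, 0] := by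
      rw [hgc]
      have e0 : ∀ k, i.1 k 0 * v 0 + i.1 k 1 * v 1 = v' k := fun k => by
        rw [hv']; simp [Matrix.mulVec, dotProduct, Fin.sum_univ_two]
      have e1 : ∀ k, i.1 k 0 * v' 0 + i.1 k 1 * v' 1 = -v k := fun k => by
        have := congrFun hii' k
        simpa [Matrix.mulVec, dotProduct, Fin.sum_univ_two] using this
      ext k l
      fin_cases k <;> fin_cases l <;>
        simp [hg, Matrix.mul_apply, Fin.sum_univ_two, e0, e1]
    have := congrArg (fun M => ((gu⁻¹ : GL (Fin 2) K) : Matrix (Fin 2) (Fin 2) K) * M) h1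
    simpa only [← mul_assoc, show ((gu⁻¹ : GL (Fin 2) K) : Matrix (Fin 2) (Fin 2) K) * g = 1 from
      Units.inv_mul gu, one_mul] using this
  have hca : (c a).1 1 0 = 0 ∧ (c a).1 0 0 = 1 := by
    have h := hgc a
    have e : ∀ k, a.1 k 0 * v 0 + a.1 k 1 * v 1 = v k := fun k => by
      have := congrFun hav k
      simpa [Matrix.mulVec, dotProduct, Fin.sum_univ_two] using this
    have h00 := congrFun (congrFun h 0) 0
    have h10 := congrFun (congrFun h 1) 0
    simp [hg, Matrix.mul_apply, Fin.sum_univ_two, e] at h00 h10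
    rw [hg, Matrix.det_fin_two] at hdet
    simp at hdet
    constructor
    · refine (mul_eq_zero.mp (show (v 0 * v' 1 - v' 0 * v 1) * (c a).1 1 0 = 0 by
        linear_combination v 0 * h10 - v 1 * h00)).resolve_left hdet
    · refine sub_eq_zero.mp ((mul_eq_zero.mp (show (v 0 * v' 1 - v' 0 * v 1) * ((c a).1 0 0 - 1) = 0 by
        linear_combination v' 1 * h00 - v' 0 * h10)).resolve_left hdet)
  set μ := (c a).1 0 1 with hμ
  have hcaμ : c a = upper μ := eq_upper hca.1 hca.2
  have hμsq : μ * μ = 1 := by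
    have h := congrArg (fun w => (c w).1 0 0) hanti
    rw [← neg_one_mul' (a * i * a⁻¹ * i)] at h
    have hcneg : c (-1) = -1 := by
      apply Subtype.ext
      show ((gu⁻¹ : GL (Fin 2) K) : Matrix (Fin 2) (Fin 2) K) * (-1 : S2 K).1 * g = (-1 : S2 K).1
      rw [Matrix.SpecialLinearGroup.coe_neg, Matrix.SpecialLinearGroup.coe_one, mul_neg, mul_one,
        neg_mul, show g = (gu : Matrix (Fin 2) (Fin 2) K) from rfl, Units.inv_mul]
    simp only [map_mul, map_inv, hcneg] at h
    obtain ⟨i1, i2, i3, i4⟩ := inv_entry (upper μ)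
    simp [hcaμ, hci, i1, i2, i3, i4] at h
    have h3 : (3 : K) = 0 := by
      have := CharP.cast_eq_zero K 3
      exact_mod_cast this
    refine mul_left_cancel₀ h2 ?_
    linear_combination -2 * h - 2 * h3
  set H' := H.map c with hH'
  haveI : Finite H' := Finite.of_surjective (c.subgroupMap H) (MonoidHom.subgroupMap_surjective c H)
  have hμmem : upper μ ∈ H' := hcaμ ▸ Subgroup.mem_map_of_mem c ha
  have hlmem : lower (-μ) ∈ H' := by
    have h1 := mul_mem (mul_mem (Subgroup.mem_map_of_mem c hi) hμmem)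
      (inv_mem (Subgroup.mem_map_of_mem c hi))
    convert h1 using 1
    obtain ⟨j1, j2, j3, j4⟩ := inv_entry (c i)
    refine ext_entries ?_ ?_ ?_ ?_ <;> simp [j1, j2, j3, j4, hci]
  have hneg_up : ∀ t : K, (upper t)⁻¹ = upper (-t) := fun t =>
    inv_eq_of_mul_eq_one_right (by rw [upper_mul, add_neg_cancel, upper_zero])
  have hneg_lo : ∀ t : K, (lower t)⁻¹ = lower (-t) := fun t =>
    inv_eq_of_mul_eq_one_right (by
      rw [lower_mul, add_neg_cancel]; exact ext_entries (by simp) (by simp) (by simp) (by simp))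
  have hu1 : upper 1 ∈ H' ∧ lower 1 ∈ H' := by
    rcases mul_self_eq_one_iff.mp hμsq with h | h
    · rw [h] at hμmem hlmem
      exact ⟨hμmem, by simpa [hneg_lo] using inv_mem hlmem⟩
    · rw [h, neg_neg] at hlmem
      rw [h] at hμmem
      exact ⟨by simpa [hneg_up] using inv_mem hμmem, hlmem⟩
  obtain ⟨ψ, hψ, hψH, hψmap⟩ := exists_hom_of_mem (p := 3) hu1.1 hu1.2
  let cinv : S2 K →* S2 K :=
    { toFun := fun x => ⟨g * x.1 * ((gu⁻¹ : GL (Fin 2) K) : Matrix (Fin 2) (Fin 2) K), by
        rw [Matrix.det_mul, Matrix.det_mul, x.2, mul_one, ← Matrix.det_mul, hgg, Matrix.det_one]⟩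
      map_one' := Subtype.ext (by simp only [Matrix.SpecialLinearGroup.coe_one, mul_one]; exact hgg)
      map_mul' := fun x y => Subtype.ext (by
        show g * (x.1 * y.1) * ((gu⁻¹ : GL (Fin 2) K) : Matrix (Fin 2) (Fin 2) K) =
          g * x.1 * ((gu⁻¹ : GL (Fin 2) K) : Matrix (Fin 2) (Fin 2) K) *
            (g * y.1 * ((gu⁻¹ : GL (Fin 2) K) : Matrix (Fin 2) (Fin 2) K))
        simp only [mul_assoc]
        rw [← mul_assoc ((gu⁻¹ : GL (Fin 2) K) : Matrix (Fin 2) (Fin 2) K) g,
          show ((gu⁻¹ : GL (Fin 2) K) : Matrix (Fin 2) (Fin 2) K) * g = 1 from Units.inv_mul gu,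
          one_mul]) }
  have hcc : ∀ x, cinv (c x) = x := fun x => Subtype.ext (by
    show g * (c x).1 * ((gu⁻¹ : GL (Fin 2) K) : Matrix (Fin 2) (Fin 2) K) = x.1
    rw [hgc, mul_assoc, hgg, mul_one])
  refine ⟨g, cinv.comp ψ, hdet, fun x y h => hψ ?_, fun x => ?_, fun x => ?_⟩
  · obtain ⟨a', -, ha'⟩ := hψH x
    obtain ⟨b', -, hb'⟩ := hψH y
    simp only [MonoidHom.comp_apply, ← ha', ← hb', hcc] at h
    rw [← ha', ← hb', h]
  · obtain ⟨a', ha'H, ha'⟩ := hψH x
    rw [MonoidHom.comp_apply, ← ha', hcc]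
    exact ha'H
  · show g * (ψ x).1 * ((gu⁻¹ : GL (Fin 2) K) : Matrix (Fin 2) (Fin 2) K) * g = _
    rw [mul_assoc, show ((gu⁻¹ : GL (Fin 2) K) : Matrix (Fin 2) (Fin 2) K) * g = 1 from
      Units.inv_mul gu, mul_one, hψmap]

/-- The main theorem, without assuming `-1 ∈ H`. -/
theorem exists_sl2_le' (hp2 : p ≠ 2) {lam : K} (hlam : lam ≠ 0) (hu : upper lam ∈ H)
    (hw : lower 1 ∈ H) :
    ∃ (T : Matrix (Fin 2) (Fin 2) K) (ψ : Matrix.SpecialLinearGroup (Fin 2) (ZMod p) →* S2 K),
      T.det ≠ 0 ∧ Function.Injective ψ ∧ (∀ x, ψ x ∈ H) ∧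
        ∀ x, (ψ x).1 * T = T * x.1.map (ZMod.castHom (dvd_refl p) K) := by
  -- the set `±H`
  let H' : Subgroup (S2 K) :=
    { carrier := {x | x ∈ H ∨ -x ∈ H}
      one_mem' := Or.inl (one_mem H)
      mul_mem' := by
        rintro x y hx hy
        have e1 : -(x * y) = -x * y := (neg_mul x y).symm
        have e2 : -(x * y) = x * -y := (mul_neg x y).symm
        rcases hx with hx | hx <;> rcases hy with hy | hy
        · exact Or.inl (mul_mem hx hy)
        · exact Or.inr (e2 ▸ mul_mem hx hy)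
        · exact Or.inr (e1 ▸ mul_mem hx hy)
        · have : x * y = -x * -y := (neg_mul_neg x y).symm
          exact Or.inl (this ▸ mul_mem hx hy)
      inv_mem' := by
        rintro x (hx | hx)
        · exact Or.inl (inv_mem hx)
        · right
          have : -(x⁻¹) = (-x)⁻¹ := inv_neg.symm
          rw [this]; exact inv_mem hx }
  haveI : Finite H' := by
    have h1 : ((H' : Set (S2 K))).Finite := by
      refine Set.Finite.subset ((Set.toFinite (H : Set (S2 K))).union
        ((Set.toFinite (H : Set (S2 K))).image fun x => -x)) ?_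
      rintro x (hx | hx)
      · exact Or.inl hx
      · exact Or.inr ⟨-x, hx, neg_neg x⟩
    exact h1.to_subtype
  have hneg : (-1 : S2 K) ∈ H' := Or.inr (by rw [neg_neg]; exact one_mem H)
  have hpow2 : ∀ y ∈ H', y * y ∈ H := by
    rintro y (hy | hy)
    · exact mul_mem hy hy
    · have : y * y = -y * -y := (neg_mul_neg y y).symm
      exact this ▸ mul_mem hy hy
  -- pull back to `H`
  have back : (∃ (T : Matrix (Fin 2) (Fin 2) K) (ψ : Matrix.SpecialLinearGroup (Fin 2) (ZMod p) →* S2 K),
      T.det ≠ 0 ∧ Function.Injective ψ ∧ (∀ x, ψ x ∈ H') ∧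
        ∀ x, (ψ x).1 * T = T * x.1.map (ZMod.castHom (dvd_refl p) K)) →
      ∃ (T : Matrix (Fin 2) (Fin 2) K) (ψ : Matrix.SpecialLinearGroup (Fin 2) (ZMod p) →* S2 K),
      T.det ≠ 0 ∧ Function.Injective ψ ∧ (∀ x, ψ x ∈ H) ∧
        ∀ x, (ψ x).1 * T = T * x.1.map (ZMod.castHom (dvd_refl p) K) := by
    rintro ⟨T, ψ, hT, hinj, hH', hmap⟩
    refine ⟨T, ψ, hT, hinj, ?_, hmap⟩
    suffices H.comap ψ = ⊤ from fun x => this.ge (Subgroup.mem_top x)
    refine Cfsg.Agent.Classical.sl_subgroup_eq_top_of_transvection_mem _ fun i j hij c => ?_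
    rw [Subgroup.mem_comap]
    have h2 : (2 : ZMod p) ≠ 0 := two_ne_zero' hp2
    have h := hpow2 _ (hH' (Matrix.SpecialLinearGroup.transvection hij (c / 2)))
    rwa [← map_mul, show Matrix.SpecialLinearGroup.transvection hij (c / 2) *
      Matrix.SpecialLinearGroup.transvection hij (c / 2) =
      Matrix.SpecialLinearGroup.transvection hij c from Subtype.ext (by
        rw [Matrix.SpecialLinearGroup.coe_mul]
        show Matrix.transvection i j (c / 2) * Matrix.transvection i j (c / 2) = Matrix.transvection i j c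
        rw [Matrix.transvection_mul_transvection_same (h := hij)]
        congr 1
        rw [← mul_two, div_mul_cancel₀ c h2])] at h
  apply back
  rcases main_dichotomy hp2 hneg hlam (Or.inl hu) (Or.inl hw) with h | ⟨hp3, a, i, ha, hi, h1, h3, h4, h5⟩
  · obtain ⟨ψ, hψ, hψH, hψmap⟩ := exists_hom_of_mem h (Or.inl hw)
    exact ⟨1, ψ, by simp, hψ, hψH, fun x => by rw [mul_one, one_mul, hψmap]⟩
  · exact exists_hom_of_order_three hp3 ha hi h1 h3 h4 h5

theorem exists_sl2_le (hp2 : p ≠ 2) {lam : K} (hlam : lam ≠ 0) (hu : upper lam ∈ H)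
    (hw : lower 1 ∈ H) :
    ∃ ψ : Matrix.SpecialLinearGroup (Fin 2) (ZMod p) →* S2 K,
      Function.Injective ψ ∧ ∀ x, ψ x ∈ H := by
  obtain ⟨-, ψ, -, hψ, hψH, -⟩ := exists_sl2_le' hp2 hlam hu hw
  exact ⟨ψ, hψ, hψH⟩

end CfsgLib.PLocal.SLTwo
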