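import Cfsg.Prelude.Def_PLocal
import Cfsg.Agent.Lib.PCore.Basic
import Cfsg.Agent.Lib.Techniques.Basic

/-! The preimage of `O_p(G / C_G(V))` and basic facts on `IsPStableOn`. -/

set_option autoImplicit false

namespace CfsgLib.PLocal

variable {G : Type*} [Group G]

/-- For normal `V`, the preimage in `G` of `O_p(G / C_G(V))`. -/
def stabD (p : ℕ) (V : Subgroup G) [V.Normal] : Subgroup G :=
  (Cfsg.pCore p (G ⧸ Subgroup.centralizer (V : Set G))).comap
    (QuotientGroup.mk' (Subgroup.centralizer (V : Set G)))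

theorem stabD_normal (p : ℕ) (V : Subgroup G) [V.Normal] : (stabD p V).Normal :=
  (Cfsg.pCore_normal p _).comap _

theorem centralizer_le_stabD (p : ℕ) (V : Subgroup G) [V.Normal] :
    Subgroup.centralizer (V : Set G) ≤ stabD p V := by
  intro x hx
  rw [stabD, Subgroup.mem_comap, QuotientGroup.mk'_apply, (QuotientGroup.eq_one_iff x).2 hx]
  exact one_mem _

theorem mem_stabD_iff {p : ℕ} {V : Subgroup G} [V.Normal] {a : G} :
    a ∈ stabD p V ↔ (QuotientGroup.mk a : G ⧸ Subgroup.centralizer (V : Set G)) ∈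
      Cfsg.pCore p (G ⧸ Subgroup.centralizer (V : Set G)) :=
  Iff.rfl

theorem isPStableOn_iff_stabD {p : ℕ} {V : Subgroup G} [V.Normal] :
    Cfsg.IsPStableOn p V ↔ ∀ a : G,
      ⁅⁅V, Subgroup.zpowers a⁆, Subgroup.zpowers a⁆ = ⊥ → a ∈ stabD p V :=
  Iff.rfl

/-- An element of an abelian subgroup normalized by `V` acts quadratically on `V`. -/
theorem quadratic_of_normalizes {V A : Subgroup G} [hA : IsMulCommutative A]
    (hV : V ≤ Subgroup.normalizer (A : Set G)) {a : G} (ha : a ∈ A) :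
    ⁅⁅V, Subgroup.zpowers a⁆, Subgroup.zpowers a⁆ = ⊥ := by
  refine le_bot_iff.mp ?_
  refine (Subgroup.commutator_mono (K₁ := A) (K₂ := A) ?_ (Subgroup.zpowers_le.mpr ha)).trans
    (Subgroup.commutator_self_eq_bot_iff.mpr hA).le
  exact (Subgroup.commutator_mono le_rfl (Subgroup.zpowers_le.mpr ha)).trans
    (Subgroup.le_normalizer_iff_commutator_le_right.mp hV)

theorem le_stabD_of_normalizes {p : ℕ} {V A : Subgroup G} [V.Normal] [IsMulCommutative A]
    (h : Cfsg.IsPStableOn p V) (hV : V ≤ Subgroup.normalizer (A : Set G)) : A ≤ stabD p V :=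
  fun _ ha => isPStableOn_iff_stabD.mp h _ (quadratic_of_normalizes hV ha)

theorem stabD_le_sup [Finite G] {p : ℕ} [Fact p.Prime] (V : Subgroup G) [V.Normal] (S : Sylow p G) :
    stabD p V ≤ Subgroup.centralizer (V : Set G) ⊔ ((S : Subgroup G) ⊓ stabD p V) := by
  intro x hx
  have h1 := CfsgLib.PCore.pCore_le_sylow
    (S.mapSurjective (QuotientGroup.mk'_surjective (Subgroup.centralizer (V : Set G)))) hx
  rw [Sylow.coe_mapSurjective] at h1
  obtain ⟨y, hy, hyx⟩ := h1
  have h2 : y⁻¹ * x ∈ Subgroup.centralizer (V : Set G) := QuotientGroup.eq.1 hyx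
  have hyD : y ∈ stabD p V := by
    have := mul_mem hx (inv_mem (centralizer_le_stabD p V h2))
    simpa [mul_assoc] using this
  have h3 := Subgroup.mul_mem_sup (show y ∈ (S : Subgroup G) ⊓ stabD p V from ⟨hy, hyD⟩) h2
  rwa [mul_inv_cancel_left, sup_comm] at h3

theorem centralizer_sup_normalizer_stabD [Finite G] {p : ℕ} [Fact p.Prime] (V : Subgroup G)
    [V.Normal] (S : Sylow p G) :
    Subgroup.centralizer (V : Set G) ⊔
      Subgroup.normalizer (((S : Subgroup G) ⊓ stabD p V : Subgroup G) : Set G) = ⊤ := by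
  haveI := stabD_normal p V
  rw [eq_top_iff, ← CfsgLib.Techniques.sup_normalizer_inf_eq_top S (stabD p V)]
  exact sup_le ((stabD_le_sup V S).trans (sup_le_sup_left Subgroup.le_normalizer _)) le_sup_right

theorem stabD_isPGroup [Finite G] {p : ℕ} {V : Subgroup G} [V.Normal]
    (h : IsPGroup p (Subgroup.centralizer (V : Set G))) : IsPGroup p (stabD p V) :=
  CfsgLib.PCore.isPGroup_comap_mk' h CfsgLib.PCore.pCore_isPGroup

end CfsgLib.PLocal
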