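import Cfsg.Agent.Lib.PLocal.Replacement
import Cfsg.Agent.Lib.PLocal.StableBasic

/-!
Glauberman's `ZJ` theorem, uniformly for `Z(J(S))` (`e = 0`) and `Ω₁(Z(J_e(S)))` (`e = p`).
-/

set_option autoImplicit false

namespace CfsgLib.PLocal

open scoped commutatorElement

variable {G : Type*} [Group G]

/-- `e = 0`: `Z(J(P))`; `e = p`: `Ω₁(Z(J(P)))` for the elementary abelian version. -/
def zj (e : ℕ) (P : Subgroup G) : Subgroup G := Cfsg.omegaOne e (centerJ e P)

theorem zj_le (e : ℕ) (P : Subgroup G) : zj e P ≤ P :=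
  (omegaOne_le e _).trans (centerJ_le e P)

theorem zj_zero (P : Subgroup G) : zj 0 P = centerJ 0 P :=
  le_antisymm (omegaOne_le 0 _) fun _ hx => mem_omegaOne hx (pow_zero _)

theorem zj_eq_sInf [Finite G] (e : ℕ) (P : Subgroup G) : zj e P = sInf {A | IsMaxElemIn e P A} :=
  omegaOne_centerJ_eq_sInf e P

theorem zj_le_of_isMaxElemIn [Finite G] {e : ℕ} {P A : Subgroup G} (h : IsMaxElemIn e P A) :
    zj e P ≤ A := by
  rw [zj_eq_sInf]; exact sInf_le h

theorem zj_elemAb (e : ℕ) (P : Subgroup G) : Cfsg.IsElementaryAbelian e (zj e P) :=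
  omegaOne_centerJ_elemAb e P

theorem zj_map {H : Type*} [Group H] {e : ℕ} {f : G →* H} (hf : Function.Injective f)
    (P : Subgroup G) : zj e (P.map f) = (zj e P).map f := by
  unfold zj; rw [centerJ_map hf, omegaOne_map hf]

theorem normalizer_le_normalizer_zj (e : ℕ) (P : Subgroup G) :
    Subgroup.normalizer (P : Set G) ≤ Subgroup.normalizer (zj e P : Set G) :=
  (normalizer_le_normalizer_centerJ e P).trans (normalizer_le_normalizer_omegaOne e _)

theorem le_normalizer_zj (e : ℕ) (P : Subgroup G) :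
    P ≤ Subgroup.normalizer (zj e P : Set G) :=
  Subgroup.le_normalizer.trans (normalizer_le_normalizer_zj e P)

/-- If all maximal members of `S` lie in `L ≤ S`, or merely some, the `zj` of `S` is contained in
that of `L`. -/
theorem zj_le_zj [Finite G] {e : ℕ} {L S A : Subgroup G} (hLS : L ≤ S) (hA : IsMaxElemIn e S A)
    (hAL : A ≤ L) : zj e S ≤ zj e L := by
  rw [zj_eq_sInf e L]
  refine le_sInf fun B hB => zj_le_of_isMaxElemIn ?_
  exact hA.of_card_le (hB.le.trans hLS) hB.elem (hB.2.2 A hAL hA.elem)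

theorem IsMaxElemIn.restrict {e : ℕ} {L S A : Subgroup G} (hA : IsMaxElemIn e S A) (hLS : L ≤ S)
    (hAL : A ≤ L) : IsMaxElemIn e L A :=
  ⟨hAL, hA.elem, fun B hB hB' => hA.2.2 B (hB.trans hLS) hB'⟩

section ZJ

variable [Finite G] {p e : ℕ} [Fact p.Prime]

/-- Glauberman: `B ∩ ZJ(S)` is normal for every normal `p`-subgroup `B`. -/
theorem inf_zj_normal (hp : p ≠ 2) (he : e = 0 ∨ e = p)
    (hst : ∀ (P : Subgroup G) [P.Normal], IsPGroup p P → Cfsg.IsPStableOn p P) (S : Sylow p G)
    (B : Subgroup G) [B.Normal] (hB : IsPGroup p B) : (B ⊓ zj e (S : Subgroup G)).Normal := by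
  suffices key : ∀ n, ∀ B : Subgroup G, B.Normal → IsPGroup p B → Nat.card B = n →
      (B ⊓ zj e (S : Subgroup G)).Normal from key _ B inferInstance hB rfl
  intro n
  induction n using Nat.strong_induction_on with
  | _ n ih =>
  intro B hBn hB hcard
  subst hcard
  set Z := zj e (S : Subgroup G) with hZ
  have small : ∀ B' : Subgroup G, B'.Normal → B' < B → (B' ⊓ Z).Normal := fun B' hn hlt =>
    ih _ (lt_of_not_ge fun h => hlt.ne (Subgroup.eq_of_le_of_card_ge hlt.le h)) B' hn
      (hB.to_le hlt.le) rfl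
  by_contra hnot
  have hBS : B ≤ (S : Subgroup G) :=
    (CfsgLib.PCore.le_pCore hBn hB).trans (CfsgLib.PCore.pCore_le_sylow S)
  have hSB : (S : Subgroup G) ≤ Subgroup.normalizer (B : Set G) := fun x _ => by
    rw [Subgroup.normalizer_eq_top B]; trivial
  -- `B` is the normal closure of `B ⊓ Z`
  have hcl : ∀ M : Subgroup G, M.Normal → B ⊓ Z ≤ M → B ≤ M := by
    intro M hM hle
    by_contra hnle
    apply hnot
    have hlt : M ⊓ B < B := lt_of_le_of_ne inf_le_right fun h => hnle (h ▸ inf_le_left)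
    have := small (M ⊓ B) inferInstance hlt
    rwa [inf_assoc, inf_eq_right.mpr hle] at this
  have hBne : B ≠ ⊥ := by
    rintro rfl
    apply hnot
    rw [bot_inf_eq]
    infer_instance
  -- the derived subgroup
  have hder : ⁅B, B⁆ < B := by
    haveI : Group.IsNilpotent B := hB.isNilpotent
    haveI : Nontrivial B := (Subgroup.nontrivial_iff_ne_bot B).mpr hBne
    refine lt_of_le_of_ne B.commutator_le_self fun h => ?_
    have h1 : commutator B < ⊤ := IsSolvable.commutator_lt_top_of_nontrivial B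
    apply h1.ne
    apply Subgroup.map_injective B.subtype_injective
    rw [Subgroup.map_subtype_commutator, map_subtype_top, h]
  haveI hKn : (⁅B, B⁆ ⊓ Z).Normal := small _ inferInstance hder
  have hK : ⁅B, B⁆ ≤ ⁅B, B⁆ ⊓ Z := by
    set K := ⁅B, B⁆ ⊓ Z with hKdef
    set q := QuotientGroup.mk' K with hq
    haveI : (B.map q).Normal := hBn.map q (QuotientGroup.mk'_surjective K)
    have h1 : B ≤ (Subgroup.centralizer ((B.map q : Subgroup (G ⧸ K)) : Set (G ⧸ K))).comap q := by
      refine hcl _ inferInstance ?_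
      intro x hx
      obtain ⟨hxB, hxZ⟩ := Subgroup.mem_inf.mp hx
      rw [Subgroup.mem_comap, Subgroup.mem_centralizer_iff]
      rintro _ ⟨y, hy, rfl⟩
      rw [← map_mul, ← map_mul, hq, QuotientGroup.mk'_apply, QuotientGroup.mk'_apply,
        QuotientGroup.eq]
      refine Subgroup.mem_inf.mpr ⟨?_, ?_⟩
      · have := Subgroup.commutator_mem_commutator (inv_mem hxB) (inv_mem hy) (H₁ := B) (H₂ := B)
        simpa [commutatorElement_def, mul_assoc] using this
      · have h2 : y⁻¹ * x * y ∈ Z :=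
          inv_conj_mem_of_mem_normalizer (le_normalizer_zj e _ (hBS hy)) hxZ
        have := mul_mem (inv_mem hxZ) h2
        simpa [mul_assoc] using this
    rw [Subgroup.commutator_le]
    intro x hx y hy
    have h2 : q y * q x = q x * q y := Subgroup.mem_centralizer_iff.mp (h1 hx) (q y) ⟨y, hy, rfl⟩
    have h3 : q ⁅x, y⁆ = 1 := by
      rw [map_commutatorElement, commutatorElement_eq_one_iff_mul_comm]
      exact h2.symm
    exact (QuotientGroup.eq_one_iff _).mp h3
  have hB'Z : ⁅B, B⁆ ≤ Z := hK.trans inf_le_right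
  -- a maximal member normalized by `B`
  obtain ⟨A₀, hA₀⟩ := exists_isMaxElemIn e (S : Subgroup G)
  obtain ⟨A₁, hA₁, hBA₁⟩ : ∃ A, IsMaxElemIn e (S : Subgroup G) A ∧
      B ≤ Subgroup.normalizer (A : Set G) := by
    by_cases h : B ≤ A₀
    · exact ⟨A₀, hA₀, h.trans Subgroup.le_normalizer⟩
    · obtain ⟨A, h1, -, -, h4⟩ := exists_maxElemIn_normalized S.isPGroup' le_rfl
        Subgroup.le_normalizer hBS hSB hA₀ (hB'Z.trans (zj_le_of_isMaxElemIn hA₀))
        (fun h2 => absurd h2 hp) he h
      exact ⟨A, h1, h4⟩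
  set D := stabD p B with hD
  set L := (S : Subgroup G) ⊓ D with hL
  have hstB := hst B hB
  have hA₁L : A₁ ≤ L := le_inf hA₁.le (by haveI := hA₁.elem.1; exact le_stabD_of_normalizes hstB hBA₁)
  have hZL : Z ≤ zj e L := zj_le_zj inf_le_left hA₁ hA₁L
  -- `B ⊓ zj L` is normal, hence contains `B`
  have hXn : (B ⊓ zj e L).Normal := by
    rw [← Subgroup.normalizer_eq_top_iff, eq_top_iff, ← centralizer_sup_normalizer_stabD B S]
    refine sup_le ?_ ?_
    · intro c hc
      refine Subgroup.mem_normalizer_iff.mpr fun x => ?_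
      constructor
      · intro hx
        rwa [show c * x * c⁻¹ = x by
          rw [← Subgroup.mem_centralizer_iff.mp hc x hx.1, mul_inv_cancel_right]]
      · intro hx
        have h1 : c * x * c⁻¹ ∈ B := hx.1
        have h2 := Subgroup.mem_centralizer_iff.mp hc _ h1
        have h3 : x = c * x * c⁻¹ := by
          calc x = c⁻¹ * (c * x * c⁻¹ * c) := by group
            _ = c⁻¹ * (c * (c * x * c⁻¹)) := by rw [h2]
            _ = c * x * c⁻¹ := by group
        rwa [h3]
    · intro n hn
      exact CfsgLib.Techniques.mem_normalizer_inf (by rw [Subgroup.normalizer_eq_top B]; trivial)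
        (normalizer_le_normalizer_zj e L hn)
  have hBL : B ≤ zj e L := (hcl _ hXn (inf_le_inf_left B hZL)).trans inf_le_right
  have hBel : Cfsg.IsElementaryAbelian e B := elemAb_of_le (zj_elemAb e L) hBL
  -- all maximal members lie in `L`
  have hall : ∀ A, IsMaxElemIn e (S : Subgroup G) A → A ≤ L := by
    by_contra h
    push Not at h
    classical
    obtain ⟨A, ⟨hA, hAL⟩, hmax⟩ := Set.exists_max_image
      {A : Subgroup G | IsMaxElemIn e (S : Subgroup G) A ∧ ¬ A ≤ L}
      (fun A => Nat.card (A ⊓ B : Subgroup G)) (Set.toFinite _) h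
    haveI := hA.elem.1
    have hnN : ¬ B ≤ Subgroup.normalizer (A : Set G) := fun hN =>
      hAL (le_inf hA.le (le_stabD_of_normalizes hstB hN))
    obtain ⟨A', h1, -, h3, h4, -⟩ := exists_maxElemIn_replacement S.isPGroup' le_rfl
      Subgroup.le_normalizer hBS hSB hA
      (by rw [Subgroup.commutator_self_eq_bot_iff.mpr hBel.1]; exact bot_le)
      (fun h2 => absurd h2 hp) he hnN
    have hA'L : A' ≤ L := by
      by_contra h'
      exact h3.ne (Subgroup.eq_of_le_of_card_ge h3.le (hmax A' ⟨h1, h'⟩))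
    refine h4.ne (inf_eq_right.mpr (hBL.trans (zj_le_of_isMaxElemIn ?_)))
    exact h1.restrict inf_le_left hA'L
  apply hnot
  have heq : Z = zj e L := by
    refine le_antisymm hZL ?_
    rw [hZ, zj_eq_sInf e (S : Subgroup G)]
    refine le_sInf fun A hA => zj_le_of_isMaxElemIn ?_
    exact hA.restrict inf_le_left (hall A hA)
  rw [heq, inf_eq_left.mpr hBL]
  exact hBn

variable (hp : p ≠ 2) (he : e = 0 ∨ e = p)
  (hc : Subgroup.centralizer (Cfsg.pCore p G : Set G) ≤ Cfsg.pCore p G)
  (hst : ∀ (P : Subgroup G) [P.Normal], IsPGroup p P → Cfsg.IsPStableOn p P) (S : Sylow p G)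

include hc hst in
theorem zj_le_pCore : zj e (S : Subgroup G) ≤ Cfsg.pCore p G := by
  haveI := (zj_elemAb e (S : Subgroup G)).1
  have hOS := CfsgLib.PCore.pCore_le_sylow S
  refine (le_stabD_of_normalizes (hst _ CfsgLib.PCore.pCore_isPGroup)
    (hOS.trans (le_normalizer_zj e _))).trans ?_
  exact CfsgLib.PCore.le_pCore (stabD_normal p _)
    (stabD_isPGroup (CfsgLib.PCore.pCore_isPGroup.to_le hc))

include hp he hc hst in
/-- Glauberman's `ZJ` theorem. -/
theorem zj_normal : (zj e (S : Subgroup G)).Normal := by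
  have h := inf_zj_normal hp he hst S (Cfsg.pCore p G) CfsgLib.PCore.pCore_isPGroup
  rwa [inf_eq_right.mpr (zj_le_pCore hc hst S)] at h

include hp he hc hst in
theorem zj_characteristic : (zj e (S : Subgroup G)).Characteristic := by
  have hn := zj_normal hp he hc hst S
  rw [Subgroup.characteristic_iff_map_eq]
  intro φ
  obtain ⟨g, hg⟩ := MulAction.exists_smul_eq G S (S.mapSurjective (f := φ.toMonoidHom) φ.surjective)
  have h1 : (S : Subgroup G).map φ.toMonoidHom =
      (S : Subgroup G).map (MulAut.conj g : G →* G) := by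
    rw [← Sylow.coe_mapSurjective φ.surjective S, ← hg, Sylow.coe_subgroup_smul]
    rfl
  rw [← zj_map φ.injective, h1, zj_map (f := (MulAut.conj g : G →* G)) (MulAut.conj g).injective]
  exact map_conj_eq_of_mem_normalizer (by rw [Subgroup.normalizer_eq_top (zj e (S : Subgroup G))]; trivial)

end ZJ

end CfsgLib.PLocal
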