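import Cfsg.Agent.Lib.PLocal.Constraint
import Cfsg.Agent.Lib.PLocal.ZJ
import Cfsg.Agent.Lib.Coprime.Commutator

/-!
`p`-stability (`Cfsg.IsPStable`) modulo `O_{p'}`, and its consequence for `Cfsg.IsPStableOn`.
-/

set_option autoImplicit false

namespace CfsgLib.PLocal

variable {G : Type*} [Group G] [Finite G] {p : ℕ} [hp : Fact p.Prime]

/-- Membership in `O_p(X / C)` is compatible with a surjection `X → Y` pulling `C` back. -/
theorem mk_mem_pCore_iff_of_surjective {X Y : Type*} [Group X] [Group Y] [Finite X]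
    (f : X →* Y) (hf : Function.Surjective f) (C : Subgroup Y) [C.Normal]
    (C' : Subgroup X) [C'.Normal] (h : C.comap f = C') (x : X) :
    QuotientGroup.mk' C' x ∈ Cfsg.pCore p (X ⧸ C') ↔
      QuotientGroup.mk' C (f x) ∈ Cfsg.pCore p (Y ⧸ C) := by
  let g : X ⧸ C' →* Y ⧸ C := QuotientGroup.map C' C f h.ge
  have hg : Function.Bijective g := by
    constructor
    · rw [injective_iff_map_eq_one]
      intro a ha
      obtain ⟨a, rfl⟩ := QuotientGroup.mk'_surjective C' a
      refine (QuotientGroup.eq_one_iff a).mpr ?_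
      rw [← h]
      exact (QuotientGroup.eq_one_iff (f a)).mp ha
    · intro b
      obtain ⟨b, rfl⟩ := QuotientGroup.mk'_surjective C b
      obtain ⟨a, rfl⟩ := hf b
      exact ⟨QuotientGroup.mk' C' a, rfl⟩
  rw [← CfsgLib.PCore.map_pCore_equiv (p := p) (MulEquiv.ofBijective g hg), Subgroup.mem_map]
  constructor
  · exact fun hx => ⟨_, hx, rfl⟩
  · rintro ⟨y, hy, e⟩
    rwa [hg.injective (show g y = g (QuotientGroup.mk' C' x) from e)] at hy

/-- The restriction of the quotient map to normalizers. -/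
def normalizerMap {G : Type*} [Group G] (N P : Subgroup G) [N.Normal] :
    ↥(Subgroup.normalizer (P : Set G)) →*
      ↥(Subgroup.normalizer ((P.map (QuotientGroup.mk' N) : Subgroup (G ⧸ N)) : Set (G ⧸ N))) :=
  ((QuotientGroup.mk' N).comp (Subgroup.normalizer (P : Set G)).subtype).codRestrict _
    fun x => Subgroup.le_normalizer_map (QuotientGroup.mk' N) ⟨x, x.2, rfl⟩

theorem normalizerMap_surjective {N P : Subgroup G} [N.Normal] (hN : (Nat.card N).Coprime p)
    (hP : IsPGroup p P) : Function.Surjective (normalizerMap N P) := by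
  rintro ⟨y, hy⟩
  obtain ⟨x, rfl⟩ := QuotientGroup.mk'_surjective N y
  obtain ⟨n, hn, hnx⟩ := exists_mul_mem_normalizer hN hP (x := x) fun z hz => by
    rw [map_mul, map_mul, map_inv]
    exact (Subgroup.mem_normalizer_iff.mp hy _).mp ⟨z, hz, rfl⟩
  refine ⟨⟨n * x, hnx⟩, Subtype.ext ?_⟩
  show QuotientGroup.mk' N (n * x) = QuotientGroup.mk' N x
  rw [map_mul, show QuotientGroup.mk' N n = 1 from (QuotientGroup.eq_one_iff n).mpr hn, one_mul]

theorem mem_pCore_normalizer_quotient_iff {N P : Subgroup G} [N.Normal]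
    (hN : (Nat.card N).Coprime p) (hP : IsPGroup p P) (x : ↥(Subgroup.normalizer (P : Set G))) :
    QuotientGroup.mk' ((Subgroup.centralizer (P : Set G)).subgroupOf
        (Subgroup.normalizer (P : Set G))) x ∈ Cfsg.pCore p _ ↔
      QuotientGroup.mk' ((Subgroup.centralizer
          ((P.map (QuotientGroup.mk' N) : Subgroup (G ⧸ N)) : Set (G ⧸ N))).subgroupOf
        (Subgroup.normalizer ((P.map (QuotientGroup.mk' N) : Subgroup (G ⧸ N)) : Set (G ⧸ N))))
        (normalizerMap N P x) ∈ Cfsg.pCore p _ := by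
  refine mk_mem_pCore_iff_of_surjective _ (normalizerMap_surjective hN hP) _ _ ?_ x
  ext ⟨y, hy⟩
  rw [Subgroup.mem_comap, Subgroup.mem_subgroupOf, Subgroup.mem_subgroupOf]
  constructor
  · intro h
    exact mem_centralizer_of_mk_eq hN hP hy fun z hz => by
      rw [map_mul, map_mul]
      exact (Subgroup.mem_centralizer_iff.mp h _ ⟨z, hz, rfl⟩).symm
  · intro h
    rw [Subgroup.mem_centralizer_iff]
    rintro _ ⟨z, hz, rfl⟩
    exact (map_mul _ _ _).symm.trans ((congrArg _ (Subgroup.mem_centralizer_iff.mp h z hz)).trans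
      (map_mul _ _ _))

theorem isPStable_quotient (hG : Cfsg.IsPStable p G) :
    Cfsg.IsPStable p (G ⧸ Cfsg.pPrimeCore p G) := by
  obtain ⟨hodd, hO, hst⟩ := hG
  set N := Cfsg.pPrimeCore p G with hNdef
  set q := QuotientGroup.mk' N with hq
  have hN : (Nat.card N).Coprime p := CfsgLib.PCore.pPrimeCore_coprime
  have hN' : Cfsg.pPrimeCore p (G ⧸ N) = ⊥ := CfsgLib.PCore.pPrimeCore_quotient_pPrimeCore
  refine ⟨hodd, fun h => hO ?_, fun Ab Pb hA hP hnorm hPK hPn hcomm => ?_⟩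
  · have h2 : Cfsg.pCore p G ≤ N := by
      have := CfsgLib.PCore.map_pCore_le (p := p) q (QuotientGroup.mk'_surjective N)
      rw [h, le_bot_iff, Subgroup.map_eq_bot_iff, hq, QuotientGroup.ker_mk'] at this
      exact this
    exact CfsgLib.PCore.eq_bot_of_isPGroup_coprime CfsgLib.PCore.pCore_isPGroup
      (hN.coprime_dvd_left (Subgroup.card_dvd_of_le h2))
  rw [CfsgLib.PCore.pPrimePCore_eq_pCore hN'] at hPK
  haveI hPbn : Pb.Normal := by
    have := hPn
    rwa [hN', bot_sup_eq] at this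
  obtain ⟨Sb, hSb⟩ := hA.exists_le_sylow
  obtain ⟨S, rfl⟩ := Sylow.mapSurjective_surjective (QuotientGroup.mk'_surjective N) p Sb
  rw [Sylow.coe_mapSurjective] at hSb
  have hPS : Pb ≤ (S : Subgroup G).map q := by
    refine hPK.trans ((CfsgLib.PCore.pCore_le_sylow
      (S.mapSurjective (QuotientGroup.mk'_surjective N))).trans ?_)
    rw [Sylow.coe_mapSurjective]
  set A := (S : Subgroup G) ⊓ Ab.comap q with hAdef
  have lift : ∀ Hb : Subgroup (G ⧸ N), Hb ≤ (S : Subgroup G).map q →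
      ((S : Subgroup G) ⊓ Hb.comap q).map q = Hb := fun Hb h => by
    refine le_antisymm ?_ fun y hy => ?_
    · rintro _ ⟨x, hx, rfl⟩; exact hx.2
    · obtain ⟨x, hx, rfl⟩ := h hy
      exact ⟨x, ⟨hx, hy⟩, rfl⟩
  obtain ⟨P, hPdef, rfl⟩ : ∃ P, P = (S : Subgroup G) ⊓ Pb.comap q ∧ P.map q = Pb :=
    ⟨_, rfl, lift Pb hPS⟩
  have hPS' : P ≤ (S : Subgroup G) := hPdef.le.trans inf_le_left
  have hPp : IsPGroup p P := S.isPGroup'.to_le hPS'
  have hAp : IsPGroup p A := S.isPGroup'.to_le inf_le_left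
  have hAnorm : ∀ a ∈ A, ∀ x ∈ P, a * x * a⁻¹ ∈ P := fun a ha x hx =>
    hPdef.ge (Subgroup.mem_inf.mpr ⟨mul_mem (mul_mem (Subgroup.mem_inf.mp ha).1 (hPS' hx))
      (inv_mem (Subgroup.mem_inf.mp ha).1), (hPbn.comap q).conj_mem x (hPdef.le hx).2 a⟩)
  have hAle : A ≤ Subgroup.normalizer (P : Set G) := fun a ha => by
    rw [hPdef]
    exact CfsgLib.Techniques.mem_normalizer_inf (Subgroup.le_normalizer ha.1)
      (by rw [Subgroup.normalizer_eq_top_iff.mpr (hPbn.comap q)]; trivial)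
  have hPle : P ≤ Cfsg.pPrimePCore p G := by
    refine (hPdef.le.trans inf_le_right).trans ((Subgroup.comap_mono hPK).trans ?_)
    rfl
  have hsup : N ⊔ P = (P.map q).comap q := by
    rw [Subgroup.comap_map_eq, hq, QuotientGroup.ker_mk', sup_comm]
  have hcomm' : ⁅⁅P, A⁆, A⁆ = ⊥ := by
    refine le_bot_iff.mp ?_
    rw [← CfsgLib.PCore.inf_eq_bot_of_isPGroup_coprime S.isPGroup' hN]
    refine le_inf ?_ ?_
    · exact (Subgroup.commutator_mono ((Subgroup.commutator_mono hPS' inf_le_left).trans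
        (Subgroup.commutator_le_self _)) inf_le_left).trans (Subgroup.commutator_le_self _)
    · have h1 : (⁅⁅P, A⁆, A⁆).map q = ⊥ := by
        rw [Subgroup.map_commutator, Subgroup.map_commutator, hAdef, lift Ab hSb, hcomm]
      rwa [Subgroup.map_eq_bot_iff, hq, QuotientGroup.ker_mk'] at h1
  have h := hst A P hAp hPp hAnorm hPle (hsup ▸ hPbn.comap q) hcomm'
  rintro y ⟨⟨a, haN⟩, ha, rfl⟩
  obtain ⟨a₀, ha₀, rfl⟩ := (lift Ab hSb).ge ha
  have h1 := (mem_pCore_normalizer_quotient_iff hN hPp ⟨a₀, hAle ha₀⟩).mp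
    (h ⟨⟨a₀, hAle ha₀⟩, ha₀, rfl⟩)
  exact h1

theorem isPStable_of_quotient (hO : Cfsg.pCore p G ≠ ⊥)
    (hG : Cfsg.IsPStable p (G ⧸ Cfsg.pPrimeCore p G)) : Cfsg.IsPStable p G := by
  obtain ⟨hodd, -, hst⟩ := hG
  set N := Cfsg.pPrimeCore p G with hNdef
  set q := QuotientGroup.mk' N with hq
  have hN : (Nat.card N).Coprime p := CfsgLib.PCore.pPrimeCore_coprime
  have hN' : Cfsg.pPrimeCore p (G ⧸ N) = ⊥ := CfsgLib.PCore.pPrimeCore_quotient_pPrimeCore
  refine ⟨hodd, hO, fun A P hA hP hnorm hPK hPn hcomm => ?_⟩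
  have h := hst (A.map q) (P.map q) (hA.map q) (hP.map q) ?_ ?_ ?_ ?_
  · rintro _ ⟨x, hx, rfl⟩
    refine (mem_pCore_normalizer_quotient_iff hN hP x).mpr (h ⟨normalizerMap N P x, ?_, rfl⟩)
    exact ⟨(x : G), hx, rfl⟩
  · rintro _ ⟨a, ha, rfl⟩ _ ⟨x, hx, rfl⟩
    exact ⟨a * x * a⁻¹, hnorm a ha x hx, by simp⟩
  · rw [CfsgLib.PCore.pPrimePCore_eq_pCore hN', ← CfsgLib.PCore.map_pPrimePCore]
    exact Subgroup.map_mono hPK
  · rw [hN', bot_sup_eq]
    have := hPn.map q (QuotientGroup.mk'_surjective N)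
    rwa [Subgroup.map_sup, hq, QuotientGroup.map_mk'_self, bot_sup_eq] at this
  · rw [← Subgroup.map_commutator, ← Subgroup.map_commutator, hcomm, Subgroup.map_bot]

/-- It suffices to test `IsPStableOn` on elements of `p`-power order. -/
theorem isPStableOn_of_pElements {V : Subgroup G} [V.Normal] (hV : IsPGroup p V)
    (h : ∀ a : G, (∃ k, orderOf a = p ^ k) →
      ⁅⁅V, Subgroup.zpowers a⁆, Subgroup.zpowers a⁆ = ⊥ → a ∈ stabD p V) :
    Cfsg.IsPStableOn p V := by
  rw [isPStableOn_iff_stabD]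
  intro a ha
  obtain ⟨m, k, hk, hord⟩ :=
    Nat.exists_eq_pow_mul_and_not_dvd (orderOf_pos a).ne' p hp.out.ne_one
  have hk0 : k ≠ 0 := fun h' => hk (h' ▸ dvd_zero p)
  have hcop : (p ^ m).Coprime k := (hp.out.coprime_iff_not_dvd.mpr hk).pow_left m
  have h1 : a ^ k ∈ stabD p V := by
    refine h _ ⟨m, ?_⟩ (le_bot_iff.mp ((Subgroup.commutator_mono (Subgroup.commutator_mono le_rfl
      ?_) ?_).trans ha.le))
    · rw [orderOf_pow, hord, Nat.gcd_mul_left_left, Nat.mul_div_cancel _ (Nat.pos_of_ne_zero hk0)]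
    all_goals exact Subgroup.zpowers_le.mpr (pow_mem (Subgroup.mem_zpowers a) k)
  have h2 : a ^ (p ^ m) ∈ stabD p V := by
    refine centralizer_le_stabD p V ?_
    haveI : Group.IsNilpotent V := hV.isNilpotent
    have hVn : Subgroup.zpowers (a ^ p ^ m) ≤ Subgroup.normalizer (V : Set G) := by
      rw [Subgroup.normalizer_eq_top V]; exact le_top
    have hco : (Nat.card (Subgroup.zpowers (a ^ p ^ m))).Coprime (Nat.card V) := by
      obtain ⟨n, hn⟩ := IsPGroup.iff_card.mp hV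
      rw [hn, Nat.card_zpowers, orderOf_pow, hord, Nat.gcd_mul_right_left,
        Nat.mul_div_cancel_left _ (pow_pos hp.out.pos m)]
      exact ((hp.out.coprime_iff_not_dvd.mpr hk).symm).pow_right n
    have hle : Subgroup.zpowers (a ^ p ^ m) ≤ Subgroup.zpowers a :=
      Subgroup.zpowers_le.mpr (pow_mem (Subgroup.mem_zpowers a) _)
    have h3 := CfsgLib.Coprime.commutator_eq_bot_of_commutator_commutator_eq_bot
      (Subgroup.zpowers (a ^ p ^ m)) V hVn hco (Or.inr inferInstance)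
      (le_bot_iff.mp ((Subgroup.commutator_mono (Subgroup.commutator_mono le_rfl hle) hle).trans
        ha.le))
    rw [Subgroup.commutator_comm, Subgroup.commutator_eq_bot_iff_le_centralizer] at h3
    exact h3 (Subgroup.mem_zpowers _)
  have hb := Nat.gcd_eq_gcd_ab k (p ^ m)
  rw [hcop.symm] at hb
  have e : a = (a ^ k) ^ Nat.gcdA k (p ^ m) * (a ^ (p ^ m)) ^ Nat.gcdB k (p ^ m) := by
    rw [← zpow_natCast a k, ← zpow_natCast a (p ^ m), ← zpow_mul, ← zpow_mul, ← zpow_add, ← hb]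
    simp
  rw [e]
  exact mul_mem (zpow_mem h1 _) (zpow_mem h2 _)

/-- `p`-stability gives `IsPStableOn` on the normal `p`-subgroups. -/
theorem isPStableOn_of_isPStable (h : Cfsg.IsPStable p G)
    (P : Subgroup G) [P.Normal] (hP : IsPGroup p P) : Cfsg.IsPStableOn p P := by
  refine isPStableOn_of_pElements hP fun a ⟨k, hk⟩ ha => ?_
  have hA : IsPGroup p (Subgroup.zpowers a) :=
    IsPGroup.of_card (n := k) (by rw [Nat.card_zpowers, hk])
  have hNP : Subgroup.normalizer (P : Set G) = ⊤ := Subgroup.normalizer_eq_top P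
  have h1 := h.2.2 (Subgroup.zpowers a) P hA hP (fun b _ x hx => Subgroup.Normal.conj_mem ‹_› x hx b)
    ((CfsgLib.PCore.le_pCore ‹_› hP).trans CfsgLib.PCore.pCore_le_pPrimePCore) inferInstance ha
  have h2 := mk_mem_pCore_iff_of_surjective (p := p)
    (Subgroup.normalizer (P : Set G)).subtype (fun x => ⟨⟨x, hNP ▸ trivial⟩, rfl⟩)
    (Subgroup.centralizer (P : Set G))
    ((Subgroup.centralizer (P : Set G)).subgroupOf (Subgroup.normalizer (P : Set G))) rfl
    ⟨a, hNP ▸ trivial⟩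
  exact h2.mp (h1 ⟨⟨a, hNP ▸ trivial⟩, Subgroup.mem_zpowers a, rfl⟩)

theorem zj_map_of_injOn {H : Type*} [Group H] {e : ℕ} (f : G →* H) (P : Subgroup G)
    (hf : Function.Injective (f.comp P.subtype)) : zj e (P.map f) = (zj e P).map f := by
  have h1 := zj_map (e := e) P.subtype_injective (⊤ : Subgroup P)
  have h2 := zj_map (e := e) hf (⊤ : Subgroup P)
  rw [map_subtype_top] at h1
  rw [← Subgroup.map_map, map_subtype_top, ← Subgroup.map_map, ← h1] at h2
  exact h2

/-- If `zj` is normal in `G / N` for a normal `p'`-subgroup `N`, then `G = N N_G(zj)`. -/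
theorem sup_normalizer_zj_eq_top {e : ℕ} {N : Subgroup G} [N.Normal]
    (hN : (Nat.card N).Coprime p) (P : Sylow p G)
    (h : (zj e ((P : Subgroup G).map (QuotientGroup.mk' N))).Normal) :
    N ⊔ Subgroup.normalizer (zj e (P : Subgroup G) : Set G) = ⊤ := by
  set q := QuotientGroup.mk' N
  have hinj : Function.Injective (q.comp (P : Subgroup G).subtype) := by
    rw [injective_iff_map_eq_one]
    intro x hx
    exact Subtype.ext (eq_one_of_mem_pGroup_of_mem_coprime P.isPGroup' hN x.2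
      ((QuotientGroup.eq_one_iff (x : G)).mp hx))
  rw [zj_map_of_injOn q _ hinj] at h
  refine top_le_iff.mp fun x _ => ?_
  obtain ⟨n, hn, hnx⟩ := exists_mul_mem_normalizer hN (P.isPGroup'.to_le (zj_le e _)) (x := x)
    fun y hy => by
      rw [map_mul, map_mul, map_inv]
      exact h.conj_mem _ ⟨y, hy, rfl⟩ _
  simpa using Subgroup.mul_mem_sup (inv_mem hn) hnx

/-- Glauberman's factorization for `p`-constrained, `p`-stable groups. -/
theorem sup_normalizer_zj_of_constrained_stable {e : ℕ} (hp2 : p ≠ 2) (he : e = 0 ∨ e = p)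
    (hc : Cfsg.IsPConstrained p G) (hs : Cfsg.IsPStable p G) (P : Sylow p G) :
    Cfsg.pPrimeCore p G ⊔ Subgroup.normalizer (zj e (P : Subgroup G) : Set G) = ⊤ := by
  refine sup_normalizer_zj_eq_top CfsgLib.PCore.pPrimeCore_coprime P ?_
  have h := zj_normal (e := e) hp2 he (isPConstrained_iff.mp hc)
    (fun Q hQn hQ => isPStableOn_of_isPStable (isPStable_quotient hs) Q hQ)
    (P.mapSurjective (QuotientGroup.mk'_surjective (Cfsg.pPrimeCore p G)))
  rwa [Sylow.coe_mapSurjective] at h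

end CfsgLib.PLocal
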