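import Cfsg.Agent.Lib.PLocal.SLTwoSection
import Cfsg.Agent.Lib.PLocal.PStableQuot
import Cfsg.Agent.Lib.PGroup.Frattini
import Cfsg.Agent.Lib.Coprime.Commutator

/-!
`p`-stability on `P / Φ(P)` and on `P`; absence of a section `SL(2, p)`.
-/

set_option autoImplicit false
set_option linter.unusedSectionVars false

open scoped MatrixGroups commutatorElement

namespace CfsgLib.PLocal

universe u

variable {p : ℕ} [hp : Fact p.Prime] {G : Type u} [Group G] [Finite G]

/-- A section of a quotient is a section. -/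
theorem exists_surjective_of_surjective {X Y Z : Type*} [Group X] [Group Y] [Group Z] (φ : X →* Y)
    (hφ : Function.Surjective φ) {M : Subgroup Y} {f : M →* Z} (hf : Function.Surjective f) :
    ∃ (M' : Subgroup X) (f' : M' →* Z), Function.Surjective f' := by
  refine ⟨M.comap φ, f.comp (φ.subgroupComap M), hf.comp ?_⟩
  rintro ⟨y, hy⟩
  obtain ⟨x, rfl⟩ := hφ y
  exact ⟨⟨x, hy⟩, rfl⟩

theorem exists_section_top_of_surjective {X Z : Type*} [Group X] [Group Z] {M : Subgroup X}
    {f : M →* Z} (hf : Function.Surjective f) :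
    ∃ (K L : Subgroup X) (_ : (L.subgroupOf K).Normal),
      K ≤ ⊤ ∧ Nonempty ((K ⧸ L.subgroupOf K) ≃* Z) := by
  obtain ⟨M', f', hf'⟩ := exists_surjective_of_surjective
    (Subgroup.topEquiv : (⊤ : Subgroup X) ≃* X).toMonoidHom Subgroup.topEquiv.surjective hf
  exact exists_section_of_surjective hf'

theorem map_quadratic {H : Type*} [Group H] (f : G →* H) {K : Subgroup G} {a : G} {N : Subgroup G}
    (hN : N ≤ f.ker) (h : ⁅⁅K, Subgroup.zpowers a⁆, Subgroup.zpowers a⁆ ≤ N) :
    ⁅⁅K.map f, Subgroup.zpowers (f a)⁆, Subgroup.zpowers (f a)⁆ = ⊥ := by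
  rw [← MonoidHom.map_zpowers, ← Subgroup.map_commutator, ← Subgroup.map_commutator,
    Subgroup.map_eq_bot_iff]
  exact h.trans hN

/-- The image of a section in the quotient carries the stability of the section. -/
theorem isPStableOnSection_of_quotient (K N : Subgroup G) [K.Normal] [N.Normal]
    (h : ∀ [(K.map (QuotientGroup.mk' N)).Normal],
      Cfsg.IsPStableOn p (K.map (QuotientGroup.mk' N))) :
    Cfsg.IsPStableOnSection p K N := by
  haveI hVn : (K.map (QuotientGroup.mk' N)).Normal :=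
    (inferInstance : K.Normal).map _ (QuotientGroup.mk'_surjective N)
  intro a ha
  have h1 := isPStableOn_iff_stabD.mp h (QuotientGroup.mk' N a)
    (map_quadratic _ (QuotientGroup.ker_mk' N).ge ha)
  haveI := stabD_normal p (K.map (QuotientGroup.mk' N))
  refine ⟨(stabD p (K.map (QuotientGroup.mk' N))).comap (QuotientGroup.mk' N), inferInstance,
    Subgroup.comap_mono (centralizer_le_stabD p _), ?_, h1⟩
  set C := Subgroup.centralizer ((K.map (QuotientGroup.mk' N) : Subgroup (G ⧸ N)) : Set (G ⧸ N))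
  obtain ⟨k, hk⟩ := IsPGroup.iff_card.mp
    (CfsgLib.PCore.pCore_isPGroup (p := p) (G := (G ⧸ N) ⧸ C))
  refine ⟨k, ?_⟩
  rw [Cfsg.sectionKernel, Subgroup.relIndex_comap,
    Subgroup.map_comap_eq_self_of_surjective (QuotientGroup.mk'_surjective N), stabD]
  have h2 := Subgroup.relIndex_comap (⊥ : Subgroup ((G ⧸ N) ⧸ C)) (QuotientGroup.mk' C)
    ((Cfsg.pCore p ((G ⧸ N) ⧸ C)).comap (QuotientGroup.mk' C))
  rw [MonoidHom.comap_bot, QuotientGroup.ker_mk', Subgroup.map_comap_eq_self_of_surjective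
    (QuotientGroup.mk'_surjective C), Subgroup.relIndex_bot_left] at h2
  refine h2.trans ?_
  exact hk

/-- The Frattini subgroup of a normal subgroup, seen in the group. -/
theorem frattini_map_normal (P : Subgroup G) [P.Normal] : ((frattini P).map P.subtype).Normal :=
  inferInstance

theorem elementaryAbelian_map_frattini (P : Subgroup G) [P.Normal] (hP : IsPGroup p P)
    [((frattini P).map P.subtype).Normal] :
    Cfsg.IsElementaryAbelian p (P.map (QuotientGroup.mk' ((frattini P).map P.subtype))) := by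
  constructor
  · rw [← Subgroup.commutator_self_eq_bot_iff, ← Subgroup.map_commutator, Subgroup.map_eq_bot_iff,
      QuotientGroup.ker_mk', ← Subgroup.map_subtype_commutator]
    exact Subgroup.map_mono (CfsgLib.PGroup.commutator_le_frattini hP)
  · rintro _ ⟨x, hx, rfl⟩
    rw [← map_pow]
    exact (QuotientGroup.eq_one_iff _).mpr
      ⟨_, CfsgLib.PGroup.pow_mem_frattini hP ⟨x, hx⟩, rfl⟩

/-- Quadratic action on a `p`-group `P` outside `O_p` gives quadratic action on `P / Φ(P)` outside
`O_p`. -/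
theorem not_isPStableOn_map_frattini (P : Subgroup G) [P.Normal] (hP : IsPGroup p P)
    [((frattini P).map P.subtype).Normal]
    [(P.map (QuotientGroup.mk' ((frattini P).map P.subtype))).Normal] {a : G}
    (hq : ⁅⁅P, Subgroup.zpowers a⁆, Subgroup.zpowers a⁆ = ⊥) (hna : a ∉ stabD p P) :
    ¬ Cfsg.IsPStableOn p (P.map (QuotientGroup.mk' ((frattini P).map P.subtype))) := by
  set Φ := (frattini P).map P.subtype with hΦ
  set V := P.map (QuotientGroup.mk' Φ)
  intro hst
  apply hna
  have h1 := isPStableOn_iff_stabD.mp hst (QuotientGroup.mk' Φ a)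
    (map_quadratic _ bot_le hq.le)
  haveI := stabD_normal p V
  set D := (stabD p V).comap (QuotientGroup.mk' Φ) with hD
  set C := Subgroup.centralizer (P : Set G)
  have hDp : IsPGroup p (D.map (QuotientGroup.mk' C)) := by
    rintro ⟨_, d, hd, rfl⟩
    obtain ⟨k, hk⟩ := CfsgLib.PCore.pCore_isPGroup
      ⟨QuotientGroup.mk' (Subgroup.centralizer (V : Set (G ⧸ Φ))) (QuotientGroup.mk' Φ d), hd⟩
    have hk' : QuotientGroup.mk' Φ (d ^ p ^ k) ∈ Subgroup.centralizer (V : Set (G ⧸ Φ)) := by
      rw [map_pow]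
      refine (QuotientGroup.eq_one_iff _).mp ?_
      simpa using congrArg Subtype.val hk
    set c := d ^ p ^ k
    obtain ⟨j, m, hm, hord⟩ :=
      Nat.exists_eq_pow_mul_and_not_dvd (orderOf_pos c).ne' p hp.out.ne_one
    have hle : Subgroup.zpowers (c ^ p ^ j) ≤ Subgroup.centralizer (P : Set G) := by
      refine CfsgLib.Coprime.le_centralizer_of_trivial_on_frattini _ P ?_ ?_ ?_
      · rw [Subgroup.normalizer_eq_top P]; exact le_top
      · obtain ⟨n, hn⟩ := IsPGroup.iff_card.mp (hP.to_subgroup (frattini P))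
        rw [hn, Nat.card_zpowers, orderOf_pow, hord, Nat.gcd_mul_right_left,
          Nat.mul_div_cancel_left _ (pow_pos hp.out.pos j)]
        exact ((hp.out.coprime_iff_not_dvd.mpr hm).symm).pow_right n
      · intro x hx y hy
        have hxV : QuotientGroup.mk' Φ x ∈ Subgroup.centralizer (V : Set (G ⧸ Φ)) := by
          obtain ⟨i, rfl⟩ := hx
          rw [map_zpow, map_pow]
          exact zpow_mem (pow_mem hk' _) i
        have e := Subgroup.mem_centralizer_iff.mp hxV _ ⟨y, hy, rfl⟩
        refine (QuotientGroup.eq_one_iff _).mp ?_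
        show QuotientGroup.mk' Φ (x * y * x⁻¹ * y⁻¹) = 1
        rw [map_mul, map_mul, map_mul, map_inv, map_inv, ← e, mul_inv_cancel_right, mul_inv_cancel]
    refine ⟨k + j, Subtype.ext ?_⟩
    show (QuotientGroup.mk' C d) ^ p ^ (k + j) = 1
    rw [← map_pow, pow_add, pow_mul]
    exact (QuotientGroup.eq_one_iff _).mpr (hle (Subgroup.mem_zpowers _))
  haveI : D.Normal := inferInstance
  exact CfsgLib.PCore.le_pCore (‹D.Normal›.map _ (QuotientGroup.mk'_surjective C)) hDp ⟨a, h1, rfl⟩

/-- Failure of `p`-stability on a normal `p`-subgroup gives a section `SL(2, p)`. -/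
theorem exists_sl2_of_not_isPStableOn_pGroup (hp2 : p ≠ 2) (P : Subgroup G) [P.Normal]
    (hP : IsPGroup p P) (hns : ¬ Cfsg.IsPStableOn p P) :
    ∃ (M : Subgroup G) (f : M →* SL(2, ZMod p)), Function.Surjective f := by
  rw [isPStableOn_iff_stabD] at hns
  push Not at hns
  obtain ⟨a, hq, hna⟩ := hns
  haveI := frattini_map_normal P
  set Φ := (frattini P).map P.subtype with hΦ
  haveI : (P.map (QuotientGroup.mk' Φ)).Normal :=
    (inferInstance : P.Normal).map _ (QuotientGroup.mk'_surjective Φ)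
  obtain ⟨M, f, hf⟩ := exists_sl2_of_not_isPStableOn hp2 _ (elementaryAbelian_map_frattini P hP)
    (not_isPStableOn_map_frattini P hP hq hna)
  exact exists_surjective_of_surjective
    ((QuotientGroup.mk' _).comp (QuotientGroup.mk' Φ))
    ((QuotientGroup.mk'_surjective _).comp (QuotientGroup.mk'_surjective Φ)) hf

/-- With trivial `O_{p'}` and non-trivial `O_p`, failure of `IsPStable` gives a section
`SL(2, p)`. -/
theorem exists_not_isPStableOn_of_not_isPStable (hp2 : p ≠ 2) (hO : Cfsg.pCore p G ≠ ⊥)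
    (hO' : Cfsg.pPrimeCore p G = ⊥) (hns : ¬ Cfsg.IsPStable p G) :
    ∃ (P : Subgroup G) (_ : P.Normal), IsPGroup p P ∧ ¬ Cfsg.IsPStableOn p P := by
  unfold Cfsg.IsPStable at hns
  push Not at hns
  obtain ⟨A, P, hA, hP, hnorm, -, hPn, hcomm, hnle⟩ := hns (hp.out.odd_of_ne_two hp2) hO
  rw [hO', bot_sup_eq] at hPn
  refine ⟨P, hPn, hP, fun hst => hnle ?_⟩
  rintro _ ⟨x, hx, rfl⟩
  have hq : ⁅⁅P, Subgroup.zpowers (x : G)⁆, Subgroup.zpowers (x : G)⁆ = ⊥ :=
    le_bot_iff.mp ((Subgroup.commutator_mono (Subgroup.commutator_mono le_rfl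
      (Subgroup.zpowers_le.mpr (show (x : G) ∈ A from hx)))
      (Subgroup.zpowers_le.mpr (show (x : G) ∈ A from hx))).trans hcomm.le)
  refine (mk_mem_pCore_iff_of_surjective (p := p) (Subgroup.normalizer (P : Set G)).subtype
    (fun y => ⟨⟨y, ?_⟩, rfl⟩) (Subgroup.centralizer (P : Set G)) _ rfl x).mpr
    (isPStableOn_iff_stabD.mp hst _ hq)
  rw [Subgroup.normalizer_eq_top P]
  trivial

end CfsgLib.PLocal
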