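import Cfsg.Agent.Lib.PLocal.StableBasic
import Cfsg.Agent.Lib.PCore.PSolvable
import Cfsg.Agent.Lib.Techniques.PPrimeP
import Cfsg.Agent.Lib.Coprime.Basic
import Cfsg.Agent.Lib.LocalEven.CharP

/-! `p`-constraint, lifting of centralizers and normalizers modulo `O_{p'}`. -/

set_option autoImplicit false

namespace CfsgLib.PLocal

open scoped commutatorElement
open CfsgLib.LocalEvenCharP (IsCharP)

variable {G : Type*} [Group G] [Finite G] {p : ℕ} [Fact p.Prime]

theorem eq_one_of_mem_pGroup_of_mem_coprime {P N : Subgroup G} (hP : IsPGroup p P)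
    (hN : (Nat.card N).Coprime p) {x : G} (h1 : x ∈ P) (h2 : x ∈ N) : x = 1 :=
  Subgroup.mem_bot.mp ((CfsgLib.PCore.inf_eq_bot_of_isPGroup_coprime hP hN).le ⟨h1, h2⟩)

/-- Frattini: an element normalizing `N P` modulo `N` can be corrected to normalize `P`. -/
theorem exists_mul_mem_normalizer {N P : Subgroup G} [N.Normal] (hN : (Nat.card N).Coprime p)
    (hP : IsPGroup p P) {x : G}
    (hx : ∀ y ∈ P, QuotientGroup.mk' N (x * y * x⁻¹) ∈ P.map (QuotientGroup.mk' N)) :
    ∃ n ∈ N, n * x ∈ Subgroup.normalizer (P : Set G) := by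
  set X := P ⊔ N with hX
  have hNn : ∀ H : Subgroup G, H ≤ Subgroup.normalizer (N : Set G) := fun H => by
    rw [Subgroup.normalizer_eq_top N]; exact le_top
  have hsupc := CfsgLib.Coprime.card_sup_of_disjoint (hNn P)
    (by rw [inf_comm]; exact CfsgLib.PCore.inf_eq_bot_of_isPGroup_coprime hP hN)
  have hidx : ¬ p ∣ P.relIndex X := by
    have h1 := Subgroup.relIndex_mul_relIndex (⊥ : Subgroup G) P X bot_le le_sup_left
    rw [Subgroup.relIndex_bot_left, Subgroup.relIndex_bot_left, hsupc] at h1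
    have h2 : P.relIndex X = Nat.card N := Nat.eq_of_mul_eq_mul_left Nat.card_pos h1
    rw [h2]
    exact fun h => ((Fact.out : p.Prime).coprime_iff_not_dvd.mp hN.symm) h
  have hA : P.map (MulAut.conj x).toMonoidHom ≤ X := by
    rintro _ ⟨y, hy, rfl⟩
    have h1 : x * y * x⁻¹ ∈ (P.map (QuotientGroup.mk' N)).comap (QuotientGroup.mk' N) := hx y hy
    rwa [Subgroup.comap_map_eq, QuotientGroup.ker_mk'] at h1
  have hcard : Nat.card (P.map (MulAut.conj x).toMonoidHom) = Nat.card P :=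
    CfsgLib.Techniques.card_map_conj P x
  have hidx' : ¬ p ∣ (P.map (MulAut.conj x).toMonoidHom).relIndex X := by
    have h1 := Subgroup.relIndex_mul_relIndex (⊥ : Subgroup G) _ X bot_le hA
    have h2 := Subgroup.relIndex_mul_relIndex (⊥ : Subgroup G) P X bot_le le_sup_left
    rw [Subgroup.relIndex_bot_left, Subgroup.relIndex_bot_left, hcard] at h1
    rw [Subgroup.relIndex_bot_left, Subgroup.relIndex_bot_left, ← h1] at h2
    rw [← Nat.eq_of_mul_eq_mul_left Nat.card_pos h2]
    exact hidx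
  obtain ⟨z, hz, hzP⟩ := CfsgLib.Techniques.exists_conj_eq_sylow_of hA (hP.map _) hidx'
    le_sup_left hP hidx
  obtain ⟨p₀, hp₀, n, hn, rfl⟩ := CfsgLib.Coprime.exists_mul_of_mem_sup (hNn P) hz
  refine ⟨n, hn, ?_⟩
  have : p₀ * (n * x) ∈ Subgroup.normalizer (P : Set G) := by
    rw [← CfsgLib.Techniques.map_conj_eq_self_iff, ← mul_assoc,
      CfsgLib.Techniques.map_conj_mul]
    exact hzP
  simpa using mul_mem (inv_mem (Subgroup.le_normalizer hp₀)) this

/-- An element normalizing `P` and centralizing it modulo `N` centralizes it. -/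
theorem mem_centralizer_of_mk_eq {N P : Subgroup G} [N.Normal] (hN : (Nat.card N).Coprime p)
    (hP : IsPGroup p P) {x : G} (hxP : x ∈ Subgroup.normalizer (P : Set G))
    (hx : ∀ y ∈ P, QuotientGroup.mk' N (x * y) = QuotientGroup.mk' N (y * x)) :
    x ∈ Subgroup.centralizer (P : Set G) := by
  rw [Subgroup.mem_centralizer_iff]
  intro y hy
  have h1 : x * y * x⁻¹ * y⁻¹ ∈ P :=
    mul_mem ((Subgroup.mem_normalizer_iff.mp hxP y).mp hy) (inv_mem hy)
  have h2 : x * y * x⁻¹ * y⁻¹ ∈ N := by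
    rw [← QuotientGroup.eq_one_iff, ← QuotientGroup.mk'_apply]
    simp only [map_mul, map_inv]
    rw [← map_mul, hx y hy]
    simp
  have h3 := eq_one_of_mem_pGroup_of_mem_coprime hP hN h1 h2
  rw [mul_inv_eq_one, mul_inv_eq_iff_eq_mul] at h3
  exact h3.symm

theorem exists_mul_mem_centralizer {N P : Subgroup G} [N.Normal] (hN : (Nat.card N).Coprime p)
    (hP : IsPGroup p P) {x : G}
    (hx : QuotientGroup.mk' N x ∈
      Subgroup.centralizer ((P.map (QuotientGroup.mk' N) : Subgroup (G ⧸ N)) : Set (G ⧸ N))) :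
    ∃ n ∈ N, n * x ∈ Subgroup.centralizer (P : Set G) := by
  have hc : ∀ y ∈ P, QuotientGroup.mk' N y * QuotientGroup.mk' N x =
      QuotientGroup.mk' N x * QuotientGroup.mk' N y := fun y hy =>
    Subgroup.mem_centralizer_iff.mp hx _ ⟨y, hy, rfl⟩
  obtain ⟨n, hn, hnx⟩ := exists_mul_mem_normalizer hN hP (x := x) fun y hy =>
    ⟨y, hy, by rw [map_mul, map_mul, map_inv, ← hc y hy, mul_inv_cancel_right]⟩
  refine ⟨n, hn, mem_centralizer_of_mk_eq hN hP hnx fun y hy => ?_⟩
  have h1 : QuotientGroup.mk' N n = 1 := (QuotientGroup.eq_one_iff n).mpr hn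
  rw [map_mul, map_mul, map_mul, map_mul, h1, one_mul, hc y hy]

theorem comap_centralizer_map {N P : Subgroup G} [N.Normal] (hN : (Nat.card N).Coprime p)
    (hP : IsPGroup p P) :
    (Subgroup.centralizer ((P.map (QuotientGroup.mk' N) : Subgroup (G ⧸ N)) : Set (G ⧸ N))).comap
      (QuotientGroup.mk' N) = N ⊔ Subgroup.centralizer (P : Set G) := by
  refine le_antisymm (fun x hx => ?_) (sup_le ?_ ?_)
  · obtain ⟨n, hn, hnx⟩ := exists_mul_mem_centralizer hN hP hx
    simpa using Subgroup.mul_mem_sup (inv_mem hn) hnx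
  · intro n hn
    rw [Subgroup.mem_comap, QuotientGroup.mk'_apply, (QuotientGroup.eq_one_iff n).mpr hn]
    exact one_mem _
  · intro c hc
    rw [Subgroup.mem_comap, Subgroup.mem_centralizer_iff]
    rintro _ ⟨y, hy, rfl⟩
    rw [← map_mul, ← map_mul, Subgroup.mem_centralizer_iff.mp hc y hy]

theorem map_sylow_inf_pPrimePCore (S : Sylow p G) :
    ((S : Subgroup G) ⊓ Cfsg.pPrimePCore p G).map (QuotientGroup.mk' (Cfsg.pPrimeCore p G)) =
      Cfsg.pCore p (G ⧸ Cfsg.pPrimeCore p G) := by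
  rw [← CfsgLib.PCore.map_pPrimePCore, ← CfsgLib.Techniques.sylow_inf_pPrimePCore_sup S,
    Subgroup.map_sup, QuotientGroup.map_mk'_self, bot_sup_eq,
    CfsgLib.Techniques.sylow_inf_pPrimePCore_sup S]

theorem comap_centralizer_pCore (S : Sylow p G) :
    (Subgroup.centralizer (Cfsg.pCore p (G ⧸ Cfsg.pPrimeCore p G) :
        Set (G ⧸ Cfsg.pPrimeCore p G))).comap (QuotientGroup.mk' (Cfsg.pPrimeCore p G)) =
      Cfsg.pPrimeCore p G ⊔
        Subgroup.centralizer (((S : Subgroup G) ⊓ Cfsg.pPrimePCore p G : Subgroup G) : Set G) := by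
  rw [← map_sylow_inf_pPrimePCore S]
  exact comap_centralizer_map CfsgLib.PCore.pPrimeCore_coprime (S.isPGroup'.to_le inf_le_left)

theorem exists_sylow_map_eq_inf (K : Subgroup G) (P : Sylow p K) :
    ∃ S : Sylow p G, (P : Subgroup K).map K.subtype = (S : Subgroup G) ⊓ K := by
  obtain ⟨Q, hQ⟩ := P.exists_comap_subtype_eq
  refine ⟨Q, ?_⟩
  rw [← hQ, Subgroup.map_comap_eq, Subgroup.range_subtype, inf_comm]

/-- `G` is `p`-constrained iff `G / O_{p'}(G)` has characteristic `p`. -/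
theorem isPConstrained_iff :
    Cfsg.IsPConstrained p G ↔ IsCharP p (G ⧸ Cfsg.pPrimeCore p G) := by
  constructor
  · intro h
    obtain ⟨P⟩ := (inferInstance : Nonempty (Sylow p (Cfsg.pPrimePCore p G)))
    obtain ⟨S, hS⟩ := exists_sylow_map_eq_inf _ P
    have h1 := h P
    rw [hS] at h1
    refine (Subgroup.comap_le_comap_of_surjective (QuotientGroup.mk'_surjective _)).mp ?_
    rw [comap_centralizer_pCore S]
    exact sup_le CfsgLib.PCore.pPrimeCore_le_pPrimePCore h1
  · intro h P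
    obtain ⟨S, hS⟩ := exists_sylow_map_eq_inf _ P
    rw [hS]
    exact le_sup_right.trans ((comap_centralizer_pCore S).ge.trans (Subgroup.comap_mono h))

theorem isCharP_of_equiv {H : Type*} [Group H] [Finite H] (e : G ≃* H) (h : IsCharP p G) :
    IsCharP p H := by
  intro x hx
  rw [← CfsgLib.PCore.map_pCore_equiv e] at hx ⊢
  refine ⟨e.symm x, h ?_, by simp⟩
  rw [Subgroup.mem_centralizer_iff]
  intro y hy
  apply e.injective
  rw [map_mul, map_mul, e.apply_symm_apply]
  exact Subgroup.mem_centralizer_iff.mp hx (e y) ⟨y, hy, rfl⟩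

theorem isPConstrained_iff_of_core_eq_bot (h0 : Cfsg.pPrimeCore p G = ⊥) :
    Cfsg.IsPConstrained p G ↔ IsCharP p G := by
  rw [isPConstrained_iff]
  exact ⟨isCharP_of_equiv ((QuotientGroup.quotientMulEquivOfEq h0).trans QuotientGroup.quotientBot),
    isCharP_of_equiv ((QuotientGroup.quotientMulEquivOfEq h0).trans QuotientGroup.quotientBot).symm⟩

theorem isPConstrained_iff_quotient :
    Cfsg.IsPConstrained p G ↔ Cfsg.IsPConstrained p (G ⧸ Cfsg.pPrimeCore p G) := by
  rw [isPConstrained_iff,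
    isPConstrained_iff_of_core_eq_bot CfsgLib.PCore.pPrimeCore_quotient_pPrimeCore]

/-- A normal subgroup whose centralizer meets it in a `p`-solvable way: `P` Sylow in `O_{p',p}`
with `p`-solvable centralizer forces `p`-constraint. -/
theorem isPConstrained_of_pSolvable_centralizer (S : Sylow p G)
    (hsol : Cfsg.IsPSolvable p ↥(Subgroup.centralizer
      (((S : Subgroup G) ⊓ Cfsg.pPrimePCore p G : Subgroup G) : Set G))) :
    Cfsg.IsPConstrained p G := by
  rw [isPConstrained_iff]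
  set N := Cfsg.pPrimeCore p G with hN
  set q := QuotientGroup.mk' N with hq
  set R := Cfsg.pCore p (G ⧸ N) with hR
  set C := Subgroup.centralizer (((S : Subgroup G) ⊓ Cfsg.pPrimePCore p G : Subgroup G) : Set G)
  have hCR : C.map q = Subgroup.centralizer (R : Set (G ⧸ N)) := by
    rw [← Subgroup.map_comap_eq_self_of_surjective (QuotientGroup.mk'_surjective N)
      (Subgroup.centralizer (R : Set (G ⧸ N))), comap_centralizer_pCore S, Subgroup.map_sup,
      QuotientGroup.map_mk'_self, bot_sup_eq]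
  set M := Subgroup.centralizer (R : Set (G ⧸ N)) ⊔ R with hM
  have hCbar : Cfsg.IsPSolvable p ↥(Subgroup.centralizer (R : Set (G ⧸ N))) :=
    CfsgLib.PCore.isPSolvable_of_equiv (MulEquiv.subgroupCongr hCR)
      (CfsgLib.PCore.isPSolvable_of_surjective (q.subgroupMap C)
        (MonoidHom.subgroupMap_surjective _ _) hsol)
  have hRp : IsPGroup p R := CfsgLib.PCore.pCore_isPGroup
  have hMsol : Cfsg.IsPSolvable p M := by
    refine CfsgLib.PCore.isPSolvable_extension (R.subgroupOf M)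
      (CfsgLib.PCore.isPSolvable_of_isPGroup (hRp.comap_subtype)) ?_
    refine CfsgLib.PCore.isPSolvable_of_surjective
      ((QuotientGroup.mk' (R.subgroupOf M)).comp (Subgroup.inclusion
        (le_sup_left : Subgroup.centralizer (R : Set (G ⧸ N)) ≤ M))) ?_ hCbar
    intro y
    obtain ⟨⟨m, hm⟩, rfl⟩ := QuotientGroup.mk'_surjective _ y
    obtain ⟨c, hc, r, hr, rfl⟩ := CfsgLib.Coprime.exists_mul_of_mem_sup
      (by rw [Subgroup.normalizer_eq_top R]; exact le_top) hm
    refine ⟨⟨c, hc⟩, (QuotientGroup.eq.mpr ?_)⟩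
    rw [Subgroup.mem_subgroupOf]
    simpa using hr
  have hM0 : Cfsg.pPrimeCore p M = ⊥ :=
    CfsgLib.PCore.pPrimeCore_eq_bot_of_normal M CfsgLib.PCore.pPrimeCore_quotient_pPrimeCore
  have hMR : (Cfsg.pCore p M).map M.subtype = R := by
    rw [CfsgLib.PCore.map_pCore_subtype_of_normal, inf_eq_right.mpr le_sup_right]
  intro x hx
  have h1 : (⟨x, le_sup_left (b := R) hx⟩ : M) ∈ Cfsg.pCore p M := by
    refine CfsgLib.PCore.centralizer_pCore_le hMsol hM0 (Subgroup.mem_centralizer_iff.mpr ?_)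
    intro y hy
    exact Subtype.ext (Subgroup.mem_centralizer_iff.mp hx (y : G ⧸ N) (hMR.le ⟨y, hy, rfl⟩))
  exact hMR.le ⟨_, h1, rfl⟩

section Local

variable {P M : Subgroup G}

theorem pPrimeCore_map_le_centralizer (hP : IsPGroup p P)
    (hMP : M ≤ Subgroup.normalizer (P : Set G))
    (hPM : P ≤ M ∨ M ≤ Subgroup.centralizer (P : Set G)) :
    (Cfsg.pPrimeCore p M).map M.subtype ≤ Subgroup.centralizer (P : Set G) := by
  rintro _ ⟨d, hd, rfl⟩
  rcases hPM with hPM | hMC
  · haveI : (P.subgroupOf M).Normal := Subgroup.normal_subgroupOf_of_le_normalizer hMP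
    have h : ⁅P.subgroupOf M, Cfsg.pPrimeCore p M⁆ = ⊥ :=
      le_bot_iff.mp ((Subgroup.commutator_le_inf _ _).trans_eq
        (CfsgLib.PCore.inf_eq_bot_of_isPGroup_coprime hP.comap_subtype
          CfsgLib.PCore.pPrimeCore_coprime))
    rw [Subgroup.mem_centralizer_iff]
    intro y hy
    rw [Subgroup.commutator_comm, Subgroup.commutator_eq_bot_iff_le_centralizer] at h
    exact congrArg Subtype.val (Subgroup.mem_centralizer_iff.mp (h hd) ⟨y, hPM hy⟩ hy)
  · exact hMC d.2

/-- In a `p`-constrained group, `O_{p'}(M) = O_{p'}(G) ∩ M` for `C(P) ≤ M ≤ N(P)`. -/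
theorem pPrimeCore_local (hG : Cfsg.IsPConstrained p G) (hP : IsPGroup p P)
    (hCM : Subgroup.centralizer (P : Set G) ≤ M) (hMP : M ≤ Subgroup.normalizer (P : Set G))
    (hPM : P ≤ M ∨ M ≤ Subgroup.centralizer (P : Set G)) :
    (Cfsg.pPrimeCore p M).map M.subtype = Cfsg.pPrimeCore p G ⊓ M := by
  refine le_antisymm (le_inf ?_ (Subgroup.map_subtype_le _))
    ((inf_comm _ _).le.trans (CfsgLib.PCore.inf_pPrimeCore_le_map M))
  rintro _ ⟨d, hd, rfl⟩
  have hchar := isPConstrained_iff.mp hG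
  set N := Cfsg.pPrimeCore p G
  set q := QuotientGroup.mk' N with hq
  have hdc : (orderOf (d : G)).Coprime p := by
    rw [Subgroup.orderOf_coe, ← Subgroup.orderOf_mk d hd]
    exact CfsgLib.PCore.pPrimeCore_coprime.coprime_dvd_left (orderOf_dvd_natCard _)
  have hdc' : (orderOf (q (d : G))).Coprime p := hdc.coprime_dvd_left (orderOf_map_dvd q _)
  rw [← QuotientGroup.eq_one_iff (N := N)]
  refine hchar.eq_one hdc' ?_
  refine CfsgLib.LocalEvenCharP.commute_of_fixes_centralizer (A := P.map q)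
    CfsgLib.PCore.pCore_isPGroup (hP.map q)
    (by rw [Subgroup.normalizer_eq_top (Cfsg.pCore p (G ⧸ N))]; exact le_top) hdc'
    (by rw [Subgroup.normalizer_eq_top (Cfsg.pCore p (G ⧸ N))]; trivial) ?_ ?_
  · rintro _ ⟨y, hy, rfl⟩
    change q (d : G) * q y = q y * q (d : G)
    rw [← map_mul, ← map_mul,
      show y * (d : G) = (d : G) * y from
        Subgroup.mem_centralizer_iff.mp (pPrimeCore_map_le_centralizer hP hMP hPM ⟨d, hd, rfl⟩) y hy]
  · intro r hr hrP
    obtain ⟨x, rfl⟩ := QuotientGroup.mk'_surjective N r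
    obtain ⟨n, hn, hnx⟩ := exists_mul_mem_centralizer CfsgLib.PCore.pPrimeCore_coprime hP
      (x := x) (Subgroup.mem_centralizer_iff.mpr hrP)
    have hqx : q (n * x) = q x := by
      rw [map_mul, show q n = 1 from (QuotientGroup.eq_one_iff n).mpr hn, one_mul]
    set m : M := ⟨n * x, hCM hnx⟩
    set w := ⁅d, m⁆ with hw
    have hwD : w ∈ Cfsg.pPrimeCore p M := by
      rw [hw, commutatorElement_def, show d * m * d⁻¹ * m⁻¹ = d * (m * d⁻¹ * m⁻¹) by group]
      exact mul_mem hd ((Cfsg.pPrimeCore_normal p M).conj_mem _ (inv_mem hd) m)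
    have hqw : q (w : G) = q (d : G) * q x * (q (d : G))⁻¹ * (q x)⁻¹ := by
      rw [← hqx, ← map_inv, ← map_inv, ← map_mul, ← map_mul, ← map_mul]
      simp [hw, m, commutatorElement_def, mul_assoc]
    have hwR : q (w : G) ∈ Cfsg.pCore p (G ⧸ N) := by
      rw [hqw]
      exact mul_mem ((Cfsg.pCore_normal p _).conj_mem _ hr _) (inv_mem hr)
    have hw1 : q (w : G) = 1 := by
      refine CfsgLib.LocalEvenCharP.eq_one_of_coprime_of_mem (p := p)
        CfsgLib.PCore.pCore_isPGroup hwR ?_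
      refine Nat.Coprime.coprime_dvd_left ((orderOf_map_dvd q _).trans ?_)
        (CfsgLib.PCore.pPrimeCore_coprime (p := p) (G := M))
      rw [Subgroup.orderOf_coe, ← Subgroup.orderOf_mk w hwD]
      exact orderOf_dvd_natCard _
    have h2 : q (d : G) * q x * (q (d : G))⁻¹ * (q x)⁻¹ = 1 := by rw [← hqw, hw1]
    rwa [mul_inv_eq_one, mul_inv_eq_iff_eq_mul] at h2

/-- Local subgroups of a `p`-constrained group are `p`-constrained. -/
theorem isPConstrained_local (hG : Cfsg.IsPConstrained p G) (hP : IsPGroup p P)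
    (hCM : Subgroup.centralizer (P : Set G) ≤ M) (hMP : M ≤ Subgroup.normalizer (P : Set G))
    (hPM : P ≤ M ∨ M ≤ Subgroup.centralizer (P : Set G)) :
    Cfsg.IsPConstrained p M := by
  have hloc := pPrimeCore_local hG hP hCM hMP hPM
  have hchar := isPConstrained_iff.mp hG
  rw [isPConstrained_iff]
  set N := Cfsg.pPrimeCore p G
  set q := QuotientGroup.mk' N with hq
  have hmem : ∀ m : M, m ∈ Cfsg.pPrimeCore p M ↔ q (m : G) = 1 := by
    intro m
    rw [hq, QuotientGroup.mk'_apply, QuotientGroup.eq_one_iff]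
    constructor
    · intro hm
      exact (hloc.le ⟨m, hm, rfl⟩).1
    · intro hm
      obtain ⟨m', hm', he⟩ := hloc.ge ⟨hm, m.2⟩
      rwa [← M.subtype_injective he]
  refine CfsgLib.LocalEvenCharP.isCharP_of_forall fun c hc hcent => ?_
  obtain ⟨m, rfl⟩ := QuotientGroup.mk'_surjective _ c
  set f := QuotientGroup.mk' (Cfsg.pPrimeCore p M) with hf
  have hcomm : ∀ x : M, f x ∈ Cfsg.pCore p (M ⧸ Cfsg.pPrimeCore p M) →
      q (m : G) * q (x : G) = q (x : G) * q (m : G) := by
    intro x hx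
    have h1 : f (m * x * m⁻¹ * x⁻¹) = 1 := by
      rw [map_mul, map_mul, map_mul, map_inv, map_inv, hcent _ hx]; group
    have h2 : q ((m * x * m⁻¹ * x⁻¹ : M) : G) = 1 :=
      (hmem _).mp ((QuotientGroup.eq_one_iff _).mp h1)
    simp only [Subgroup.coe_mul, Subgroup.coe_inv, map_mul, map_inv] at h2
    rwa [mul_inv_eq_one, mul_inv_eq_iff_eq_mul] at h2
  have hord : (orderOf (q (m : G))).Coprime p := by
    refine hc.coprime_dvd_left ?_
    rw [orderOf_dvd_iff_pow_eq_one, ← map_pow, ← Subgroup.coe_pow, ← hmem,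
      ← QuotientGroup.eq_one_iff]
    exact pow_orderOf_eq_one (f m)
  refine (QuotientGroup.eq_one_iff m).mpr ((hmem m).mpr (hchar.eq_one hord ?_))
  refine CfsgLib.LocalEvenCharP.commute_of_fixes_centralizer (A := P.map q)
    CfsgLib.PCore.pCore_isPGroup (hP.map q)
    (by rw [Subgroup.normalizer_eq_top (Cfsg.pCore p (G ⧸ N))]; exact le_top) hord
    (by rw [Subgroup.normalizer_eq_top (Cfsg.pCore p (G ⧸ N))]; trivial) ?_ ?_
  · rintro _ ⟨y, hy, rfl⟩
    rcases hPM with hPM | hMC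
    · haveI : (P.subgroupOf M).Normal := Subgroup.normal_subgroupOf_of_le_normalizer hMP
      exact hcomm ⟨y, hPM hy⟩ (CfsgLib.PCore.le_pCore
        (Subgroup.Normal.map (H := P.subgroupOf M) inferInstance f (QuotientGroup.mk'_surjective _))
        (hP.comap_subtype.map f) ⟨⟨y, hPM hy⟩, hy, rfl⟩)
    · rw [← map_mul, ← map_mul, Subgroup.mem_centralizer_iff.mp (hMC m.2) y hy]
  · intro r hr hrP
    obtain ⟨x, rfl⟩ := QuotientGroup.mk'_surjective N r
    obtain ⟨n, hn, hnx⟩ := exists_mul_mem_centralizer CfsgLib.PCore.pPrimeCore_coprime hP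
      (x := x) (Subgroup.mem_centralizer_iff.mpr hrP)
    have hqx : q (n * x) = q x := by
      rw [map_mul, show q n = 1 from (QuotientGroup.eq_one_iff n).mpr hn, one_mul]
    have hxK : n * x ∈ Cfsg.pPrimePCore p G := by
      rw [Cfsg.pPrimePCore, Subgroup.mem_comap]
      exact hqx.symm ▸ hr
    set K := (Cfsg.pPrimePCore p G).subgroupOf M with hK
    have hKp : IsPGroup p (K.map f) := by
      rintro ⟨z, y, hy, rfl⟩
      obtain ⟨k, hk⟩ := CfsgLib.PCore.pCore_isPGroup (p := p) (G := G ⧸ N) ⟨q (y : G), hy⟩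
      refine ⟨k, Subtype.ext ?_⟩
      have h1 : q (y : G) ^ p ^ k = 1 := by simpa using congrArg Subtype.val hk
      show f y ^ p ^ k = 1
      rw [← map_pow]
      refine (QuotientGroup.eq_one_iff _).mpr ((hmem _).mpr ?_)
      rw [Subgroup.coe_pow, map_pow, h1]
    have h2 := hcomm ⟨n * x, hCM hnx⟩ (CfsgLib.PCore.le_pCore
      (Subgroup.Normal.map (H := K) inferInstance f (QuotientGroup.mk'_surjective _)) hKp
      ⟨⟨n * x, hCM hnx⟩, hxK, rfl⟩)
    rwa [hqx] at h2

end Local

end CfsgLib.PLocal
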