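import Cfsg.Agent.Lib.OddOrder41.NormalElementary
import Cfsg.Agent.Lib.PCore.Basic
import Cfsg.Agent.Lib.ConstStab.Basic

/-! Normal elementary abelian subgroups of order `p ^ 2` inside a given normal subgroup. -/

set_option autoImplicit false

namespace CfsgLib.PLocal

open Subgroup CfsgLib.OddOrder41
open scoped commutatorElement

variable {R : Type*} [Group R]

/-- A normal subgroup with an element of order `p` outside the central `E` of order `p` contains a
normal elementary abelian subgroup of order `p ^ 2`. -/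
theorem exists_normal_elementary_sq_le [Finite R] {p : ℕ} [hp : Fact p.Prime] (hodd : p ≠ 2) (hR : IsPGroup p R)
    (E : Subgroup R) [E.Normal] (hE : Cfsg.IsElementaryAbelian p E)
    (N : Subgroup R) [N.Normal] (hEN : E ≤ N) (hEp : Nat.card E = p) (x₀ : R) (hx₀N : x₀ ∈ N) (hx₀C : x₀ ∈ centralizer (E : Set R)) (hx₀p : x₀ ^ p = 1) (hx₀E : x₀ ∉ E) :
    ∃ F : Subgroup R, F ≤ N ∧ F.Normal ∧ Cfsg.IsElementaryAbelian p F ∧ Nat.card F = p ^ 2 := by
  classical
  haveI : Group.IsNilpotent R := hR.isNilpotent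
  let S : Set R := {x | x ∈ centralizer (E : Set R) ∧ x ^ p = 1 ∧ x ∉ E ∧ x ∈ N}
  obtain ⟨x, ⟨hxC, hxp, hxE, hxN⟩, hmin⟩ := Set.exists_min_image S (fun x => Nat.card (normalClosure ({x} : Set R)))
    (Set.toFinite _) ⟨x₀, hx₀C, hx₀p, hx₀E, hx₀N⟩
  let Q := normalClosure ({x} : Set R)
  have hxQ : x ∈ Q := subset_normalClosure rfl
  have hQC : Q ≤ centralizer (E : Set R) :=
    normalClosure_le_normal (Set.singleton_subset_iff.mpr hxC)
  let T : Subgroup R := ⁅Q, (⊤ : Subgroup R)⁆
  have hTn : T.Normal := inferInstance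
  have hTQ : T ≤ Q := Subgroup.commutator_le_left Q ⊤
  have hQone : Q ≠ ⊥ := by
    intro h
    rw [h, mem_bot] at hxQ
    exact hxE (hxQ ▸ E.one_mem)
  have hTlt : T ≠ Q := by
    intro h
    have : ∀ n, Q ≤ (⊤ : Subgroup R).lowerCentralSeries n := by
      intro n
      induction n with
      | zero => simp
      | succ n ih =>
        rw [Subgroup.lowerCentralSeries_succ]
        calc Q = ⁅Q, (⊤ : Subgroup R)⁆ := h.symm
          _ ≤ _ := commutator_mono ih le_rfl
    obtain ⟨n, hn⟩ := Subgroup.nilpotent_iff_lowerCentralSeries.mp (inferInstance : Group.IsNilpotent R)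
    exact hQone (le_bot_iff.mp (hn ▸ this n))
  have hTE : ∀ z ∈ T, z ^ p = 1 → z ∈ E := by
    intro z hz hzp
    by_contra hzE
    have h1 := hmin z ⟨hQC (hTQ hz), hzp, hzE,
      normalClosure_le_normal (Set.singleton_subset_iff.mpr hxN) (hTQ hz)⟩
    have h2 : normalClosure ({z} : Set R) ≤ T := normalClosure_le_normal (Set.singleton_subset_iff.mpr hz)
    exact absurd (le_trans h1 (Subgroup.card_le_of_le h2)) (not_le.mpr
      (lt_of_le_of_ne (Subgroup.card_le_of_le hTQ) (fun he => hTlt (Subgroup.eq_of_le_of_card_ge hTQ he.ge))))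
  have hEQ : ∀ e ∈ E, ∀ q ∈ Q, e * q = q * e := fun e he q hq => mem_centralizer_iff.mp (hQC hq) e he
  have hcomT : ∀ q ∈ Q, ∀ g : R, ⁅q, g⁆ ∈ T := fun q hq g => commutator_mem_commutator hq (mem_top g)
  -- key: for `c = [t, y]` with the next commutator central in `Q`, `c` lies in `E`
  have key : ∀ c ∈ T, ∀ y ∈ Q, y ^ p = 1 → (c * y) ^ p = 1 →
      (∀ q ∈ Q, ⁅c⁻¹, y⁻¹⁆ * q = q * ⁅c⁻¹, y⁻¹⁆) → c ∈ E := by
    intro c hcT y hy hyp hcyp hcen
    refine hTE c hcT ?_
    have e : y * c = c * y * ⁅c⁻¹, y⁻¹⁆⁻¹ := by rw [commutatorElement_def]; group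
    have hcen' : ∀ q ∈ Q, ⁅c⁻¹, y⁻¹⁆⁻¹ * q = q * ⁅c⁻¹, y⁻¹⁆⁻¹ := fun q hq =>
      ((Commute.inv_left (hcen q hq))).eq
    obtain ⟨e1, e2⟩ := pow_mul_eq_of_central_step e (hcen' c (hTQ hcT)) (hcen' y hy) p
    rw [hyp, one_mul, mul_one] at e1
    have hcp : ⁅c⁻¹, y⁻¹⁆⁻¹ ^ p = 1 := left_eq_mul.mp e1
    obtain ⟨k, hk⟩ := hp.out.dvd_choose_self two_ne_zero (lt_of_le_of_ne hp.out.two_le (Ne.symm hodd))
    rw [hcyp, hyp, mul_one, hk, pow_mul, hcp, one_pow, mul_one] at e2
    exact e2.symm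
  have hclass : ∀ n, ∀ t ∈ T, t ∈ Subgroup.upperCentralSeries R n → ∀ y ∈ Q, y ^ p = 1 →
      ∀ q ∈ Q, ⁅t, y⁆ * q = q * ⁅t, y⁆ := by
    intro n
    induction n with
    | zero =>
      intro t _ ht y _ _ q _
      rw [Subgroup.upperCentralSeries_zero, mem_bot] at ht
      simp [ht]
    | succ n ih =>
      intro t htT ht y hy hyp q hq
      refine hEQ _ (key _ ?_ y hy hyp ?_ ?_) q hq
      · have := hcomT t (hTQ htT) y
        exact this
      · have : ⁅t, y⁆ * y = t * y * t⁻¹ := by rw [commutatorElement_def]; group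
        rw [this, conj_pow, hyp]; group
      · have hcT : ⁅t, y⁆⁻¹ ∈ T := T.inv_mem (hcomT t (hTQ htT) y)
        refine ih _ hcT ?_ y⁻¹ (Q.inv_mem hy) (by rw [inv_pow, hyp, inv_one])
        exact inv_mem (Subgroup.mem_upperCentralSeries_succ_iff.mp ht y)
  have hcentral : ∀ g : R, ⁅g, x⁆ ∈ E := by
    intro g
    have hcT : ⁅g, x⁆ ∈ T := by
      rw [← commutatorElement_inv x g]
      exact T.inv_mem (hcomT x hxQ g)
    refine key _ hcT x hxQ hxp ?_ ?_
    · have : ⁅g, x⁆ * x = g * x * g⁻¹ := by rw [commutatorElement_def]; group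
      rw [this, conj_pow, hxp]; group
    · obtain ⟨n, hn⟩ := Group.IsNilpotent.nilpotent R
      exact hclass n _ (T.inv_mem hcT) (hn ▸ mem_top _) x⁻¹ (Q.inv_mem hxQ) (by rw [inv_pow, hxp, inv_one])
  let F := closure (insert x (E : Set R))
  have hcom : ∀ u ∈ E, u * x = x * u := fun u hu => hEQ u hu x hxQ
  have hFa : IsMulCommutative F := by
    refine Subgroup.isMulCommutative_closure ?_
    intro a ha b hb
    rcases Set.mem_insert_iff.mp ha with h1 | h1 <;> rcases Set.mem_insert_iff.mp hb with h2 | h2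
    · rw [h1, h2]
    · rw [h1]; exact (hcom b h2).symm
    · rw [h2]; exact hcom a h1
    · exact congrArg Subtype.val (hE.1.is_comm.comm ⟨a, h1⟩ ⟨b, h2⟩)
  refine ⟨F, (closure_le N).mpr (Set.insert_subset hxN hEN), ⟨?_⟩, ⟨hFa, ?_⟩, ?_⟩
  · intro k hk g
    refine closure_conj_invariant (a := g) ?_ k hk
    intro z hz
    rcases Set.mem_insert_iff.mp hz with rfl | hz
    · have : g * z * g⁻¹ = ⁅g, z⁆ * z := by rw [commutatorElement_def]; group
      rw [this]
      exact mul_mem (subset_closure (Set.mem_insert_of_mem _ (hcentral g))) (subset_closure (Set.mem_insert _ _))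
    · exact subset_closure (Set.mem_insert_of_mem _ (Subgroup.Normal.conj_mem inferInstance z hz g))
  · intro a ha
    induction ha using closure_induction with
    | mem z hz =>
      rcases Set.mem_insert_iff.mp hz with rfl | hz
      · exact hxp
      · exact hE.2 z hz
    | one => exact one_pow p
    | mul a b ha hb iha ihb =>
      have hab : Commute a b := congrArg Subtype.val (hFa.is_comm.comm ⟨a, ha⟩ ⟨b, hb⟩)
      rw [hab.mul_pow, iha, ihb, one_mul]
    | inv a ha iha => rw [inv_pow, iha, inv_one]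
  · have hFsup : F = Subgroup.zpowers x ⊔ E := by
      rw [zpowers_eq_closure]
      refine le_antisymm ((closure_le _).mpr (Set.insert_subset
        (mem_sup_left (subset_closure rfl)) fun e he => mem_sup_right he))
        (sup_le ((closure_le _).mpr (Set.singleton_subset_iff.mpr
          (subset_closure (Set.mem_insert _ _)))) fun e he =>
          subset_closure (Set.mem_insert_of_mem _ he))
    have hord : orderOf x = p := orderOf_eq_prime hxp fun h => hxE (h ▸ E.one_mem)
    have hd : Nat.card F ∣ p ^ 2 := by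
      rw [hFsup, sup_comm, sq]
      refine (CfsgLib.PCore.card_sup_dvd_mul E (Subgroup.zpowers x)).trans ?_
      rw [hEp, Nat.card_zpowers, hord]
    obtain ⟨i, hi, hFi⟩ := (Nat.dvd_prime_pow hp.out).mp hd
    have hlt : E < F := SetLike.lt_iff_le_and_exists.mpr
      ⟨fun e he => subset_closure (Set.mem_insert_of_mem _ he), x,
        subset_closure (Set.mem_insert _ _), hxE⟩
    have hc : p < Nat.card F := by
      have h1 := Subgroup.card_le_of_le hlt.le
      rcases lt_or_eq_of_le h1 with h2 | h2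
      · omega
      · exact absurd (Subgroup.eq_of_le_of_card_ge hlt.le h2.ge) hlt.ne
    have : i = 2 := by
      have : i ≠ 0 ∧ i ≠ 1 := ⟨fun h => by rw [hFi, h, pow_zero] at hc; exact absurd hc (by
        have := hp.out.one_lt; omega), fun h => by rw [hFi, h, pow_one] at hc; omega⟩
      omega
    rw [hFi, this]


/-- A non-cyclic normal subgroup contains a normal elementary abelian subgroup of order `p ^ 2`. -/
theorem exists_normal_sq_of_not_isCyclic [Finite R] {p : ℕ} [hp : Fact p.Prime] (hodd : p ≠ 2)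
    (hR : IsPGroup p R) (N : Subgroup R) [hN : N.Normal] (hcyc : ¬ IsCyclic N) :
    ∃ F : Subgroup R, F ≤ N ∧ F.Normal ∧ Cfsg.IsElementaryAbelian p F ∧ Nat.card F = p ^ 2 := by
  have hNn : Nontrivial N := by
    by_contra h
    rw [not_nontrivial_iff_subsingleton] at h
    exact hcyc inferInstance
  haveI := hR.isNilpotent
  obtain ⟨y, hy, hy1, hyc⟩ := exists_central_step N ⊥
    (fun h => (Subgroup.nontrivial_iff_ne_bot N).mp hNn (le_bot_iff.mp h))
  obtain ⟨k, hk⟩ := hR y
  have hy1' : y ≠ 1 := fun h => hy1 (h ▸ (⊥ : Subgroup R).one_mem)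
  obtain ⟨j, hjk, hj⟩ := (Nat.dvd_prime_pow hp.out).mp (orderOf_dvd_of_pow_eq_one hk)
  obtain ⟨i, rfl⟩ : ∃ i, j = i + 1 := Nat.exists_eq_succ_of_ne_zero fun h => hy1' (by
    rw [h, pow_zero, orderOf_eq_one_iff] at hj; exact hj)
  set z := y ^ p ^ i with hz
  have hzo : orderOf z = p := by
    rw [hz, orderOf_pow' _ (pow_ne_zero _ hp.out.ne_zero), hj, pow_succ,
      Nat.gcd_mul_right_left, Nat.mul_div_cancel_left _ (pow_pos hp.out.pos i)]
  have hzc : ∀ g : R, g * z = z * g := fun g =>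
    ((show Commute y g from commutatorElement_eq_one_iff_mul_comm.mp
      (Subgroup.mem_bot.mp (hyc g))).pow_left _).eq.symm
  haveI hEn : (Subgroup.zpowers z).Normal := ⟨fun a ha g => by
    obtain ⟨n, rfl⟩ := ha
    rw [((show Commute g z from hzc g).zpow_right n).eq, mul_inv_cancel_right]
    exact ⟨n, rfl⟩⟩
  have hEp : Nat.card (Subgroup.zpowers z) = p := by rw [Nat.card_zpowers, hzo]
  have hE : Cfsg.IsElementaryAbelian p (Subgroup.zpowers z) := ⟨inferInstance, fun a ha => by
    obtain ⟨n, rfl⟩ := ha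
    have hz1 : z ^ p = 1 := hzo ▸ pow_orderOf_eq_one z
    rw [← zpow_natCast (z ^ n) p, ← zpow_mul, mul_comm, zpow_mul, zpow_natCast, hz1, one_zpow]⟩
  have hEN : Subgroup.zpowers z ≤ N := Subgroup.zpowers_le.mpr (N.pow_mem hy _)
  obtain ⟨x₀, hx₀, hx₀p, hx₀E⟩ : ∃ x : R, x ∈ N ∧ x ^ p = 1 ∧ x ∉ Subgroup.zpowers z := by
    by_contra! hcon
    refine hcyc (CfsgLib.ConstStab.isCyclic_of_unique_prime_subgroup hodd (hR.to_subgroup N)
      fun a b ha hap hbp => ?_)
    have ha' : (a : R) ∈ Subgroup.zpowers z := hcon a a.2 (congrArg Subtype.val hap)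
    have hb' : (b : R) ∈ Subgroup.zpowers z := hcon b b.2 (congrArg Subtype.val hbp)
    have heq : Subgroup.zpowers (a : R) = Subgroup.zpowers z := by
      refine Subgroup.eq_of_le_of_card_ge (Subgroup.zpowers_le.mpr ha') ?_
      rw [hEp, Nat.card_zpowers,
        orderOf_eq_prime (congrArg Subtype.val hap) fun h => ha (Subtype.ext h)]
    rw [← heq] at hb'
    obtain ⟨n, hn⟩ := hb'
    exact ⟨n, Subtype.ext hn⟩
  exact exists_normal_elementary_sq_le hodd hR _ hE N hEN hEp x₀ hx₀
    (Subgroup.mem_centralizer_iff.mpr fun e he => by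
      obtain ⟨n, rfl⟩ := he
      exact ((show Commute x₀ z from hzc x₀).zpow_right n).eq.symm) hx₀p hx₀E

end CfsgLib.PLocal
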