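import Cfsg.Prelude.Def_PLocal

/-!
Thompson subgroups of a subgroup inside an ambient group, uniformly in an exponent parameter `e`:
`e = p` gives the elementary abelian version, `e = 0` the abelian version.
-/

set_option autoImplicit false

namespace CfsgLib.PLocal

variable {G : Type*} [Group G]

/-! ### Elementary facts on `IsElementaryAbelian e` (also for `e = 0`) -/

theorem elemAb_commute {e : ℕ} {A : Subgroup G} (hA : Cfsg.IsElementaryAbelian e A)
    {a b : G} (ha : a ∈ A) (hb : b ∈ A) : a * b = b * a := by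
  haveI := hA.1
  exact setLike_mul_comm ha hb

theorem isMulCommutative_of_forall {A : Subgroup G}
    (h : ∀ a ∈ A, ∀ b ∈ A, a * b = b * a) : IsMulCommutative A :=
  ⟨⟨fun a b => Subtype.ext (h a a.2 b b.2)⟩⟩

theorem elemAb_zero_iff {A : Subgroup G} :
    Cfsg.IsElementaryAbelian 0 A ↔ IsMulCommutative A :=
  ⟨fun h => h.1, fun h => ⟨h, fun a _ => pow_zero a⟩⟩

theorem elemAb_bot (e : ℕ) : Cfsg.IsElementaryAbelian e (⊥ : Subgroup G) := by
  refine ⟨isMulCommutative_of_forall ?_, ?_⟩
  · intro a ha b hb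
    rw [Subgroup.mem_bot] at ha hb; simp [ha, hb]
  · intro a ha
    rw [Subgroup.mem_bot] at ha; simp [ha]

theorem elemAb_of_le {e : ℕ} {A B : Subgroup G} (hB : Cfsg.IsElementaryAbelian e B)
    (h : A ≤ B) : Cfsg.IsElementaryAbelian e A :=
  ⟨isMulCommutative_of_forall fun _ ha _ hb => elemAb_commute hB (h ha) (h hb),
    fun a ha => hB.2 a (h ha)⟩

theorem elemAb_closure {e : ℕ} {s : Set G} (hc : ∀ a ∈ s, ∀ b ∈ s, a * b = b * a)
    (he : ∀ a ∈ s, a ^ e = 1) : Cfsg.IsElementaryAbelian e (Subgroup.closure s) := by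
  have hcomm : IsMulCommutative (Subgroup.closure s) := Subgroup.isMulCommutative_closure hc
  refine ⟨hcomm, fun a ha => ?_⟩
  induction ha using Subgroup.closure_induction with
  | mem x hx => exact he x hx
  | one => exact one_pow e
  | mul x y hx hy ihx ihy =>
    have hxy : Commute x y :=
      setLike_mul_comm hx hy
    rw [hxy.mul_pow, ihx, ihy, mul_one]
  | inv x _ ih => rw [inv_pow, ih, inv_one]

theorem elemAb_sup {e : ℕ} {A B : Subgroup G} (hA : Cfsg.IsElementaryAbelian e A)
    (hB : Cfsg.IsElementaryAbelian e B) (hAB : A ≤ Subgroup.centralizer (B : Set G)) :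
    Cfsg.IsElementaryAbelian e (A ⊔ B) := by
  rw [Subgroup.sup_eq_closure]
  apply elemAb_closure
  · rintro a (ha | ha) b (hb | hb)
    · exact elemAb_commute hA ha hb
    · exact (Subgroup.mem_centralizer_iff.mp (hAB ha) b hb).symm
    · exact Subgroup.mem_centralizer_iff.mp (hAB hb) a ha
    · exact elemAb_commute hB ha hb
  · rintro a (ha | ha)
    · exact hA.2 a ha
    · exact hB.2 a ha

theorem elemAb_map {e : ℕ} {H : Type*} [Group H] (f : G →* H) {A : Subgroup G}
    (hA : Cfsg.IsElementaryAbelian e A) : Cfsg.IsElementaryAbelian e (A.map f) := by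
  refine ⟨isMulCommutative_of_forall ?_, ?_⟩
  · rintro _ ⟨a, ha, rfl⟩ _ ⟨b, hb, rfl⟩
    rw [← map_mul, ← map_mul, elemAb_commute hA ha hb]
  · rintro _ ⟨a, ha, rfl⟩
    rw [← map_pow, hA.2 a ha, map_one]

theorem elemAb_map_iff {e : ℕ} {H : Type*} [Group H] {f : G →* H} (hf : Function.Injective f)
    {A : Subgroup G} : Cfsg.IsElementaryAbelian e (A.map f) ↔ Cfsg.IsElementaryAbelian e A := by
  refine ⟨fun h => ⟨isMulCommutative_of_forall ?_, ?_⟩, elemAb_map f⟩
  · intro a ha b hb
    apply hf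
    rw [map_mul, map_mul]
    exact elemAb_commute h (Subgroup.mem_map_of_mem f ha) (Subgroup.mem_map_of_mem f hb)
  · intro a ha
    apply hf
    rw [map_pow, map_one]
    exact h.2 _ (Subgroup.mem_map_of_mem f ha)

theorem elemAb_isPGroup {p : ℕ} {A : Subgroup G} (hA : Cfsg.IsElementaryAbelian p A) :
    IsPGroup p A :=
  isPGroup_iff_pow_pow_eq_one.mpr fun a => ⟨1, Subtype.ext (by simpa using hA.2 a a.2)⟩

/-! ### Maximal-order members inside a subgroup and the Thompson subgroup -/

/-- `A` has largest order among the abelian subgroups of exponent dividing `e` of `P`. -/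
def IsMaxElemIn (e : ℕ) (P A : Subgroup G) : Prop :=
  A ≤ P ∧ Cfsg.IsElementaryAbelian e A ∧
    ∀ B : Subgroup G, B ≤ P → Cfsg.IsElementaryAbelian e B → Nat.card B ≤ Nat.card A

/-- The Thompson subgroup of `P` inside `G` (`e = p`: elementary abelian, `e = 0`: abelian). -/
def thompson (e : ℕ) (P : Subgroup G) : Subgroup G :=
  sSup {A | IsMaxElemIn e P A}

/-- `Z(J(P))` inside `G`. -/
def centerJ (e : ℕ) (P : Subgroup G) : Subgroup G :=
  thompson e P ⊓ Subgroup.centralizer (thompson e P : Set G)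

theorem IsMaxElemIn.le {e : ℕ} {P A : Subgroup G} (h : IsMaxElemIn e P A) : A ≤ P := h.1

theorem IsMaxElemIn.elem {e : ℕ} {P A : Subgroup G} (h : IsMaxElemIn e P A) :
    Cfsg.IsElementaryAbelian e A := h.2.1

theorem IsMaxElemIn.card_eq {e : ℕ} {P A B : Subgroup G} (hA : IsMaxElemIn e P A)
    (hB : IsMaxElemIn e P B) : Nat.card A = Nat.card B :=
  le_antisymm (hB.2.2 A hA.1 hA.2.1) (hA.2.2 B hB.1 hB.2.1)

theorem IsMaxElemIn.of_card_le {e : ℕ} {P A B : Subgroup G} (hA : IsMaxElemIn e P A)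
    (hBP : B ≤ P) (hB : Cfsg.IsElementaryAbelian e B) (h : Nat.card A ≤ Nat.card B) :
    IsMaxElemIn e P B :=
  ⟨hBP, hB, fun C hC hC' => (hA.2.2 C hC hC').trans h⟩

theorem IsMaxElemIn.eq_of_le [Finite G] {e : ℕ} {P A B : Subgroup G} (hA : IsMaxElemIn e P A)
    (hBP : B ≤ P) (hB : Cfsg.IsElementaryAbelian e B) (h : A ≤ B) : A = B :=
  Subgroup.eq_of_le_of_card_ge h (hA.2.2 B hBP hB)

theorem exists_isMaxElemIn [Finite G] (e : ℕ) (P : Subgroup G) :
    ∃ A : Subgroup G, IsMaxElemIn e P A := by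
  classical
  obtain ⟨A, hA, hmax⟩ := Set.exists_max_image
    {A : Subgroup G | A ≤ P ∧ Cfsg.IsElementaryAbelian e A} (fun A => Nat.card A)
    (Set.toFinite _) ⟨⊥, bot_le, elemAb_bot e⟩
  exact ⟨A, hA.1, hA.2, fun B h1 h2 => hmax B ⟨h1, h2⟩⟩

theorem IsMaxElemIn.le_thompson {e : ℕ} {P A : Subgroup G} (h : IsMaxElemIn e P A) :
    A ≤ thompson e P :=
  le_sSup h

theorem thompson_le (e : ℕ) (P : Subgroup G) : thompson e P ≤ P :=
  sSup_le fun _ hA => hA.1

theorem thompson_le_iff {e : ℕ} {P T : Subgroup G} :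
    thompson e P ≤ T ↔ ∀ A, IsMaxElemIn e P A → A ≤ T :=
  sSup_le_iff

theorem centerJ_le_thompson (e : ℕ) (P : Subgroup G) : centerJ e P ≤ thompson e P := inf_le_left

theorem centerJ_le (e : ℕ) (P : Subgroup G) : centerJ e P ≤ P :=
  inf_le_left.trans (thompson_le e P)

/-- An element of `P` of exponent dividing `e` centralizing a maximal member lies in it. -/
theorem IsMaxElemIn.mem_of_centralizes [Finite G] {e : ℕ} {P A : Subgroup G}
    (hA : IsMaxElemIn e P A) {x : G} (hx : x ∈ P) (hxe : x ^ e = 1)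
    (hc : ∀ a ∈ A, a * x = x * a) : x ∈ A := by
  have h1 : Cfsg.IsElementaryAbelian e (Subgroup.zpowers x) := by
    rw [Subgroup.zpowers_eq_closure]
    apply elemAb_closure <;> simp_all
  have h2 : Subgroup.zpowers x ≤ Subgroup.centralizer (A : Set G) := by
    rw [Subgroup.zpowers_le]
    exact Subgroup.mem_centralizer_iff.mpr hc
  have h3 := hA.eq_of_le (sup_le hA.1 (Subgroup.zpowers_le.mpr hx))
    (by rw [sup_comm]; exact elemAb_sup h1 hA.elem h2) le_sup_left
  exact h3.ge (le_sup_right (a := A) (Subgroup.mem_zpowers x))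

/-- The elements of exponent dividing `e` of `P` centralizing `J(P)` lie in every maximal member. -/
theorem IsMaxElemIn.mem_of_centralizes_thompson [Finite G] {e : ℕ} {P A : Subgroup G}
    (hA : IsMaxElemIn e P A) {x : G} (hx : x ∈ P) (hxe : x ^ e = 1)
    (hc : x ∈ Subgroup.centralizer (thompson e P : Set G)) : x ∈ A :=
  hA.mem_of_centralizes hx hxe fun a ha =>
    Subgroup.mem_centralizer_iff.mp hc a (hA.le_thompson ha)

theorem mem_centerJ_of_centralizes [Finite G] {e : ℕ} {P : Subgroup G} {x : G} (hx : x ∈ P)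
    (hxe : x ^ e = 1) (hc : x ∈ Subgroup.centralizer (thompson e P : Set G)) :
    x ∈ centerJ e P := by
  obtain ⟨A, hA⟩ := exists_isMaxElemIn e P
  exact ⟨hA.le_thompson (hA.mem_of_centralizes_thompson hx hxe hc), hc⟩

/-- For the abelian version, `Z(J(P)) = C_P(J(P))`. -/
theorem centerJ_zero_eq [Finite G] (P : Subgroup G) :
    centerJ 0 P = P ⊓ Subgroup.centralizer (thompson 0 P : Set G) :=
  le_antisymm (inf_le_inf_right _ (thompson_le 0 P))
    fun x hx => mem_centerJ_of_centralizes hx.1 (pow_zero x) hx.2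

theorem centralizes_centerJ {e : ℕ} {P : Subgroup G} {x a : G} (hx : x ∈ centerJ e P)
    (ha : a ∈ thompson e P) : a * x = x * a :=
  Subgroup.mem_centralizer_iff.mp hx.2 a ha

theorem centerJ_isMulCommutative (e : ℕ) (P : Subgroup G) :
    IsMulCommutative (centerJ e P) :=
  isMulCommutative_of_forall fun _ ha _ hb => centralizes_centerJ hb ha.1

/-! ### Transport along injective homomorphisms -/

variable {H : Type*} [Group H]

theorem isMaxElemIn_map_iff {e : ℕ} {f : G →* H} (hf : Function.Injective f) {P A : Subgroup G} :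
    IsMaxElemIn e (P.map f) (A.map f) ↔ IsMaxElemIn e P A := by
  constructor
  · rintro ⟨h1, h2, h3⟩
    refine ⟨(Subgroup.map_le_map_iff_of_injective hf).mp h1, (elemAb_map_iff hf).mp h2, ?_⟩
    intro B hB hB'
    have := h3 (B.map f) (Subgroup.map_mono hB) (elemAb_map f hB')
    rwa [Subgroup.card_map_of_injective hf, Subgroup.card_map_of_injective hf] at this
  · rintro ⟨h1, h2, h3⟩
    refine ⟨Subgroup.map_mono h1, elemAb_map f h2, ?_⟩
    intro B hB hB'
    have hBr : B ≤ f.range := hB.trans (Subgroup.map_le_range f P)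
    have hBeq : (B.comap f).map f = B := Subgroup.map_comap_eq_self hBr
    have hle : B.comap f ≤ P := by
      rw [← Subgroup.comap_map_eq_self_of_injective hf P]
      exact Subgroup.comap_mono hB
    rw [← hBeq] at hB' ⊢
    rw [Subgroup.card_map_of_injective hf, Subgroup.card_map_of_injective hf]
    exact h3 _ hle ((elemAb_map_iff hf).mp hB')

theorem setOf_isMaxElemIn_map {e : ℕ} {f : G →* H} (hf : Function.Injective f) (P : Subgroup G) :
    {B | IsMaxElemIn e (P.map f) B} = Subgroup.map f '' {A | IsMaxElemIn e P A} := by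
  ext B
  constructor
  · intro hB
    have hBeq : (B.comap f).map f = B :=
      Subgroup.map_comap_eq_self (hB.1.trans (Subgroup.map_le_range f P))
    exact ⟨B.comap f, (isMaxElemIn_map_iff hf).mp (by rw [hBeq]; exact hB), hBeq⟩
  · rintro ⟨A, hA, rfl⟩
    exact (isMaxElemIn_map_iff hf).mpr hA

theorem thompson_map {e : ℕ} {f : G →* H} (hf : Function.Injective f) (P : Subgroup G) :
    thompson e (P.map f) = (thompson e P).map f := by
  unfold thompson
  rw [setOf_isMaxElemIn_map hf, sSup_image, (Subgroup.gc_map_comap f).l_sSup]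

theorem centerJ_map {e : ℕ} {f : G →* H} (hf : Function.Injective f) (P : Subgroup G) :
    centerJ e (P.map f) = (centerJ e P).map f := by
  unfold centerJ
  rw [thompson_map hf]
  ext y
  simp only [Subgroup.mem_inf, Subgroup.mem_map, Subgroup.mem_centralizer_iff, Subgroup.coe_map,
    Set.forall_mem_image, SetLike.mem_coe]
  constructor
  · rintro ⟨⟨x, hx, rfl⟩, hc⟩
    exact ⟨x, ⟨hx, fun a ha => hf (by rw [map_mul, map_mul]; exact hc ha)⟩, rfl⟩
  · rintro ⟨x, ⟨hx, hc⟩, rfl⟩
    exact ⟨⟨x, hx, rfl⟩, fun a ha => by rw [← map_mul, ← map_mul, hc a ha]⟩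

theorem omegaOne_map {p : ℕ} {f : G →* H} (hf : Function.Injective f) (P : Subgroup G) :
    Cfsg.omegaOne p (P.map f) = (Cfsg.omegaOne p P).map f := by
  unfold Cfsg.omegaOne
  rw [MonoidHom.map_closure]
  congr 1
  ext y
  simp only [Set.mem_setOf_eq, Subgroup.mem_map, Set.mem_image]
  constructor
  · rintro ⟨⟨x, hx, rfl⟩, hy⟩
    exact ⟨x, ⟨hx, hf (by rw [map_pow, hy, map_one])⟩, rfl⟩
  · rintro ⟨x, ⟨hx, hxp⟩, rfl⟩
    exact ⟨⟨x, hx, rfl⟩, by rw [← map_pow, hxp, map_one]⟩

theorem map_conj_eq_of_mem_normalizer {P : Subgroup G} {g : G}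
    (hg : g ∈ Subgroup.normalizer (P : Set G)) : P.map (MulAut.conj g : G →* G) = P :=
  Subgroup.mem_normalizer_iff_map_conj_eq.mp hg

theorem thompson_conj (e : ℕ) (P : Subgroup G) (g : G) :
    thompson e (P.map (MulAut.conj g : G →* G)) =
      (thompson e P).map (MulAut.conj g : G →* G) :=
  thompson_map (f := (MulAut.conj g : G →* G)) (MulAut.conj g).injective P

theorem centerJ_conj (e : ℕ) (P : Subgroup G) (g : G) :
    centerJ e (P.map (MulAut.conj g : G →* G)) =
      (centerJ e P).map (MulAut.conj g : G →* G) :=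
  centerJ_map (f := (MulAut.conj g : G →* G)) (MulAut.conj g).injective P

theorem normalizer_le_normalizer_thompson (e : ℕ) (P : Subgroup G) :
    Subgroup.normalizer (P : Set G) ≤ Subgroup.normalizer (thompson e P : Set G) := by
  intro g hg
  rw [Subgroup.mem_normalizer_iff_map_conj_eq, ← thompson_conj, map_conj_eq_of_mem_normalizer hg]

theorem normalizer_le_normalizer_centerJ (e : ℕ) (P : Subgroup G) :
    Subgroup.normalizer (P : Set G) ≤ Subgroup.normalizer (centerJ e P : Set G) := by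
  intro g hg
  rw [Subgroup.mem_normalizer_iff_map_conj_eq, ← centerJ_conj, map_conj_eq_of_mem_normalizer hg]

theorem le_normalizer_thompson (e : ℕ) (P : Subgroup G) :
    P ≤ Subgroup.normalizer (thompson e P : Set G) :=
  Subgroup.le_normalizer.trans (normalizer_le_normalizer_thompson e P)

theorem le_normalizer_centerJ (e : ℕ) (P : Subgroup G) :
    P ≤ Subgroup.normalizer (centerJ e P : Set G) :=
  Subgroup.le_normalizer.trans (normalizer_le_normalizer_centerJ e P)

/-- `J(T) = J(P)` if `J(P) ≤ T ≤ P`; more precisely the maximal members coincide. -/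
theorem isMaxElemIn_iff_of_le [Finite G] {e : ℕ} {P T A : Subgroup G} (hTP : T ≤ P)
    (hJ : thompson e P ≤ T) : IsMaxElemIn e T A ↔ IsMaxElemIn e P A := by
  obtain ⟨A₀, hA₀⟩ := exists_isMaxElemIn e P
  have hA₀T : A₀ ≤ T := hA₀.le_thompson.trans hJ
  constructor
  · intro h
    exact hA₀.of_card_le (h.1.trans hTP) h.2.1 (h.2.2 A₀ hA₀T hA₀.2.1)
  · intro h
    exact ⟨h.le_thompson.trans hJ, h.2.1, fun B hB hB' => h.2.2 B (hB.trans hTP) hB'⟩

theorem thompson_eq_of_le [Finite G] {e : ℕ} {P T : Subgroup G} (hTP : T ≤ P)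
    (hJ : thompson e P ≤ T) : thompson e T = thompson e P := by
  unfold thompson
  congr 1
  ext A
  exact isMaxElemIn_iff_of_le hTP hJ

theorem centerJ_eq_of_le [Finite G] {e : ℕ} {P T : Subgroup G} (hTP : T ≤ P)
    (hJ : thompson e P ≤ T) : centerJ e T = centerJ e P := by
  unfold centerJ; rw [thompson_eq_of_le hTP hJ]

/-! ### Bridge to the definitions of the Prelude -/

theorem setOf_isMaxElemIn_top (e : ℕ) :
    {A : Subgroup G | IsMaxElemIn e ⊤ A} = Cfsg.maxElementaryAbelianSubgroups e G := by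
  ext A
  exact ⟨fun h => ⟨h.2.1, fun B hB => h.2.2 B le_top hB⟩,
    fun h => ⟨le_top, h.1, fun B _ hB => h.2 B hB⟩⟩

theorem setOf_isMaxElemIn_zero_top :
    {A : Subgroup G | IsMaxElemIn 0 ⊤ A} = Cfsg.maxAbelianSubgroups G := by
  ext A
  exact ⟨fun h => ⟨h.2.1.1, fun B hB => h.2.2 B le_top (elemAb_zero_iff.mpr hB)⟩,
    fun h => ⟨le_top, elemAb_zero_iff.mpr h.1, fun B _ hB => h.2 B hB.1⟩⟩

theorem thompsonSubgroup_eq (p : ℕ) : Cfsg.thompsonSubgroup p G = thompson p ⊤ := by
  unfold thompson Cfsg.thompsonSubgroup; rw [setOf_isMaxElemIn_top]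

theorem thompsonSubgroupA_eq : Cfsg.thompsonSubgroupA G = thompson 0 (⊤ : Subgroup G) := by
  unfold thompson Cfsg.thompsonSubgroupA; rw [setOf_isMaxElemIn_zero_top]

theorem map_subtype_top (P : Subgroup G) : (⊤ : Subgroup P).map P.subtype = P := by
  rw [← MonoidHom.range_eq_map, Subgroup.range_subtype]

theorem image_maxElementaryAbelianSubgroups (p : ℕ) (P : Subgroup G) :
    (fun A : Subgroup P => A.map P.subtype) '' Cfsg.maxElementaryAbelianSubgroups p P =
      {A | IsMaxElemIn p P A} := by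
  rw [← setOf_isMaxElemIn_top, ← setOf_isMaxElemIn_map P.subtype_injective, map_subtype_top]

theorem image_maxAbelianSubgroups (P : Subgroup G) :
    (fun A : Subgroup P => A.map P.subtype) '' Cfsg.maxAbelianSubgroups P =
      {A | IsMaxElemIn 0 P A} := by
  rw [← setOf_isMaxElemIn_zero_top, ← setOf_isMaxElemIn_map P.subtype_injective, map_subtype_top]

theorem thompsonSubgroupOf_eq (p : ℕ) (P : Subgroup G) :
    Cfsg.thompsonSubgroupOf p P = thompson p P := by
  unfold Cfsg.thompsonSubgroupOf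
  rw [thompsonSubgroup_eq, ← thompson_map P.subtype_injective, map_subtype_top]

theorem thompsonSubgroupAOf_eq (P : Subgroup G) :
    Cfsg.thompsonSubgroupAOf P = thompson 0 P := by
  unfold Cfsg.thompsonSubgroupAOf
  rw [thompsonSubgroupA_eq, ← thompson_map P.subtype_injective, map_subtype_top]

theorem centerThompsonOf_eq (p : ℕ) (P : Subgroup G) :
    Cfsg.centerThompsonOf p P = centerJ p P := by
  unfold Cfsg.centerThompsonOf centerJ; rw [thompsonSubgroupOf_eq]

theorem centerThompsonAOf_eq (P : Subgroup G) :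
    Cfsg.centerThompsonAOf P = centerJ 0 P := by
  unfold Cfsg.centerThompsonAOf centerJ; rw [thompsonSubgroupAOf_eq]

theorem omegaCenterThompson_eq (p : ℕ) :
    Cfsg.omegaCenterThompson p G = Cfsg.omegaOne p (centerJ p (⊤ : Subgroup G)) := by
  unfold Cfsg.omegaCenterThompson centerJ; rw [thompsonSubgroup_eq]

theorem map_omegaCenterThompson (p : ℕ) (P : Subgroup G) :
    (Cfsg.omegaCenterThompson p P).map P.subtype = Cfsg.omegaOne p (centerJ p P) := by
  rw [omegaCenterThompson_eq, ← omegaOne_map P.subtype_injective,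
    ← centerJ_map P.subtype_injective, map_subtype_top]

/-! ### `Ω₁(Z(J(P)))` -/

theorem omegaOne_le (p : ℕ) (P : Subgroup G) : Cfsg.omegaOne p P ≤ P :=
  (Subgroup.closure_le P).mpr fun _ hx => hx.1

theorem mem_omegaOne {p : ℕ} {P : Subgroup G} {x : G} (hx : x ∈ P) (hxp : x ^ p = 1) :
    x ∈ Cfsg.omegaOne p P :=
  Subgroup.subset_closure ⟨hx, hxp⟩

theorem omegaOne_mono {p : ℕ} {P Q : Subgroup G} (h : P ≤ Q) :
    Cfsg.omegaOne p P ≤ Cfsg.omegaOne p Q :=
  Subgroup.closure_mono fun _ hx => ⟨h hx.1, hx.2⟩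

theorem omegaOne_elemAb (p : ℕ) (P : Subgroup G) [hP : IsMulCommutative P] :
    Cfsg.IsElementaryAbelian p (Cfsg.omegaOne p P) :=
  elemAb_closure (fun _ ha _ hb => setLike_mul_comm ha.1 hb.1) fun _ ha => ha.2

theorem omegaOne_centerJ_elemAb (p : ℕ) (P : Subgroup G) :
    Cfsg.IsElementaryAbelian p (Cfsg.omegaOne p (centerJ p P)) :=
  haveI := centerJ_isMulCommutative p P
  omegaOne_elemAb p _

theorem normalizer_le_normalizer_omegaOne (p : ℕ) (P : Subgroup G) :
    Subgroup.normalizer (P : Set G) ≤ Subgroup.normalizer (Cfsg.omegaOne p P : Set G) := by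
  intro g hg
  rw [Subgroup.mem_normalizer_iff_map_conj_eq, ← omegaOne_map (f := (MulAut.conj g : G →* G)) (MulAut.conj g).injective,
    map_conj_eq_of_mem_normalizer hg]

/-- `Ω₁(Z(J(P)))` is the intersection of the maximal elementary abelian subgroups of `P`. -/
theorem omegaOne_centerJ_eq_sInf [Finite G] (p : ℕ) (P : Subgroup G) :
    Cfsg.omegaOne p (centerJ p P) = sInf {A | IsMaxElemIn p P A} := by
  refine le_antisymm (le_sInf fun A hA => (Subgroup.closure_le A).mpr ?_) ?_
  · exact fun x hx => hA.mem_of_centralizes_thompson (centerJ_le p P hx.1) hx.2 hx.1.2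
  · intro x hx
    rw [Subgroup.mem_sInf] at hx
    obtain ⟨A₀, hA₀⟩ := exists_isMaxElemIn p P
    have hc : x ∈ Subgroup.centralizer (thompson p P : Set G) := by
      have : thompson p P ≤ Subgroup.centralizer ({x} : Set G) := by
        rw [thompson_le_iff]
        intro A hA a ha
        rw [Subgroup.mem_centralizer_iff]
        rintro y rfl
        exact elemAb_commute hA.elem (hx A hA) ha
      rw [Subgroup.mem_centralizer_iff]
      intro a ha
      exact (Subgroup.mem_centralizer_iff.mp (this ha) x rfl).symm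
    exact mem_omegaOne ⟨hA₀.le_thompson (hx A₀ hA₀), hc⟩ (hA₀.elem.2 x (hx A₀ hA₀))

/-- `Ω₁(Z(P))` lies in `Ω₁(Z(J(P)))`. -/
theorem omegaOne_inf_centralizer_le [Finite G] (p : ℕ) (P : Subgroup G) :
    Cfsg.omegaOne p (P ⊓ Subgroup.centralizer (P : Set G)) ≤
      Cfsg.omegaOne p (centerJ p P) := by
  refine (Subgroup.closure_le _).mpr fun x hx => mem_omegaOne ?_ hx.2
  exact mem_centerJ_of_centralizes hx.1.1 hx.2
    (Subgroup.centralizer_le (thompson_le p P) hx.1.2)

theorem inf_centralizer_le_centerJ_zero [Finite G] (P : Subgroup G) :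
    P ⊓ Subgroup.centralizer (P : Set G) ≤ centerJ 0 P := fun x hx =>
  mem_centerJ_of_centralizes hx.1 (pow_zero x)
    (Subgroup.centralizer_le (thompson_le 0 P) hx.2)

theorem centerJ_zero_ne_bot [Finite G] {p : ℕ} [Fact p.Prime] {P : Subgroup G}
    (hP : IsPGroup p P) (h : P ≠ ⊥) : centerJ 0 P ≠ ⊥ := by
  haveI : Nontrivial P := (Subgroup.nontrivial_iff_ne_bot P).mpr h
  obtain ⟨⟨z, hz⟩, hz1⟩ := Subgroup.ne_bot_iff_exists_ne_one.mp (ne_of_gt hP.bot_lt_center)
  intro hbot
  have : ((z : P) : G) ∈ centerJ 0 P := by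
    refine inf_centralizer_le_centerJ_zero P ⟨(z : P).2, Subgroup.mem_centralizer_iff.mpr fun a ha => ?_⟩
    exact congrArg Subtype.val (Subgroup.mem_center_iff.mp hz ⟨a, ha⟩)
  rw [hbot, Subgroup.mem_bot] at this
  exact hz1 (Subtype.ext (Subtype.ext this))

end CfsgLib.PLocal
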