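import Cfsg.Agent.Lib.PLocal.Thompson
import Cfsg.Agent.Lib.Coprime.Basic

/-!
Glauberman's replacement theorem.
-/

set_option autoImplicit false

namespace CfsgLib.PLocal

open scoped commutatorElement

variable {G : Type*} [Group G]

/-! ### Small commutator facts -/

theorem mem_centralizer_of_commutator_eq_bot {A B : Subgroup G} (h : ⁅A, B⁆ = ⊥) {a b : G}
    (ha : a ∈ A) (hb : b ∈ B) : a * b = b * a := by
  have h1 : ⁅a, b⁆ ∈ ⁅A, B⁆ := Subgroup.commutator_mem_commutator ha hb
  rw [h, Subgroup.mem_bot] at h1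
  exact commutatorElement_eq_one_iff_mul_comm.mp h1

theorem conj_mem_of_mem_normalizer {H : Subgroup G} {g : G}
    (hg : g ∈ Subgroup.normalizer (H : Set G)) {x : G} (hx : x ∈ H) : g * x * g⁻¹ ∈ H :=
  (Subgroup.mem_normalizer_iff.mp hg x).mp hx

theorem inv_conj_mem_of_mem_normalizer {H : Subgroup G} {g : G}
    (hg : g ∈ Subgroup.normalizer (H : Set G)) {x : G} (hx : x ∈ H) : g⁻¹ * x * g ∈ H :=
  (Subgroup.mem_normalizer_iff''.mp hg x).mp hx

/-- `[[B, A], [B, A]] ≤ B ∩ C(B)` when `A` normalizes `B` and centralizes `[B, B]`. -/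
theorem derived_commutator_central {A B : Subgroup G} (hAB : A ≤ Subgroup.normalizer (B : Set G))
    (hc : ⁅⁅B, B⁆, A⁆ = ⊥) :
    ⁅⁅B, A⁆, ⁅B, A⁆⁆ ≤ B ⊓ Subgroup.centralizer (B : Set G) := by
  have hXB : ⁅B, A⁆ ≤ B := Subgroup.le_normalizer_iff_commutator_le_left.mp hAB
  have hBB : B ≤ Subgroup.normalizer (⁅B, B⁆ : Subgroup G) :=
    Subgroup.normalizer_commutator_ge_left B B
  have hXc : ⁅B, A⁆ ≤ Subgroup.centralizer (⁅B, B⁆ : Subgroup G) := by
    rw [Subgroup.commutator_le]
    intro x hx a ha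
    rw [Subgroup.mem_centralizer_iff]
    intro w hw
    have h1 : w * a = a * w := mem_centralizer_of_commutator_eq_bot hc hw ha
    have h1' : w * a⁻¹ = a⁻¹ * w := mem_centralizer_of_commutator_eq_bot hc hw (inv_mem ha)
    have hw' : x⁻¹ * w * x ∈ ⁅B, B⁆ := inv_conj_mem_of_mem_normalizer (hBB hx) hw
    have h2 : x⁻¹ * w * x * a = a * (x⁻¹ * w * x) :=
      mem_centralizer_of_commutator_eq_bot hc hw' ha
    have h2' : w * (x * a * x⁻¹) = x * a * x⁻¹ * w := by
      calc w * (x * a * x⁻¹) = x * (x⁻¹ * w * x * a) * x⁻¹ := by group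
        _ = x * (a * (x⁻¹ * w * x)) * x⁻¹ := by rw [h2]
        _ = x * a * x⁻¹ * w := by group
    rw [commutatorElement_def]
    calc w * (x * a * x⁻¹ * a⁻¹) = w * (x * a * x⁻¹) * a⁻¹ := by group
      _ = x * a * x⁻¹ * (w * a⁻¹) := by rw [h2']; group
      _ = x * a * x⁻¹ * a⁻¹ * w := by rw [h1']; group
  refine le_inf ((Subgroup.commutator_mono hXB hXB).trans (Subgroup.commutator_le_self B)) ?_
  rw [← Subgroup.commutator_eq_bot_iff_le_centralizer]
  have hXBX : ⁅⁅⁅B, A⁆, B⁆, ⁅B, A⁆⁆ = ⊥ := by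
    rw [Subgroup.commutator_comm, Subgroup.commutator_eq_bot_iff_le_centralizer]
    exact hXc.trans (Subgroup.centralizer_le (Subgroup.commutator_mono hXB le_rfl))
  refine Subgroup.commutator_commutator_eq_bot_of_rotate hXBX ?_
  rw [Subgroup.commutator_comm B ⁅B, A⁆]
  exact hXBX

/-- If all commutators of generators lie in a subgroup centralizing `B`, so do all commutators. -/
theorem commutator_closure_le_of_gen {s : Set G} {B K : Subgroup G} (hs : s ⊆ (B : Set G))
    (hK : K ≤ Subgroup.centralizer (B : Set G)) (h : ∀ a ∈ s, ∀ b ∈ s, ⁅a, b⁆ ∈ K) :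
    ⁅Subgroup.closure s, Subgroup.closure s⁆ ≤ K := by
  have hB : Subgroup.closure s ≤ B := (Subgroup.closure_le B).mpr hs
  have hcen : ∀ z ∈ K, ∀ x ∈ B, x * z * x⁻¹ = z := fun z hz x hx => by
    rw [Subgroup.mem_centralizer_iff.mp (hK hz) x hx, mul_inv_cancel_right]
  have step : ∀ v : G, (∀ a ∈ s, ⁅a, v⁆ ∈ K) → ∀ x ∈ Subgroup.closure s, ⁅x, v⁆ ∈ K := by
    intro v hv x hx
    induction hx using Subgroup.closure_induction with
    | mem x hx => exact hv x hx
    | one => simpa using K.one_mem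
    | mul x y hx _ ihx ihy =>
      have : ⁅x * y, v⁆ = x * ⁅y, v⁆ * x⁻¹ * ⁅x, v⁆ := by simp [commutatorElement_def]; group
      rw [this, hcen _ ihy x (hB hx)]
      exact mul_mem ihy ihx
    | inv x hx ih =>
      have : ⁅x⁻¹, v⁆ = x⁻¹ * ⁅x, v⁆⁻¹ * x⁻¹⁻¹ := by simp [commutatorElement_def]; group
      rw [this, hcen _ (inv_mem ih) x⁻¹ (inv_mem (hB hx))]
      exact inv_mem ih
  rw [Subgroup.commutator_le]
  intro x hx y hy
  refine step y (fun a ha => ?_) x hx
  have hy' : ⁅y, a⁆ ∈ K := step a (fun c hc => h c hc a ha) y hy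
  rw [← commutatorElement_inv]
  exact inv_mem hy'

/-- `(u * v) ^ n` when `v * u = u * v * z` with `z` commuting with `u` and `v`. -/
theorem mul_pow_of_commutator {u v z : G} (hu : z * u = u * z) (hv : z * v = v * z)
    (h : v * u = u * v * z) (n : ℕ) : (u * v) ^ n = u ^ n * v ^ n * z ^ (n.choose 2) := by
  have hpow : ∀ m : ℕ, v ^ m * u = u * v ^ m * z ^ m := by
    intro m
    induction m with
    | zero => simp
    | succ m ih =>
      calc v ^ (m + 1) * u = v ^ m * (v * u) := by rw [pow_succ, mul_assoc]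
        _ = v ^ m * u * v * z := by rw [h]; group
        _ = u * v ^ m * (z ^ m * v) * z := by rw [ih]; group
        _ = u * v ^ m * (v * z ^ m) * z := by
          rw [(Commute.pow_left (show Commute z v from hv) m).eq]
        _ = u * v ^ (m + 1) * z ^ (m + 1) := by rw [pow_succ, pow_succ]; group
  induction n with
  | zero => simp
  | succ n ih =>
    have hzu : Commute (z ^ (n.choose 2)) u := Commute.pow_left hu _
    have hzv : Commute (z ^ (n.choose 2)) v := Commute.pow_left hv _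
    have hzv' : Commute (z ^ n) v := Commute.pow_left hv _
    calc (u * v) ^ (n + 1) = u ^ n * v ^ n * z ^ (n.choose 2) * (u * v) := by rw [pow_succ, ih]
      _ = u ^ n * v ^ n * (z ^ (n.choose 2) * u) * v := by group
      _ = u ^ n * (v ^ n * u) * (z ^ (n.choose 2) * v) := by rw [hzu.eq]; group
      _ = u ^ n * u * v ^ n * (z ^ n * v) * z ^ (n.choose 2) := by rw [hpow, hzv.eq]; group
      _ = u ^ n * u * v ^ n * v * (z ^ n * z ^ (n.choose 2)) := by rw [hzv'.eq]; group
      _ = u ^ (n + 1) * v ^ (n + 1) * z ^ ((n + 1).choose 2) := by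
        rw [← pow_add, pow_succ, pow_succ, Nat.choose_succ_succ' n 1, Nat.choose_one_right]
        group

/-! ### The symmetry computation -/

/-- The generators `a⁻¹ (b⁻¹ a b)` of `[A, ⟨b⟩]`. -/
def shiftGen (A : Subgroup G) (b : G) : Set G := {g | ∃ a ∈ A, g = a⁻¹ * (b⁻¹ * a * b)}

/-- The subgroup generated by the elements `a⁻¹ (b⁻¹ a b)`, `a ∈ A`. -/
def shift (A : Subgroup G) (b : G) : Subgroup G := Subgroup.closure (shiftGen A b)

theorem shift_gen_mem {A : Subgroup G} {a : G} (b : G) (ha : a ∈ A) :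
    a⁻¹ * (b⁻¹ * a * b) ∈ shift A b :=
  Subgroup.subset_closure ⟨a, ha, rfl⟩

theorem shift_eq_closure_conj_mul_inv (A : Subgroup G) (b : G) :
    shift A b = Subgroup.closure {g : G | ∃ a ∈ A, g = b⁻¹ * a * b * a⁻¹} := by
  refine le_antisymm ((Subgroup.closure_le _).mpr ?_) ((Subgroup.closure_le _).mpr ?_)
  · rintro _ ⟨a, ha, rfl⟩
    have := inv_mem (Subgroup.subset_closure (k := {g : G | ∃ a ∈ A, g = b⁻¹ * a * b * a⁻¹})
      ⟨a⁻¹, inv_mem ha, rfl⟩)
    simpa [mul_assoc] using this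
  · rintro _ ⟨a, ha, rfl⟩
    have := inv_mem (shift_gen_mem b (inv_mem ha))
    simpa [mul_assoc] using this

theorem shift_eq_closure_mul_conj_inv (A : Subgroup G) (b : G) :
    shift A b = Subgroup.closure {g : G | ∃ a ∈ A, g = a * b⁻¹ * a⁻¹ * b} := by
  refine le_antisymm ((Subgroup.closure_le _).mpr ?_) ((Subgroup.closure_le _).mpr ?_)
  · rintro _ ⟨a, ha, rfl⟩
    have := Subgroup.subset_closure (k := {g : G | ∃ a ∈ A, g = a * b⁻¹ * a⁻¹ * b})
      ⟨a⁻¹, inv_mem ha, rfl⟩
    simpa [mul_assoc] using this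
  · rintro _ ⟨a, ha, rfl⟩
    have := shift_gen_mem b (inv_mem ha)
    simpa [mul_assoc] using this

theorem shift_le_commutator {A B : Subgroup G} {b : G} (hb : b ∈ B) : shift A b ≤ ⁅B, A⁆ := by
  refine (Subgroup.closure_le _).mpr ?_
  rintro _ ⟨a, ha, rfl⟩
  have h := Subgroup.commutator_mem_commutator (inv_mem ha) (inv_mem hb) (H₁ := A) (H₂ := B)
  rw [Subgroup.commutator_comm] at h
  simpa [commutatorElement_def, mul_assoc] using h

/-- Conjugation by `A` maps `shift A b` into itself. -/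
theorem le_normalizer_shift (A : Subgroup G) (b : G) :
    A ≤ Subgroup.normalizer (shift A b : Set G) := by
  have key : ∀ c ∈ A, ∀ x ∈ shift A b, c * x * c⁻¹ ∈ shift A b := by
    intro c hc x hx
    induction hx using Subgroup.closure_induction with
    | mem x hx =>
      obtain ⟨a, ha, rfl⟩ := hx
      have h := mul_mem (shift_gen_mem b (mul_mem ha (inv_mem hc)))
        (inv_mem (shift_gen_mem b (inv_mem hc)))
      simpa [mul_assoc] using h
    | one => simpa using Subgroup.one_mem _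
    | mul x y _ _ ihx ihy => simpa [mul_assoc] using mul_mem ihx ihy
    | inv x _ ih => simpa [mul_assoc] using inv_mem ih
  intro c hc
  rw [Subgroup.mem_normalizer_iff]
  intro x
  refine ⟨key c hc x, fun h => ?_⟩
  simpa [mul_assoc] using key c⁻¹ (inv_mem hc) _ h

/-- The commutators of `shift A b` have order at most `2`. -/
theorem sq_commutator_shift_eq_one {A B : Subgroup G} [IsMulCommutative A]
    (hAB : A ≤ Subgroup.normalizer (B : Set G)) (hc : ⁅⁅B, B⁆, A⁆ = ⊥) {b : G} (hb : b ∈ B)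
    (hX : ⁅⁅shift A b, A⁆, A⁆ = ⊥) :
    ∀ w ∈ ⁅shift A b, shift A b⁆, w ^ 2 = 1 := by
  have hXB : shift A b ≤ B :=
    (shift_le_commutator hb).trans (Subgroup.le_normalizer_iff_commutator_le_left.mp hAB)
  have hZ : ⁅shift A b, shift A b⁆ ≤ B ⊓ Subgroup.centralizer (B : Set G) :=
    (Subgroup.commutator_mono (shift_le_commutator hb) (shift_le_commutator hb)).trans
      (derived_commutator_central hAB hc)
  have hZab : IsMulCommutative ↥(B ⊓ Subgroup.centralizer (B : Set G)) :=
    isMulCommutative_of_forall fun x hx y hy => (Subgroup.mem_centralizer_iff.mp hy.2 x hx.1)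
  have hXc : shift A b ≤ Subgroup.centralizer (⁅B, B⁆ : Subgroup G) := by
    refine (Subgroup.closure_le _).mpr ?_
    rintro _ ⟨a, ha, rfl⟩
    refine mul_mem ?_ ?_
    · exact Subgroup.mem_centralizer_iff.mpr fun w hw =>
        mem_centralizer_of_commutator_eq_bot hc hw (inv_mem ha)
    · refine Subgroup.mem_centralizer_iff.mpr fun w hw => ?_
      have hw' : b * w * b⁻¹ ∈ ⁅B, B⁆ :=
        conj_mem_of_mem_normalizer (Subgroup.normalizer_commutator_ge_left B B hb) hw
      have := mem_centralizer_of_commutator_eq_bot hc hw' ha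
      calc w * (b⁻¹ * a * b) = b⁻¹ * (b * w * b⁻¹ * a) * b := by group
        _ = b⁻¹ * (a * (b * w * b⁻¹)) * b := by rw [this]
        _ = b⁻¹ * a * b * w := by group
  set K := Cfsg.omegaOne 2 (B ⊓ Subgroup.centralizer (B : Set G)) with hK
  have hKel : Cfsg.IsElementaryAbelian 2 K := omegaOne_elemAb 2 _
  suffices h : ⁅shift A b, shift A b⁆ ≤ K from fun w hw => hKel.2 w (h hw)
  refine commutator_closure_le_of_gen (B := B) (fun x hx => hXB (Subgroup.subset_closure hx))
    ((omegaOne_le 2 _).trans inf_le_right) ?_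
  intro u hu' v hv'
  have hu : u ∈ shift A b := Subgroup.subset_closure hu'
  have hv : v ∈ shift A b := Subgroup.subset_closure hv'
  obtain ⟨a, ha, hua⟩ := hu'
  obtain ⟨c, hc', hvc⟩ := hv'
  have hzZ := hZ (Subgroup.commutator_mem_commutator hu hv)
  have hzB : ⁅u, v⁆ ∈ ⁅B, B⁆ := Subgroup.commutator_mem_commutator (hXB hu) (hXB hv)
  refine mem_omegaOne hzZ ?_
  -- `α x = b⁻¹ x b`
  let α : G → G := fun x => b⁻¹ * x * b
  have hα_mul : ∀ x y, α (x * y) = α x * α y := fun x y => by simp [α, mul_assoc]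
  have hα_comm : ∀ x y, α ⁅x, y⁆ = ⁅α x, α y⁆ := fun x y => by
    simp [α, commutatorElement_def, mul_assoc]
  have hαa : α a = a * u := by simp [α, hua, mul_assoc]
  have hαc : α c = c * v := by simp [α, hvc, mul_assoc]
  have hα_fix : α ⁅u, v⁆ = ⁅u, v⁆ := by
    change b⁻¹ * ⁅u, v⁆ * b = ⁅u, v⁆
    rw [mul_assoc, ← Subgroup.mem_centralizer_iff.mp hzZ.2 b hb, inv_mul_cancel_left]
  -- the twisting element
  have twist : ∀ x ∈ A, ∀ y ∈ shift A b, ∀ y' ∈ shift A b, α x = x * y →
      α ⁅x, y'⁆ = ⁅y, y'⁆ * ⁅x, y'⁆ := by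
    intro x hx y hy y' hy' hαx
    set e := y'⁻¹ * (b⁻¹ * y' * b) with he
    have heB : e ∈ ⁅B, B⁆ := by
      have := Subgroup.commutator_mem_commutator (inv_mem (hXB hy')) (inv_mem hb)
      simpa [he, commutatorElement_def, mul_assoc] using this
    have hαy' : α y' = y' * e := by simp [α, he]
    have he1 : e * (x * y)⁻¹ = (x * y)⁻¹ * e := by
      have h1 : e * x = x * e := mem_centralizer_of_commutator_eq_bot hc heB hx
      have h2 : e * y = y * e := Subgroup.mem_centralizer_iff.mp (hXc hy) e heB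
      exact ((show Commute e x from h1).mul_right h2).inv_right.eq
    have hzyy' : ⁅y, y'⁆ * x = x * ⁅y, y'⁆ :=
      mem_centralizer_of_commutator_eq_bot hc
        (Subgroup.commutator_mem_commutator (hXB hy) (hXB hy')) hx
    rw [hα_comm, hαx, hαy']
    calc ⁅x * y, y' * e⁆ = x * y * y' * (e * (x * y)⁻¹) * e⁻¹ * y'⁻¹ := by
          simp [commutatorElement_def, mul_assoc]
      _ = (x * ⁅y, y'⁆) * (y' * x⁻¹ * y'⁻¹) := by
          rw [he1]; simp [commutatorElement_def, mul_assoc]
      _ = ⁅y, y'⁆ * ⁅x, y'⁆ := by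
          rw [← hzyy']; simp [commutatorElement_def, mul_assoc]
  have hfc : ∀ x ∈ A, ∀ y ∈ shift A b, ∀ d ∈ A, ⁅x, y⁆ * d = d * ⁅x, y⁆ := by
    intro x hx y hy d hd
    refine mem_centralizer_of_commutator_eq_bot hX ?_ hd
    rw [← commutatorElement_inv]
    exact inv_mem (Subgroup.commutator_mem_commutator hy hx)
  have h1 := twist a ha u hu v hv hαa
  have h2 := twist c hc' v hv u hu hαc
  set f := ⁅a, v⁆ with hf
  set f' := ⁅c, u⁆ with hf'
  set z := ⁅u, v⁆ with hz
  have hz' : ⁅v, u⁆ = z⁻¹ := (commutatorElement_inv u v).symm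
  rw [hz'] at h2
  have hac : a * c = c * a := setLike_mul_comm ha hc'
  have huv : a * u * (c * v) = c * v * (a * u) := by
    rw [← hαa, ← hαc, ← hα_mul, hac, hα_mul]
  -- `z = f' f⁻¹`
  have hzf : z = f' * f⁻¹ := by
    have e1 : u * c = f'⁻¹ * (c * u) := by simp [hf', commutatorElement_def, mul_assoc]
    have e2 : v * a = f⁻¹ * (a * v) := by simp [hf, commutatorElement_def, mul_assoc]
    have e3 : a * f'⁻¹ = f'⁻¹ * a :=
      ((show Commute f' a from hfc c hc' u hu a ha).inv_left.eq).symm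
    have e4 : c * f⁻¹ = f⁻¹ * c :=
      ((show Commute f c from hfc a ha v hv c hc').inv_left.eq).symm
    have L : a * u * (c * v) = f'⁻¹ * (a * c * (u * v)) := by
      calc a * u * (c * v) = a * (u * c) * v := by group
        _ = (a * f'⁻¹) * c * u * v := by rw [e1]; group
        _ = f'⁻¹ * (a * c * (u * v)) := by rw [e3]; group
    have R : c * v * (a * u) = f⁻¹ * (a * c * (v * u)) := by
      calc c * v * (a * u) = c * (v * a) * u := by group
        _ = (c * f⁻¹) * a * v * u := by rw [e2]; group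
        _ = f⁻¹ * ((c * a) * (v * u)) := by rw [e4]; group
        _ = f⁻¹ * (a * c * (v * u)) := by rw [hac]
    have hzac : Commute z (a * c) :=
      (show Commute z a from mem_centralizer_of_commutator_eq_bot hc hzB ha).mul_right
        (show Commute z c from mem_centralizer_of_commutator_eq_bot hc hzB hc')
    have huvz : u * v = z * (v * u) := by simp [hz, commutatorElement_def, mul_assoc]
    have key : f'⁻¹ * z = f⁻¹ := by
      have h3 : f'⁻¹ * (a * c * (u * v)) = f⁻¹ * (a * c * (v * u)) := by rw [← L, ← R, huv]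
      rw [huvz, ← mul_assoc (a * c) z, ← hzac.eq] at h3
      exact mul_right_cancel (b := a * c * (v * u)) (by simpa [mul_assoc] using h3)
    rw [← key]; simp
  have e5 : α z = z⁻¹ := by
    have hαinv : α f⁻¹ = (α f)⁻¹ := by simp [α, mul_assoc]
    have : α z = α f' * (α f)⁻¹ := by rw [hzf, hα_mul, hαinv]
    rw [this, h2, h1]
    calc z⁻¹ * f' * (z * f)⁻¹ = z⁻¹ * (f' * f⁻¹) * z⁻¹ := by group
      _ = z⁻¹ := by rw [← hzf]; group
  rw [hα_fix] at e5
  calc z ^ 2 = z * z := sq z
    _ = z * z⁻¹ := congrArg (z * ·) e5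
    _ = 1 := mul_inv_cancel z

/-! ### The replacement theorem -/

/-- Glauberman's replacement `A* = (A ∩ b⁻¹ A b) [A, b]`. -/
def replacement (A : Subgroup G) (b : G) : Subgroup G :=
  (A ⊓ A.map (MulAut.conj b⁻¹ : G →* G)) ⊔ shift A b

theorem mem_conjMap {A : Subgroup G} {b x : G} :
    x ∈ A.map (MulAut.conj b⁻¹ : G →* G) ↔ b * x * b⁻¹ ∈ A := by
  constructor
  · rintro ⟨a, ha, rfl⟩; simpa [mul_assoc] using ha
  · exact fun h => ⟨_, h, by simp [mul_assoc]⟩

theorem conj_mem_conjMap {A : Subgroup G} {a : G} (b : G) (ha : a ∈ A) :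
    b⁻¹ * a * b ∈ A.map (MulAut.conj b⁻¹ : G →* G) :=
  mem_conjMap.mpr (by simpa [mul_assoc] using ha)

/-- Glauberman's replacement theorem. `N` is any subgroup between `A` and its normalizer which is
normalized by `b` (for instance the normalizer itself). -/
theorem glauberman_replacement_core [Finite G] {A B N : Subgroup G} {b : G}
    [IsMulCommutative A] (hBA : ⁅B, B⁆ ≤ A) (hNB : N ≤ Subgroup.normalizer (B : Set G))
    (hb : b ∈ B) (hAN : A ≤ N) (hN : N ≤ Subgroup.normalizer (A : Set G))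
    (hbN : b ∈ Subgroup.normalizer (N : Set G)) (hbA : b ∉ Subgroup.normalizer (A : Set G))
    (h2 : ∀ w ∈ ⁅B, B⁆, w ^ 2 = 1 → w = 1) :
    Nat.card (replacement A b) = Nat.card A ∧ IsMulCommutative (replacement A b) ∧
      ⁅B, B⁆ ≤ replacement A b ∧ A ⊓ B < replacement A b ⊓ B ∧ replacement A b ⊓ B < B ∧
      N ≤ Subgroup.normalizer (replacement A b : Set G) ∧
      replacement A b ≤ Subgroup.normalizer (A : Set G) ∧
      replacement A b ≤ N ∧
      b ∈ Subgroup.normalizer (replacement A b : Set G) ∧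
      (∀ e : ℕ, (∀ a ∈ A, a ^ e = 1) → (Odd e ∨ ∀ x ∈ B, x ^ e = 1) →
        ∀ x ∈ replacement A b, x ^ e = 1) := by
  set A₁ := A.map (MulAut.conj b⁻¹ : G →* G) with hA₁
  set D := A ⊓ A₁ with hD
  set X := shift A b with hXdef
  set R := replacement A b with hR
  have hAB : A ≤ Subgroup.normalizer (B : Set G) := hAN.trans hNB
  have hA₁N : A₁ ≤ N := by
    intro x hx
    simpa [mul_assoc] using inv_conj_mem_of_mem_normalizer hbN (hAN (mem_conjMap.mp hx))
  have hA₁ab : ∀ x ∈ A₁, ∀ y ∈ A₁, x * y = y * x := by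
    rintro _ ⟨x, hx, rfl⟩ _ ⟨y, hy, rfl⟩
    rw [← map_mul, ← map_mul, setLike_mul_comm hx hy]
  have hNA₁ : N ≤ Subgroup.normalizer (A₁ : Set G) := by
    intro n hn
    rw [Subgroup.mem_normalizer_iff]
    intro x
    rw [mem_conjMap, mem_conjMap,
      Subgroup.mem_normalizer_iff.mp (hN (conj_mem_of_mem_normalizer hbN hn)) (b * x * b⁻¹)]
    simp [mul_assoc]
  have hc : ⁅⁅B, B⁆, A⁆ = ⊥ :=
    le_bot_iff.mp ((Subgroup.commutator_mono hBA le_rfl).trans
      (Subgroup.commutator_self_eq_bot_iff.mpr inferInstance).le)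
  have hBB : B ≤ Subgroup.normalizer (⁅B, B⁆ : Subgroup G) :=
    Subgroup.normalizer_commutator_ge_left B B
  have hB'D : ⁅B, B⁆ ≤ D := fun w hw =>
    ⟨hBA hw, mem_conjMap.mpr (hBA (conj_mem_of_mem_normalizer (hBB hb) hw))⟩
  -- `X`
  have hXB : X ≤ B := (shift_le_commutator hb).trans (Subgroup.le_normalizer_iff_commutator_le_left.mp hAB)
  have hXAA₁ : X ≤ A ⊔ A₁ := (Subgroup.closure_le _).mpr (by
    rintro _ ⟨a, ha, rfl⟩
    exact Subgroup.mul_mem_sup (inv_mem ha) (conj_mem_conjMap b ha))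
  have hDA : ∀ d ∈ D, ∀ a ∈ A, d * a = a * d := fun d hd a ha => setLike_mul_comm hd.1 ha
  have hDA₁ : ∀ d ∈ D, ∀ a ∈ A₁, d * a = a * d := fun d hd a ha => hA₁ab d hd.2 a ha
  have hDcen : A ⊔ A₁ ≤ Subgroup.centralizer (D : Set G) :=
    sup_le (fun a ha => Subgroup.mem_centralizer_iff.mpr fun d hd => hDA d hd a ha)
      fun a ha => Subgroup.mem_centralizer_iff.mpr fun d hd => hDA₁ d hd a ha
  have hHN : A ⊔ A₁ ≤ N := sup_le hAN hA₁N
  -- commutators of `A ⊔ A₁` with `A` lie in `D`
  have hHA : ∀ x ∈ A ⊔ A₁, ∀ a ∈ A, ⁅x, a⁆ ∈ D := by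
    intro x hx a ha
    obtain ⟨a', ha', a₁, ha₁, rfl⟩ := CfsgLib.Coprime.exists_mul_of_mem_sup (hAN.trans hNA₁) hx
    have hd : ⁅a₁, a⁆ ∈ D := by
      refine Subgroup.mem_inf.mpr ⟨?_, ?_⟩
      · rw [commutatorElement_def]
        exact mul_mem (conj_mem_of_mem_normalizer (hN (hA₁N ha₁)) ha) (inv_mem ha)
      · rw [commutatorElement_def,
          show a₁ * a * a₁⁻¹ * a⁻¹ = a₁ * (a * a₁⁻¹ * a⁻¹) by group]
        exact mul_mem ha₁ (conj_mem_of_mem_normalizer (hNA₁ (hAN ha)) (inv_mem ha₁))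
    have : ⁅a' * a₁, a⁆ = ⁅a₁, a⁆ := by
      have h1 : a' * ⁅a₁, a⁆ = ⁅a₁, a⁆ * a' := (hDA _ hd a' ha').symm
      have h2 : a' * a = a * a' := setLike_mul_comm ha' ha
      calc ⁅a' * a₁, a⁆ = a' * ⁅a₁, a⁆ * (a * a'⁻¹ * a⁻¹) := by
            simp [commutatorElement_def, mul_assoc]
        _ = ⁅a₁, a⁆ * (a' * a) * a'⁻¹ * a⁻¹ := by rw [h1]; group
        _ = ⁅a₁, a⁆ := by rw [h2]; group
    rwa [this]
  have hXA : ⁅⁅X, A⁆, A⁆ = ⊥ := by
    refine le_bot_iff.mp ((Subgroup.commutator_mono (H₂ := A) (K₁ := A) ?_ le_rfl).trans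
      (Subgroup.commutator_self_eq_bot_iff.mpr inferInstance).le)
    rw [Subgroup.commutator_le]
    exact fun x hx a ha => (hHA x (hXAA₁ hx) a ha).1
  have hXab : ∀ x ∈ X, ∀ y ∈ X, x * y = y * x := by
    intro x hx y hy
    refine commutatorElement_eq_one_iff_mul_comm.mp ?_
    exact h2 _ (Subgroup.commutator_mem_commutator (hXB hx) (hXB hy))
      (sq_commutator_shift_eq_one hAB hc hb hXA _ (Subgroup.commutator_mem_commutator hx hy))
  -- `R`
  have hRH : R ≤ A ⊔ A₁ := sup_le (inf_le_left.trans le_sup_left) hXAA₁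
  have hRN : R ≤ Subgroup.normalizer (A : Set G) := (hRH.trans hHN).trans hN
  have hDle : D ≤ R := le_sup_left
  have hXle : X ≤ R := le_sup_right
  have hRab : IsMulCommutative R := by
    rw [hR, replacement, Subgroup.sup_eq_closure]
    refine Subgroup.isMulCommutative_closure ?_
    rintro x (hx | hx) y (hy | hy)
    · exact hDA x hx y hy.1
    · exact Subgroup.mem_centralizer_iff.mp (hDcen (hXAA₁ hy)) x hx
    · exact (Subgroup.mem_centralizer_iff.mp (hDcen (hXAA₁ hx)) y hy).symm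
    · exact hXab x hx y hy
  have hmemR : ∀ a ∈ A, b⁻¹ * a * b ∈ A ⊔ R := fun a ha => by
    simpa [mul_assoc] using Subgroup.mul_mem_sup ha (hXle (shift_gen_mem b ha))
  have hsup : R ⊔ A = A ⊔ A₁ := by
    refine le_antisymm (sup_le hRH le_sup_left) (sup_le le_sup_right ?_)
    rw [sup_comm]
    rintro _ ⟨a, ha, rfl⟩
    simpa using hmemR a ha
  -- `D` is invariant under `x ↦ b⁻¹ x b`
  have hDα : ∀ d ∈ D, b⁻¹ * d * b ∈ D := by
    intro d hd
    refine ⟨?_, conj_mem_conjMap b hd.1⟩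
    have ha : b * d * b⁻¹ ∈ A := mem_conjMap.mp hd.2
    set a := b * d * b⁻¹ with hadef
    set u := a⁻¹ * (b⁻¹ * a * b) with hu
    have hu' : u = a⁻¹ * d := by rw [hu, hadef]; group
    have huA : u ∈ A := hu' ▸ mul_mem (inv_mem ha) hd.1
    have huB : u ∈ B := hXB (shift_gen_mem b ha)
    have he : u⁻¹ * (b⁻¹ * u * b) ∈ A := by
      have := hBA (Subgroup.commutator_mem_commutator (inv_mem huB) (inv_mem hb))
      simpa [commutatorElement_def, mul_assoc] using this
    have : b⁻¹ * d * b = a * u * (u * (u⁻¹ * (b⁻¹ * u * b))) := by rw [hu, hadef]; group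
    rw [this]
    exact mul_mem (mul_mem ha huA) (mul_mem huA he)
  have hDα' : ∀ x, b⁻¹ * x * b ∈ D → x ∈ D := by
    have heq : D.map (MulAut.conj b⁻¹ : G →* G) = D := by
      refine Subgroup.eq_of_le_of_card_ge ?_ (le_of_eq ?_)
      · rintro _ ⟨d, hd, rfl⟩; simpa using hDα d hd
      · exact (Subgroup.card_map_of_injective (MulAut.conj b⁻¹).injective).symm
    intro x hx
    obtain ⟨d, hd, hdx⟩ := (heq.symm ▸ hx : b⁻¹ * x * b ∈ D.map (MulAut.conj b⁻¹ : G →* G))
    simp at hdx
    rwa [← hdx]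
  -- elements of `R`
  have hXelt : ∀ x ∈ X, ∃ a ∈ A, ∃ d ∈ D, x = d * (a⁻¹ * (b⁻¹ * a * b)) := by
    have mul_case : ∀ a ∈ A, ∀ c ∈ A, ∃ d ∈ D,
        a⁻¹ * (b⁻¹ * a * b) * (c⁻¹ * (b⁻¹ * c * b)) =
          d * ((a * c)⁻¹ * (b⁻¹ * (a * c) * b)) := by
      intro a ha c hc'
      set u := a⁻¹ * (b⁻¹ * a * b) with hu
      have huH : u ∈ A ⊔ A₁ := hXAA₁ (shift_gen_mem b ha)
      refine ⟨⁅u, c⁻¹⁆, hHA u huH c⁻¹ (inv_mem hc'), ?_⟩
      have h1 : (a * c)⁻¹ * (b⁻¹ * (a * c) * b) = c⁻¹ * u * (b⁻¹ * c * b) := by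
        rw [hu]; group
      rw [h1]; simp [commutatorElement_def, mul_assoc]
    intro x hx
    induction hx using Subgroup.closure_induction with
    | mem x hx =>
      obtain ⟨a, ha, rfl⟩ := hx
      exact ⟨a, ha, 1, one_mem _, by simp⟩
    | one => exact ⟨1, one_mem _, 1, one_mem _, by simp⟩
    | mul x y _ _ ihx ihy =>
      obtain ⟨a, ha, d, hd, rfl⟩ := ihx
      obtain ⟨c, hc', d', hd', rfl⟩ := ihy
      obtain ⟨k, hk, hk'⟩ := mul_case a ha c hc'
      refine ⟨a * c, mul_mem ha hc', d * d' * k, mul_mem (mul_mem hd hd') hk, ?_⟩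
      have hcomm := Subgroup.mem_centralizer_iff.mp
        (hDcen (hXAA₁ (shift_gen_mem b ha))) d' hd'
      rw [mul_assoc (d * d') k, ← hk']
      calc d * (a⁻¹ * (b⁻¹ * a * b)) * (d' * (c⁻¹ * (b⁻¹ * c * b)))
          = d * ((a⁻¹ * (b⁻¹ * a * b)) * d') * (c⁻¹ * (b⁻¹ * c * b)) := by group
        _ = _ := by rw [← hcomm]; group
    | inv x _ ih =>
      obtain ⟨a, ha, d, hd, rfl⟩ := ih
      obtain ⟨k, hk, hk'⟩ := mul_case a⁻¹ (inv_mem ha) a ha
      simp only [inv_mul_cancel, inv_one, mul_one, one_mul] at hk'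
      refine ⟨a⁻¹, inv_mem ha, d⁻¹ * k⁻¹, mul_mem (inv_mem hd) (inv_mem hk), ?_⟩
      have h1 : (a⁻¹ * (b⁻¹ * a * b))⁻¹ = k⁻¹ * (a⁻¹⁻¹ * (b⁻¹ * a⁻¹ * b)) := by
        rw [← hk']; group
      have hcomm : Commute d (a⁻¹ * (b⁻¹ * a * b)) :=
        Subgroup.mem_centralizer_iff.mp (hDcen (hXAA₁ (shift_gen_mem b ha))) d hd
      rw [mul_inv_rev, hcomm.inv_inv.symm.eq, h1]; group
  have hinf : A ⊓ R = D := by
    refine le_antisymm ?_ (le_inf inf_le_left hDle)
    rintro x ⟨hxA, hxR⟩
    have hDX : D ≤ Subgroup.normalizer (X : Set G) := fun d hd =>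
      Subgroup.mem_normalizer_iff.mpr fun y => by
        constructor
        · intro hy
          rw [Subgroup.mem_centralizer_iff.mp (hDcen (hXAA₁ hy)) d hd, mul_inv_cancel_right]
          exact hy
        · intro hy
          have := Subgroup.mem_centralizer_iff.mp (hDcen (hXAA₁ hy)) d hd
          have h' : y = d * y * d⁻¹ := by
            calc y = d⁻¹ * ((d * y * d⁻¹) * d) := by group
              _ = d⁻¹ * (d * (d * y * d⁻¹)) := by rw [this]
              _ = d * y * d⁻¹ := by group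
          rw [h']; exact hy
    obtain ⟨d₀, hd₀, y, hy, rfl⟩ := CfsgLib.Coprime.exists_mul_of_mem_sup hDX hxR
    obtain ⟨a, ha, d₁, hd₁, rfl⟩ := hXelt y hy
    refine mul_mem hd₀ (mul_mem hd₁ ?_)
    have hu : a⁻¹ * (b⁻¹ * a * b) ∈ A := by
      have := mul_mem (mul_mem (inv_mem (Subgroup.mem_inf.mp hd₁).1) (inv_mem (Subgroup.mem_inf.mp hd₀).1)) hxA
      simpa [mul_assoc] using this
    have hαa : b⁻¹ * a * b ∈ D := by
      refine ⟨?_, conj_mem_conjMap b ha⟩
      simpa [mul_assoc] using mul_mem ha hu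
    exact mul_mem (inv_mem (hDα' a hαa)) hαa
  have hcard : Nat.card R = Nat.card A := by
    have e1 := CfsgLib.Coprime.card_sup_mul_card_inf hRN
    have e2 := CfsgLib.Coprime.card_sup_mul_card_inf (hA₁N.trans hN)
    rw [hsup, hinf] at e1
    rw [sup_comm, show A ⊓ A₁ = D from rfl, e1] at e2
    have e3 : Nat.card A₁ = Nat.card A :=
      Subgroup.card_map_of_injective (MulAut.conj b⁻¹).injective
    rw [e3] at e2
    exact Nat.eq_of_mul_eq_mul_right Nat.card_pos e2
  have hB'R : ⁅B, B⁆ ≤ R := hB'D.trans hDle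
  -- elements of `A ⊓ B` are in `D`
  have hABD : A ⊓ B ≤ D := by
    rintro t ⟨htA, htB⟩
    apply hDα'
    refine ⟨?_, conj_mem_conjMap b htA⟩
    have := mul_mem htA (hBA (Subgroup.commutator_mem_commutator (inv_mem htB) (inv_mem hb)))
    simpa [commutatorElement_def, mul_assoc] using this
  have hnormR : N ≤ Subgroup.normalizer (R : Set G) := by
    have key : ∀ n ∈ N, ∀ x ∈ R, n * x * n⁻¹ ∈ R := by
      intro n hn x hx
      rw [hR, replacement, Subgroup.sup_eq_closure] at hx
      induction hx using Subgroup.closure_induction with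
      | mem x hx =>
        rcases hx with hx | hx
        · exact hDle ⟨conj_mem_of_mem_normalizer (hN hn) hx.1,
            conj_mem_of_mem_normalizer (hNA₁ hn) hx.2⟩
        · induction hx using Subgroup.closure_induction with
          | mem x hx =>
            obtain ⟨a, ha, rfl⟩ := hx
            set a' := n * a * n⁻¹ with ha'def
            have ha' : a' ∈ A := conj_mem_of_mem_normalizer (hN hn) ha
            set k := b * n * b⁻¹ * n⁻¹ with hk
            have hkN : k ∈ N := mul_mem (conj_mem_of_mem_normalizer hbN hn) (inv_mem hn)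
            have hkB : k ∈ B := by
              have := mul_mem hb (conj_mem_of_mem_normalizer (hNB hn) (inv_mem hb))
              simpa [hk, mul_assoc] using this
            set a'' := k * a' * k⁻¹ with ha''def
            have ha'' : a'' ∈ A := conj_mem_of_mem_normalizer (hN hkN) ha'
            have h1 : n * (a⁻¹ * (b⁻¹ * a * b)) * n⁻¹ =
                (a'⁻¹ * a'') * (a''⁻¹ * (b⁻¹ * a'' * b)) := by
              rw [ha''def, ha'def, hk]; group
            rw [h1]
            refine mul_mem (hDle (hABD (Subgroup.mem_inf.mpr ⟨mul_mem (inv_mem ha') ha'', ?_⟩)))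
              (hXle (shift_gen_mem b ha''))
            have := mul_mem (conj_mem_of_mem_normalizer (hNB (inv_mem (hAN ha'))) hkB) (inv_mem hkB)
            simpa [ha''def, mul_assoc] using this
          | one => simpa using R.one_mem
          | mul x y _ _ ihx ihy => simpa [mul_assoc] using mul_mem ihx ihy
          | inv x _ ih => simpa [mul_assoc] using inv_mem ih
      | one => simpa using R.one_mem
      | mul x y _ _ ihx ihy => simpa [mul_assoc] using mul_mem ihx ihy
      | inv x _ ih => simpa [mul_assoc] using inv_mem ih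
    intro n hn
    rw [Subgroup.mem_normalizer_iff]
    intro x
    refine ⟨key n hn x, fun h => ?_⟩
    simpa [mul_assoc] using key n⁻¹ (inv_mem hn) _ h
  have hbR : b ∈ Subgroup.normalizer (R : Set G) := by
    have key : ∀ x ∈ R, b⁻¹ * x * b ∈ R := by
      intro x hx
      rw [hR, replacement, Subgroup.sup_eq_closure] at hx
      induction hx using Subgroup.closure_induction with
      | mem x hx =>
        rcases hx with hx | hx
        · exact hDle (hDα x hx)
        · have hxB := hXB hx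
          have he := hB'R (Subgroup.commutator_mem_commutator (inv_mem hxB) (inv_mem hb))
          have := mul_mem (hXle hx) he
          simpa [commutatorElement_def, mul_assoc] using this
      | one => simpa using R.one_mem
      | mul x y _ _ ihx ihy => simpa [mul_assoc] using mul_mem ihx ihy
      | inv x _ ih => simpa [mul_assoc] using inv_mem ih
    have heq : R.map (MulAut.conj b⁻¹ : G →* G) = R := by
      refine Subgroup.eq_of_le_of_card_ge ?_ (le_of_eq ?_)
      · rintro _ ⟨x, hx, rfl⟩; simpa using key x hx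
      · exact (Subgroup.card_map_of_injective (MulAut.conj b⁻¹).injective).symm
    simpa using inv_mem (Subgroup.mem_normalizer_iff_map_conj_eq.mpr heq)
  refine ⟨hcard, hRab, hB'R, ?_, ?_, hnormR, hRN, hRH.trans hHN, hbR, ?_⟩
  · refine lt_of_le_of_ne (le_inf (hABD.trans hDle) inf_le_right) fun heq => hbA ?_
    have hsub : A.map (MulAut.conj b⁻¹ : G →* G) ≤ A := by
      rintro _ ⟨a, ha, rfl⟩
      have := (heq.ge (Subgroup.mem_inf.mpr
        ⟨hXle (shift_gen_mem b ha), hXB (shift_gen_mem b ha)⟩)).1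
      simpa [mul_assoc] using mul_mem ha this
    simpa using inv_mem (Subgroup.mem_normalizer_iff_map_conj_eq.mpr
      (Subgroup.eq_of_le_of_card_ge hsub
        (le_of_eq (Subgroup.card_map_of_injective (MulAut.conj b⁻¹).injective).symm)))
  · exact lt_of_le_of_ne inf_le_right fun heq => hbA (hRN (heq.ge hb).1)
  · intro e he hor x hx
    have hel : Cfsg.IsElementaryAbelian e R := by
      rw [hR, replacement, shift, ← Subgroup.closure_eq (A ⊓ A.map (MulAut.conj b⁻¹ : G →* G)),
        ← Subgroup.closure_union]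
      refine elemAb_closure ?_ ?_
      · have hcm : ∀ x ∈ R, ∀ y ∈ R, x * y = y * x := fun x hx y hy => setLike_mul_comm hx hy
        rintro x (hx | hx) y (hy | hy)
        · exact hcm x (hDle hx) y (hDle hy)
        · exact hcm x (hDle hx) y (hXle (Subgroup.subset_closure hy))
        · exact hcm x (hXle (Subgroup.subset_closure hx)) y (hDle hy)
        · exact hcm x (hXle (Subgroup.subset_closure hx)) y (hXle (Subgroup.subset_closure hy))
      · rintro x (hx | hx)
        · exact he x hx.1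
        · obtain ⟨a, ha, rfl⟩ := hx
          rcases hor with hodd | hBe
          · set u := a⁻¹ * (b⁻¹ * a * b) with hu
            have huH : u ∈ A ⊔ A₁ := hXAA₁ (shift_gen_mem b ha)
            have hzD : ⁅u⁻¹, a⁻¹⁆ ∈ D := hHA _ (inv_mem huH) _ (inv_mem ha)
            have hua : u * a = a * u * ⁅u⁻¹, a⁻¹⁆ := by
              simp [commutatorElement_def, mul_assoc]
            have hzD' := hzD
            have hpow := mul_pow_of_commutator (u := a) (v := u)
              (hDA _ hzD' a ha)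
              (Subgroup.mem_centralizer_iff.mp (hDcen huH) _ hzD') hua e
            have hz1 : (⁅u⁻¹, a⁻¹⁆) ^ (e.choose 2) = 1 := by
              obtain ⟨k, hk⟩ := hodd
              have : e.choose 2 = e * k := by
                rw [Nat.choose_two_right, hk]
                have : (2 * k + 1) * (2 * k + 1 - 1) = 2 * ((2 * k + 1) * k) := by
                  rw [Nat.add_sub_cancel]; ring
                rw [this]; simp
              rw [this, pow_mul, he _ hzD'.1, one_pow]
            have hau : a * u = b⁻¹ * a * b := by rw [hu]; group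
            have h1 : (b⁻¹ * a * b) ^ e = 1 := by
              have : b⁻¹ * a * b = MulAut.conj b⁻¹ a := by simp
              rw [this, ← map_pow, he a ha, map_one]
            rw [hau, h1, he a ha, hz1, one_mul, mul_one] at hpow
            exact hpow.symm
          · exact hBe _ (hXB (shift_gen_mem b ha))
    exact hel.2 x hx

/-- In a finite `p`-group, with `B` abelian if `p = 2`, derived elements squaring to one are trivial. -/
theorem eq_one_of_sq_eq_one {p : ℕ} [hp : Fact p.Prime] {B : Subgroup G} (hB : IsPGroup p B)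
    (hB2 : p = 2 → IsMulCommutative B) : ∀ w ∈ ⁅B, B⁆, w ^ 2 = 1 → w = 1 := by
  intro w hw hw2
  by_cases h : p = 2
  · rw [Subgroup.commutator_self_eq_bot_iff.mpr (hB2 h)] at hw
    exact hw
  · have h1 : orderOf w ∣ 2 := orderOf_dvd_of_pow_eq_one hw2
    obtain ⟨k, hk⟩ := IsPGroup.iff_orderOf.mp hB ⟨w, B.commutator_le_self hw⟩
    rw [Subgroup.orderOf_mk] at hk
    rw [hk] at h1
    rw [← orderOf_eq_one_iff, hk]
    rcases (Nat.dvd_prime Nat.prime_two).mp h1 with h2 | h2
    · exact h2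
    · exfalso
      rcases k with _ | k
      · simp at h2
      · exact h ((Nat.prime_dvd_prime_iff_eq hp.out Nat.prime_two).mp
          (h2 ▸ dvd_pow_self p k.succ_ne_zero))

/-- Normalizers grow in a finite `p`-group: the element used by the replacement theorem. -/
theorem exists_replacement_element [Finite G] {p : ℕ} [Fact p.Prime] {P A B : Subgroup G}
    (hP : IsPGroup p P) (hAP : A ≤ P) (hBP : B ≤ P) (hPB : P ≤ Subgroup.normalizer (B : Set G))
    (hnot : ¬ B ≤ Subgroup.normalizer (A : Set G)) :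
    ∃ b ∈ B, b ∈ Subgroup.normalizer
        ((P ⊓ Subgroup.normalizer (A : Set G) : Subgroup G) : Set G) ∧
      b ∉ Subgroup.normalizer (A : Set G) := by
  set N := P ⊓ Subgroup.normalizer (A : Set G) with hN
  set K := B ⊔ N with hK
  have hlt : N < K := lt_of_le_of_ne le_sup_right fun h => hnot fun b hb =>
    (h.ge (le_sup_left (b := N) hb)).2
  have hKP : K ≤ P := sup_le hBP inf_le_left
  haveI : Group.IsNilpotent K := (hP.to_le hKP).isNilpotent
  have hlt' : N.subgroupOf K < ⊤ := lt_top_iff_ne_top.mpr fun h =>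
    hlt.not_ge (Subgroup.subgroupOf_eq_top.mp h)
  have hnc := (Group.normalizerCondition_of_isNilpotent (G := K)) _ hlt'
  obtain ⟨x, hx, hxN⟩ := SetLike.exists_of_lt hnc
  obtain ⟨n, hn, b, hb, hxb⟩ := CfsgLib.Coprime.exists_mul_of_mem_sup
    ((inf_le_left : N ≤ P).trans hPB) (show (x : G) ∈ N ⊔ B by rw [sup_comm]; exact x.2)
  have hxnorm : (x : G) ∈ Subgroup.normalizer (N : Set G) := by
    rw [Subgroup.mem_normalizer_iff]
    intro y
    constructor
    · intro hy
      exact (Subgroup.mem_normalizer_iff.mp hx ⟨y, le_sup_right (a := B) hy⟩).mp hy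
    · intro hy
      have hyK : y ∈ K := by
        have := mul_mem (mul_mem (inv_mem x.2) (le_sup_right (a := B) hy)) x.2
        simpa [mul_assoc] using this
      exact (Subgroup.mem_normalizer_iff.mp hx ⟨y, hyK⟩).mpr hy
  have hb' : b = n⁻¹ * (x : G) := by rw [hxb]; group
  refine ⟨b, hb, hb' ▸ mul_mem (inv_mem (Subgroup.le_normalizer hn)) hxnorm, fun hbA => hxN ?_⟩
  rw [Subgroup.mem_subgroupOf, hxb]
  exact mul_mem hn ⟨hBP hb, hbA⟩

/-- The form used for Thompson subgroups: among the members of largest order in `P` that contain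
`[B, B]`, one not normalized by `B` can be replaced by one meeting `B` in a larger subgroup. -/
theorem exists_maxElemIn_replacement [Finite G] {p e : ℕ} [hp : Fact p.Prime]
    {S P A B : Subgroup G} (hS : IsPGroup p S) (hPS : P ≤ S)
    (hSP : S ≤ Subgroup.normalizer (P : Set G))
    (hBS : B ≤ S) (hSB : S ≤ Subgroup.normalizer (B : Set G))
    (hA : IsMaxElemIn e P A) (hBA : ⁅B, B⁆ ≤ A)
    (hB2 : p = 2 → Cfsg.IsElementaryAbelian e B) (he : e = 0 ∨ e = p)
    (hnot : ¬ B ≤ Subgroup.normalizer (A : Set G)) :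
    ∃ A' : Subgroup G, IsMaxElemIn e P A' ∧ ⁅B, B⁆ ≤ A' ∧ A ⊓ B < A' ⊓ B ∧ A' ⊓ B < B ∧
      A' ≤ Subgroup.normalizer (A : Set G) := by
  obtain ⟨b, hb, hbN, hbA⟩ := exists_replacement_element hS (hA.le.trans hPS) hBS hSB hnot
  set N := S ⊓ Subgroup.normalizer (A : Set G) with hN
  have hSab := fun a ha b hb => elemAb_commute hA.elem (a := a) (b := b) ha hb
  haveI : IsMulCommutative A := hA.elem.1
  obtain ⟨h1, h2, h3, h4, h5, -, h7, -, -, h10⟩ := glauberman_replacement_core (N := N) hBA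
    (inf_le_left.trans hSB) hb (le_inf (hA.le.trans hPS) Subgroup.le_normalizer) inf_le_right
    hbN hbA (eq_one_of_sq_eq_one (hS.to_le hBS) fun h => (hB2 h).1)
  have hle : replacement A b ≤ P := by
    refine sup_le (inf_le_left.trans hA.le) ((Subgroup.closure_le _).mpr ?_)
    rintro _ ⟨a, ha, rfl⟩
    exact mul_mem (inv_mem (hA.le ha))
      (inv_conj_mem_of_mem_normalizer (hSP (hBS hb)) (hA.le ha))
  refine ⟨replacement A b, hA.of_card_le hle ⟨h2, fun x hx => ?_⟩ h1.ge, h3, h4, h5, h7⟩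
  rcases he with rfl | rfl
  · exact pow_zero x
  · refine h10 _ hA.elem.2 ?_ x hx
    by_cases h : e = 2
    · exact Or.inr (hB2 h).2
    · exact Or.inl (hp.out.odd_of_ne_two h)

/-- Consequently some such member is normalized by `B`. -/
theorem exists_maxElemIn_normalized [Finite G] {p e : ℕ} [Fact p.Prime]
    {S P A B : Subgroup G} (hS : IsPGroup p S) (hPS : P ≤ S)
    (hSP : S ≤ Subgroup.normalizer (P : Set G))
    (hBS : B ≤ S) (hSB : S ≤ Subgroup.normalizer (B : Set G))
    (hA : IsMaxElemIn e P A) (hBA : ⁅B, B⁆ ≤ A)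
    (hB2 : p = 2 → Cfsg.IsElementaryAbelian e B) (he : e = 0 ∨ e = p)
    (hnB : ¬ B ≤ A) :
    ∃ A' : Subgroup G, IsMaxElemIn e P A' ∧ ⁅B, B⁆ ≤ A' ∧ ¬ B ≤ A' ∧
      B ≤ Subgroup.normalizer (A' : Set G) := by
  classical
  obtain ⟨C, ⟨hC, hC1, hC2⟩, hmax⟩ := Set.exists_max_image
    {A : Subgroup G | IsMaxElemIn e P A ∧ ⁅B, B⁆ ≤ A ∧ ¬ B ≤ A}
    (fun A => Nat.card (A ⊓ B : Subgroup G)) (Set.toFinite _) ⟨A, hA, hBA, hnB⟩
  refine ⟨C, hC, hC1, hC2, ?_⟩
  by_contra hnot
  obtain ⟨A', h1, h2, h3, h4, -⟩ :=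
    exists_maxElemIn_replacement hS hPS hSP hBS hSB hC hC1 hB2 he hnot
  have hle := hmax A' ⟨h1, h2, fun h => h4.ne (inf_eq_right.mpr h)⟩
  exact h3.ne (Subgroup.eq_of_le_of_card_ge h3.le hle)

end CfsgLib.PLocal
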