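import Cfsg.Agent.Lib.PLocal.NaturalModule
import Cfsg.Agent.Lib.PLocal.SectionStable
import Mathlib.GroupTheory.SemidirectProduct

/-!
A group acting through `SL(2, p)` on a copy of the natural module inside it has a section `Qd(p)`.
-/

set_option autoImplicit false
set_option linter.unusedSectionVars false

open scoped MatrixGroups

namespace CfsgLib.PLocal

universe u

variable {p : ℕ} [hp : Fact p.Prime]

/-- The affine matrix of the pair `(A, v)`. -/
def affMat (A : SL(2, ZMod p)) (v : Fin 2 → ZMod p) : SL(3, ZMod p) :=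
  ⟨!![A.1 0 0, A.1 0 1, v 0; A.1 1 0, A.1 1 1, v 1; 0, 0, 1], by
    have h := A.2
    rw [Matrix.det_fin_two] at h
    rw [Matrix.det_fin_three]
    simp
    linear_combination h⟩

theorem affMat_mul (A B : SL(2, ZMod p)) (v w : Fin 2 → ZMod p) :
    affMat A v * affMat B w = affMat (A * B) (v + A.1.mulVec w) := by
  apply Subtype.ext
  rw [Matrix.SpecialLinearGroup.coe_mul]
  ext i k
  fin_cases i <;> fin_cases k <;>
    simp [affMat, Matrix.mul_apply, Fin.sum_univ_three, Fin.sum_univ_two, Matrix.mulVec,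
      dotProduct] <;> ring

theorem affMat_one : affMat (1 : SL(2, ZMod p)) 0 = 1 := by
  apply Subtype.ext
  ext i k
  fin_cases i <;> fin_cases k <;> simp [affMat]

theorem affMat_mem_qd (A : SL(2, ZMod p)) (v : Fin 2 → ZMod p) : affMat A v ∈ Cfsg.qd p :=
  Subgroup.subset_closure ⟨rfl, rfl, rfl⟩

theorem exists_affMat {M : SL(3, ZMod p)}
    (h : M.1 2 0 = 0 ∧ M.1 2 1 = 0 ∧ M.1 2 2 = 1) : ∃ A v, affMat A v = M := by
  have hd := M.2
  rw [Matrix.det_fin_three] at hd
  refine ⟨⟨!![M.1 0 0, M.1 0 1; M.1 1 0, M.1 1 1], ?_⟩, ![M.1 0 2, M.1 1 2], ?_⟩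
  · rw [Matrix.det_fin_two]
    simp
    rw [h.1, h.2.1, h.2.2] at hd
    linear_combination hd
  · apply Subtype.ext
    ext i k
    fin_cases i <;> fin_cases k <;> simp [affMat, h.1, h.2.1, h.2.2]

/-- The action of `SL(2, p)` on the multiplicative copy of the natural module. -/
def natAut : SL(2, ZMod p) →* MulAut (Multiplicative (Fin 2 → ZMod p)) where
  toFun A := AddEquiv.toMultiplicative (Matrix.SpecialLinearGroup.toLin' A).toAddEquiv
  map_one' := MulEquiv.ext fun x => Multiplicative.toAdd.injective (by simp)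
  map_mul' A B := MulEquiv.ext fun x => Multiplicative.toAdd.injective (by simp)

theorem natAut_apply (A : SL(2, ZMod p)) (x : Multiplicative (Fin 2 → ZMod p)) :
    Multiplicative.toAdd (natAut A x) = A.1.mulVec (Multiplicative.toAdd x) :=
  rfl

theorem exists_qd_section {X : Type u} [Group X] [Finite X] (hp2 : p ≠ 2) (θ : X →* SL(2, ZMod p))
    (hθ : Function.Surjective θ) (j : Multiplicative (Fin 2 → ZMod p) →* X)
    (hj : Function.Injective j) (hjθ : ∀ z, θ (j z) = 1)
    (heq : ∀ x z, x * j z * x⁻¹ = j (natAut (θ x) z)) :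
    ∃ (M : Subgroup X) (f : M →* Cfsg.qd p), Function.Surjective f := by
  have h2 : (2 : ZMod p) ≠ 0 := Ring.two_ne_zero (by rw [ZMod.ringChar_zmod_n]; exact hp2)
  -- a `2`-element acting as `-1`
  obtain ⟨x₀, hx₀⟩ := hθ (-1)
  obtain ⟨k, m, hm, hord⟩ :=
    Nat.exists_eq_pow_mul_and_not_dvd (orderOf_pos x₀).ne' 2 (by norm_num)
  set z₀ := x₀ ^ m with hz₀
  have hmodd : Odd m := Nat.odd_iff.2 (by omega)
  have hθz : θ z₀ = -1 := by rw [hz₀, map_pow, hx₀, hmodd.neg_one_pow]
  haveI hNn : (Subgroup.zpowers (-1 : SL(2, ZMod p))).Normal := ⟨by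
    intro a ha g
    obtain ⟨i, rfl⟩ := ha
    have hc : Commute g ((-1 : SL(2, ZMod p)) ^ i) := ((Commute.one_right g).neg_right).zpow_right i
    rw [hc.eq, mul_inv_cancel_right]
    exact ⟨i, rfl⟩⟩
  set N := (Subgroup.zpowers (-1 : SL(2, ZMod p))).comap θ with hN
  haveI : Fact (Nat.Prime 2) := ⟨Nat.prime_two⟩
  have hzN : z₀ ∈ N := ⟨1, (zpow_one _).trans hθz.symm⟩
  have hz2 : IsPGroup 2 (Subgroup.zpowers (⟨z₀, hzN⟩ : N)) := by
    refine IsPGroup.of_card_dvd_pow (n := k) ?_
    rw [Nat.card_zpowers, Subgroup.orderOf_mk]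
    refine orderOf_dvd_of_pow_eq_one ?_
    rw [hz₀, ← pow_mul, mul_comm, ← hord, pow_orderOf_eq_one]
  obtain ⟨Z, hZ⟩ := hz2.exists_le_sylow
  set Z' := (Z : Subgroup N).map N.subtype with hZ'
  set Q := Subgroup.normalizer (Z' : Set X) with hQ
  have hzZ : z₀ ∈ Z' := ⟨⟨z₀, hzN⟩, hZ (Subgroup.mem_zpowers _), rfl⟩
  have hQθ : Function.Surjective (θ.comp Q.subtype) := by
    intro y
    obtain ⟨x, rfl⟩ := hθ y
    have hx : x ∈ Q ⊔ N := by rw [hQ, hZ', Sylow.normalizer_sup_eq_top]; exact Subgroup.mem_top x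
    obtain ⟨q, hq, n, ⟨i, hi⟩, rfl⟩ := Subgroup.mem_sup_of_normal_right.1 hx
    refine ⟨⟨q, hq⟩ * ⟨z₀ ^ i, zpow_mem (Subgroup.le_normalizer hzZ) i⟩, ?_⟩
    show θ (q * z₀ ^ i) = θ (q * n)
    rw [map_mul, map_mul, map_zpow, hθz, ← hi]
  have hdisj : ∀ v, j v ∈ Q → v = 1 := by
    intro v hv
    have hc1 : j v * z₀ * (j v)⁻¹ * z₀⁻¹ ∈ Z' :=
      mul_mem ((Subgroup.mem_normalizer_iff.1 hv z₀).1 hzZ) (inv_mem hzZ)
    have hc2 : j v * z₀ * (j v)⁻¹ * z₀⁻¹ = j (v * v) := by
      have e : natAut (θ z₀) v⁻¹ = v := by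
        rw [hθz]
        apply Multiplicative.toAdd.injective
        rw [natAut_apply]
        simp [Matrix.neg_mulVec]
      calc j v * z₀ * (j v)⁻¹ * z₀⁻¹ = j v * (z₀ * j v⁻¹ * z₀⁻¹) := by rw [map_inv]; group
        _ = j (v * v) := by rw [heq, e, map_mul]
    have hone : j (v * v) = 1 := by
      rw [hc2] at hc1
      obtain ⟨l, hl⟩ := IsPGroup.iff_card.mp (Z.isPGroup'.map N.subtype)
      have ho2 : orderOf (j (v * v)) ∣ 2 ^ l := by
        rw [← hl]
        exact Subgroup.orderOf_dvd_natCard _ hc1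
      have hop : orderOf (j (v * v)) ∣ p := by
        refine orderOf_dvd_of_pow_eq_one ?_
        rw [← map_pow, ← map_one j]
        congr 1
        apply Multiplicative.toAdd.injective
        rw [toAdd_pow, toAdd_one]
        funext i
        simp
      rw [← orderOf_eq_one_iff, ← Nat.dvd_one,
        ← show Nat.gcd (2 ^ l) p = 1 from ((Nat.coprime_primes Nat.prime_two hp.out).2
          (Ne.symm hp2)).pow_left l]
      exact Nat.dvd_gcd ho2 hop
    have h0 := congrArg Multiplicative.toAdd (hj (hone.trans (map_one j).symm))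
    apply Multiplicative.toAdd.injective
    funext i
    have hi : (Multiplicative.toAdd v) i + (Multiplicative.toAdd v) i = 0 := congrFun h0 i
    rw [← two_mul] at hi
    simpa using (mul_eq_zero.1 hi).resolve_left h2
  -- the semidirect product
  let act : Q →* MulAut (Multiplicative (Fin 2 → ZMod p)) := natAut.comp (θ.comp Q.subtype)
  let π : Multiplicative (Fin 2 → ZMod p) ⋊[act] Q →* X :=
    { toFun := fun s => j s.left * (s.right : X)
      map_one' := by simp
      map_mul' := fun s t => by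
        show j (s.left * act s.right t.left) * ((s.right : X) * (t.right : X)) = _
        rw [map_mul, show act s.right t.left = natAut (θ s.right) t.left from rfl, ← heq]
        group }
  have hπ : Function.Injective π := by
    rw [injective_iff_map_eq_one]
    rintro ⟨v, q⟩ h
    have hjq : j v = (q : X)⁻¹ := mul_eq_one_iff_eq_inv.1 (show j v * (q : X) = 1 from h)
    have hv := hdisj v (by rw [hjq]; exact inv_mem q.2)
    subst hv
    rw [map_one, eq_comm, inv_eq_one] at hjq
    exact SemidirectProduct.ext rfl (Subtype.ext hjq)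
  let χ₀ : Multiplicative (Fin 2 → ZMod p) ⋊[act] Q →* SL(3, ZMod p) :=
    { toFun := fun s => affMat (θ s.right) (Multiplicative.toAdd s.left)
      map_one' := by simp [affMat_one]
      map_mul' := fun s t => by
        rw [affMat_mul]
        show affMat (θ ((s.right : X) * (t.right : X)))
          (Multiplicative.toAdd (s.left * natAut (θ s.right) t.left)) = _
        rw [map_mul, toAdd_mul, natAut_apply] }
  let χ := χ₀.codRestrict (Cfsg.qd p) fun s => affMat_mem_qd _ _
  have hrange : Cfsg.qd p ≤ χ₀.range := by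
    rw [Cfsg.qd, Subgroup.closure_le]
    intro M hM
    obtain ⟨A, v, rfl⟩ := exists_affMat hM
    obtain ⟨q, rfl⟩ := hQθ A
    exact ⟨⟨Multiplicative.ofAdd v, q⟩, rfl⟩
  have hχ : Function.Surjective χ := by
    rintro ⟨M, hM⟩
    obtain ⟨s, hs⟩ := hrange hM
    exact ⟨s, Subtype.ext hs⟩
  let e := MonoidHom.ofInjective hπ
  exact ⟨π.range, χ.comp e.symm.toMonoidHom, hχ.comp e.symm.surjective⟩

/-- A group with a normal elementary abelian `p`-subgroup on which it is not `p`-stable has a
section `Qd(p)`. -/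
theorem exists_qd_of_not_isPStableOn {G : Type u} [Group G] [Finite G] (hp2 : p ≠ 2)
    (V : Subgroup G) [V.Normal] (hV : Cfsg.IsElementaryAbelian p V)
    (hns : ¬ Cfsg.IsPStableOn p V) :
    ∃ (M : Subgroup G) (f : M →* Cfsg.qd p), Function.Surjective f := by
  unfold Cfsg.IsPStableOn at hns
  push Not at hns
  obtain ⟨a, hq, hna⟩ := hns
  obtain ⟨W, hW1, hW2, hW3, ρ, emb, hemb, hembV, hconj, hρ, hsq⟩ := exists_rep_quotient' V hV
  obtain ⟨M, θ, jl, hθ, hjl, hjm⟩ := exists_natural_submodule hp2 ρ hρ (hsq a hq) hna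
  haveI : IsMulCommutative V := hV.1
  set q := QuotientGroup.mk' (Subgroup.centralizer (V : Set G))
  have hVC : ∀ v ∈ V, q v = 1 := fun v hv =>
    (QuotientGroup.eq_one_iff v).2 (Subgroup.le_centralizer V hv)
  set X := M.comap q
  let θX : X →* SL(2, ZMod p) := θ.comp (q.subgroupComap M)
  have hθX : Function.Surjective θX := by
    refine hθ.comp ?_
    rintro ⟨y, hy⟩
    obtain ⟨x, rfl⟩ := QuotientGroup.mk'_surjective _ y
    exact ⟨⟨x, hy⟩, rfl⟩
  let jX : Multiplicative (Fin 2 → ZMod p) →* X :=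
    (emb.comp (AddMonoidHom.toMultiplicative jl.toAddMonoidHom)).codRestrict X fun z => by
      show q _ ∈ M
      exact (congrArg (· ∈ M) (hVC _ (hembV _))).mpr (one_mem M)
  obtain ⟨M', f, hf⟩ := exists_qd_section hp2 θX hθX jX
    (fun a b h => by
      have h' := congrArg Subtype.val h
      exact Multiplicative.toAdd.injective (hjl (Multiplicative.ofAdd.injective (hemb h'))))
    (fun z => by
      show θ _ = 1
      rw [show (q.subgroupComap M) (jX z) = 1 from Subtype.ext (hVC _ (hembV _)), map_one])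
    (fun x z => by
      refine Subtype.ext ?_
      show (x : G) * emb (Multiplicative.ofAdd (jl (Multiplicative.toAdd z))) * (x : G)⁻¹ =
        emb (Multiplicative.ofAdd (jl (Multiplicative.toAdd (natAut (θX x) z))))
      rw [natAut_apply, ← hconj]
      exact congrArg (fun w => emb (Multiplicative.ofAdd w)) (hjm (q.subgroupComap M x) _))
  let e := M'.equivMapOfInjective X.subtype X.subtype_injective
  exact ⟨M'.map X.subtype, f.comp e.symm.toMonoidHom, hf.comp e.symm.surjective⟩

/-- Failure of `p`-stability on a normal `p`-subgroup gives a section `Qd(p)`. -/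
theorem exists_qd_of_not_isPStableOn_pGroup {G : Type u} [Group G] [Finite G] (hp2 : p ≠ 2)
    (P : Subgroup G) [P.Normal] (hP : IsPGroup p P) (hns : ¬ Cfsg.IsPStableOn p P) :
    ∃ (M : Subgroup G) (f : M →* Cfsg.qd p), Function.Surjective f := by
  rw [isPStableOn_iff_stabD] at hns
  push Not at hns
  obtain ⟨a, hq, hna⟩ := hns
  haveI := frattini_map_normal P
  haveI : (P.map (QuotientGroup.mk' ((frattini P).map P.subtype))).Normal :=
    (inferInstance : P.Normal).map _ (QuotientGroup.mk'_surjective _)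
  obtain ⟨M, f, hf⟩ := exists_qd_of_not_isPStableOn hp2 _ (elementaryAbelian_map_frattini P hP)
    (not_isPStableOn_map_frattini P hP hq hna)
  exact exists_surjective_of_surjective (QuotientGroup.mk' ((frattini P).map P.subtype))
    (QuotientGroup.mk'_surjective _) hf

end CfsgLib.PLocal
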