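import Mathlib

/-!
Elementary algebra of `SL(2, K)` over a field of odd characteristic: centralizers, traces and
unitriangular elements.
-/

set_option autoImplicit false

namespace CfsgLib.PLocal.SLTwo

open Matrix

variable {K : Type*} [Field K]

/-- `SL(2, K)`. -/
abbrev S2 (K : Type*) [Field K] := Matrix.SpecialLinearGroup (Fin 2) K

/-- The trace. -/
def tr (x : S2 K) : K := x.1 0 0 + x.1 1 1

theorem det_eq (x : S2 K) : x.1 0 0 * x.1 1 1 - x.1 0 1 * x.1 1 0 = 1 := by
  rw [← Matrix.det_fin_two]; exact x.2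

theorem ext_entries {x y : S2 K} (h00 : x.1 0 0 = y.1 0 0) (h01 : x.1 0 1 = y.1 0 1)
    (h10 : x.1 1 0 = y.1 1 0) (h11 : x.1 1 1 = y.1 1 1) : x = y := by
  refine Subtype.ext (Matrix.ext fun i j => ?_)
  fin_cases i <;> fin_cases j <;> assumption

@[simp] theorem mul_entry (x y : S2 K) (i j : Fin 2) :
    (x * y).1 i j = x.1 i 0 * y.1 0 j + x.1 i 1 * y.1 1 j := by
  simp [Matrix.mul_apply, Fin.sum_univ_two]

theorem inv_entry (x : S2 K) :
    (x⁻¹).1 0 0 = x.1 1 1 ∧ (x⁻¹).1 0 1 = -x.1 0 1 ∧ (x⁻¹).1 1 0 = -x.1 1 0 ∧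
      (x⁻¹).1 1 1 = x.1 0 0 := by
  refine ⟨?_, ?_, ?_, ?_⟩ <;> simp [Matrix.SpecialLinearGroup.coe_inv, Matrix.adjugate_fin_two]

@[simp] theorem one_entry (i j : Fin 2) :
    (1 : S2 K).1 i j = if i = j then 1 else 0 := by
  simp [Matrix.one_apply]

@[simp] theorem neg_entry (x : S2 K) (i j : Fin 2) : (-x).1 i j = -x.1 i j := by
  simp

/-- The upper unitriangular element. -/
def upper (t : K) : S2 K := ⟨!![1, t; 0, 1], by simp [Matrix.det_fin_two]⟩

/-- The lower unitriangular element. -/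
def lower (t : K) : S2 K := ⟨!![1, 0; t, 1], by simp [Matrix.det_fin_two]⟩

@[simp] theorem upper_entries (t : K) : (upper t).1 0 0 = 1 ∧ (upper t).1 0 1 = t ∧
    (upper t).1 1 0 = 0 ∧ (upper t).1 1 1 = 1 := by simp [upper]

@[simp] theorem lower_entries (t : K) : (lower t).1 0 0 = 1 ∧ (lower t).1 0 1 = 0 ∧
    (lower t).1 1 0 = t ∧ (lower t).1 1 1 = 1 := by simp [lower]

/-- `x` is not one of `±1`. -/
def NonZ (x : S2 K) : Prop := x ≠ 1 ∧ x ≠ -1

theorem eq_one_or_neg_one_of_scalar {x : S2 K} (hb : x.1 0 1 = 0) (hc : x.1 1 0 = 0)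
    (had : x.1 0 0 = x.1 1 1) : x = 1 ∨ x = -1 := by
  have h := det_eq x
  rw [hb, hc, ← had, mul_zero, sub_zero, mul_self_eq_one_iff] at h
  rcases h with h | h
  · left; exact ext_entries (by simp [h]) (by simp [hb]) (by simp [hc]) (by simp [← had, h])
  · right; exact ext_entries (by simp [h]) (by simp [hb]) (by simp [hc]) (by simp [← had, h])

theorem not_scalar {x : S2 K} (hx : NonZ x) :
    x.1 0 1 ≠ 0 ∨ x.1 1 0 ≠ 0 ∨ x.1 0 0 ≠ x.1 1 1 := by
  by_contra h
  push Not at h
  rcases eq_one_or_neg_one_of_scalar h.1 h.2.1 h.2.2 with h' | h'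
  · exact hx.1 h'
  · exact hx.2 h'

/-- The commutant of a non-scalar element consists of its affine combinations. -/
theorem exists_affine {x y : S2 K} (hx : NonZ x) (h : x * y = y * x) :
    ∃ α β : K, y.1 0 0 = α * x.1 0 0 + β ∧ y.1 0 1 = α * x.1 0 1 ∧ y.1 1 0 = α * x.1 1 0 ∧
      y.1 1 1 = α * x.1 1 1 + β := by
  have e00 := congrArg (fun z : S2 K => z.1 0 0) h
  have e01 := congrArg (fun z : S2 K => z.1 0 1) h
  have e10 := congrArg (fun z : S2 K => z.1 1 0) h
  simp only [mul_entry] at e00 e01 e10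
  rcases not_scalar hx with hb | hc | had
  · refine ⟨y.1 0 1 / x.1 0 1, y.1 0 0 - y.1 0 1 / x.1 0 1 * x.1 0 0, by ring, ?_, ?_, ?_⟩
    · field_simp
    · field_simp; linear_combination e00
    · field_simp; linear_combination e01
  · refine ⟨y.1 1 0 / x.1 1 0, y.1 0 0 - y.1 1 0 / x.1 1 0 * x.1 0 0, by ring, ?_, ?_, ?_⟩
    · field_simp; linear_combination -e00
    · field_simp
    · field_simp; linear_combination -e10
  · have hd : x.1 0 0 - x.1 1 1 ≠ 0 := sub_ne_zero.mpr had
    refine ⟨(y.1 0 0 - y.1 1 1) / (x.1 0 0 - x.1 1 1),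
      y.1 0 0 - (y.1 0 0 - y.1 1 1) / (x.1 0 0 - x.1 1 1) * x.1 0 0, by ring, ?_, ?_, ?_⟩
    · field_simp; linear_combination e01
    · field_simp; linear_combination -e10
    · field_simp; ring

/-- Two elements commuting with a non-central element commute. -/
theorem commute_of_common {x y z : S2 K} (hx : NonZ x) (hy : x * y = y * x) (hz : x * z = z * x) :
    y * z = z * y := by
  obtain ⟨α, β, a1, a2, a3, a4⟩ := exists_affine hx hy
  obtain ⟨γ, δ, b1, b2, b3, b4⟩ := exists_affine hx hz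
  refine ext_entries ?_ ?_ ?_ ?_ <;> simp only [mul_entry, a1, a2, a3, a4, b1, b2, b3, b4] <;> ring

/-- Elements of the commutant with the same (regular) trace: `x` and `x⁻¹` only. -/
theorem eq_or_inv_of_trace_eq (h2 : (2 : K) ≠ 0) {x y : S2 K} (hx : NonZ x)
    (ht : tr x ^ 2 ≠ 4) (h : x * y = y * x) (htr : tr y = tr x) : y = x ∨ y = x⁻¹ := by
  obtain ⟨α, β, a1, a2, a3, a4⟩ := exists_affine hx h
  have hdy := det_eq y
  have hdx := det_eq x
  simp only [a1, a2, a3, a4] at hdy
  simp only [tr, a1, a4] at htr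
  have key : (α ^ 2 - 1) * (4 - tr x ^ 2) = 0 := by
    unfold tr
    linear_combination 4 * hdy - 4 * α ^ 2 * hdx -
      ((α * (x.1 0 0 + x.1 1 1) + 2 * β) + (x.1 0 0 + x.1 1 1)) * htr
  rcases mul_eq_zero.mp key with h1 | h1
  · rcases (sq_eq_one_iff.mp (sub_eq_zero.mp h1)) with rfl | rfl
    · have hβ : β = 0 := mul_left_cancel₀ h2 (by linear_combination htr)
      subst hβ
      left; exact ext_entries (by simp [a1]) (by simp [a2]) (by simp [a3]) (by simp [a4])
    · have hβ : β = x.1 0 0 + x.1 1 1 := mul_left_cancel₀ h2 (by linear_combination htr)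
      obtain ⟨i1, i2, i3, i4⟩ := inv_entry x
      right
      refine ext_entries ?_ ?_ ?_ ?_ <;> simp only [a1, a2, a3, a4, i1, i2, i3, i4, hβ] <;> ring
  · exact absurd (by linear_combination -h1) ht

theorem trace_sq_of_commute {x y : S2 K} (hx : NonZ x) (ht : tr x ^ 2 = 4)
    (h : x * y = y * x) : tr y ^ 2 = 4 := by
  obtain ⟨α, β, a1, a2, a3, a4⟩ := exists_affine hx h
  have hdy := det_eq y
  have hdx := det_eq x
  simp only [a1, a2, a3, a4] at hdy
  simp only [tr, a1, a4] at ht ⊢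
  linear_combination 4 * hdy - 4 * α ^ 2 * hdx + α ^ 2 * ht

theorem tr_conj (g x : S2 K) : tr (g * x * g⁻¹) = tr x := by
  obtain ⟨i1, i2, i3, i4⟩ := inv_entry g
  simp only [tr, mul_entry, i1, i2, i3, i4]
  linear_combination (x.1 0 0 + x.1 1 1) * det_eq g

section Char

variable {p : ℕ} [hp : Fact p.Prime] [CharP K p]

theorem two_ne_zero' (h : p ≠ 2) : (2 : K) ≠ 0 := by
  intro h2
  have : p ∣ 2 := (CharP.cast_eq_zero_iff K p 2).mp (by exact_mod_cast h2)
  exact h ((Nat.prime_dvd_prime_iff_eq hp.out Nat.prime_two).mp this)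

theorem tr_eq_two_of_pow_eq_one {y : S2 K} {k : ℕ} (h : y ^ p ^ k = 1) : tr y = 2 := by
  haveI : CharP (Matrix (Fin 2) (Fin 2) K) p := inferInstance
  have h1 : y.1 ^ p ^ k = 1 := by
    rw [← Matrix.SpecialLinearGroup.coe_pow, h, Matrix.SpecialLinearGroup.coe_one]
  have h2 : IsNilpotent (y.1 - 1) := ⟨p ^ k, by
    rw [sub_pow_char_pow_of_commute (p := p) (n := k) (Commute.one_right _), h1, one_pow, sub_self]⟩
  have h3 := (Matrix.isNilpotent_trace_of_isNilpotent h2).eq_zero
  rw [Matrix.trace_sub, Matrix.trace_one, Matrix.trace_fin_two] at h3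
  simp only [Fintype.card_fin, Nat.cast_ofNat] at h3
  exact sub_eq_zero.mp h3

theorem pow_two_mul_eq_one (hp2 : p ≠ 2) {y : S2 K} (ht : tr y ^ 2 = 4) : y ^ (2 * p) = 1 := by
  have h2 : (2 : K) ≠ 0 := two_ne_zero' hp2
  obtain ⟨s, hs, hs1⟩ : ∃ s : K, tr y = 2 * s ∧ s * s = 1 := by
    refine ⟨tr y / 2, by field_simp, ?_⟩
    field_simp
    linear_combination ht
  set M := y.1 with hM
  set N := M - s • (1 : Matrix (Fin 2) (Fin 2) K) with hN
  have hNN : N * N = 0 := by
    have hd := det_eq y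
    unfold tr at hs
    ext i j
    fin_cases i <;> fin_cases j <;>
      simp [N, M, Matrix.mul_apply, Fin.sum_univ_two] <;>
      first
        | linear_combination y.1 0 1 * hs
        | linear_combination y.1 1 0 * hs
        | linear_combination y.1 0 0 * hs - hd + hs1
        | linear_combination y.1 1 1 * hs - hd + hs1
  have hpow : ∀ n : ℕ, M ^ (n + 1) = (s ^ (n + 1)) • (1 : Matrix (Fin 2) (Fin 2) K) +
      ((n + 1 : ℕ) * s ^ n) • N := by
    intro n
    induction n with
    | zero => simp [N]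
    | succ n ih =>
      rw [pow_succ, ih, show M = s • (1 : Matrix (Fin 2) (Fin 2) K) + N by simp [N]]
      simp only [mul_add, add_mul, one_mul, mul_one, smul_mul_assoc, mul_smul_comm, hNN]
      push_cast
      module
  have hpos : 2 * p - 1 + 1 = 2 * p := by have := hp.out.pos; omega
  apply Subtype.ext
  rw [Matrix.SpecialLinearGroup.coe_pow, ← hpos, hpow, hpos, pow_mul, pow_two, hs1, one_pow, one_smul,
    show ((2 * p : ℕ) : K) = 0 by push_cast; simp, zero_mul, zero_smul, add_zero]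
  rfl

end Char

theorem neg_one_mul_self : (-1 : S2 K) * -1 = 1 :=
  ext_entries (by simp) (by simp) (by simp) (by simp)

theorem neg_one_mul' (x : S2 K) : (-1 : S2 K) * x = -x :=
  ext_entries (by simp) (by simp) (by simp) (by simp)

theorem eq_one_or_neg_one_of_sq (h2 : (2 : K) ≠ 0) {x : S2 K} (h : x * x = 1) : x = 1 ∨ x = -1 := by
  have hinv : x⁻¹ = x := inv_eq_of_mul_eq_one_right h
  obtain ⟨i1, i2, i3, -⟩ := inv_entry x
  rw [hinv] at i1 i2 i3
  exact eq_one_or_neg_one_of_scalar (mul_left_cancel₀ h2 (by linear_combination i2))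
    (mul_left_cancel₀ h2 (by linear_combination i3)) i1

theorem commute_neg_one (x : S2 K) : x * -1 = -1 * x :=
  ext_entries (by simp) (by simp) (by simp) (by simp)

theorem upper_mul (s t : K) : upper s * upper t = upper (s + t) :=
  ext_entries (by simp) (by simp [add_comm]) (by simp) (by simp)

theorem lower_mul (s t : K) : lower s * lower t = lower (s + t) :=
  ext_entries (by simp) (by simp) (by simp) (by simp)

theorem upper_zero : upper (0 : K) = 1 :=
  ext_entries (by simp) (by simp) (by simp) (by simp)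

theorem eq_upper {x : S2 K} (h1 : x.1 1 0 = 0) (h2 : x.1 0 0 = 1) : x = upper (x.1 0 1) := by
  have h3 : x.1 1 1 = 1 := by
    have h := det_eq x
    rw [h1, h2, mul_zero, sub_zero, one_mul] at h
    exact h
  exact ext_entries (by simp [h2]) (by simp) (by simp [h1]) (by simp [h3])

theorem nonZ_upper {t : K} (ht : t ≠ 0) : NonZ (upper t) := by
  constructor <;> intro h <;> apply ht <;> have := congrArg (fun z : S2 K => z.1 0 1) h <;>
    simpa using this

theorem tr_upper (t : K) : tr (upper t) = 2 := by simp [tr]; norm_num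

theorem commute_upper_entries {t : K} (ht : t ≠ 0) {x : S2 K} (h : upper t * x = x * upper t) :
    x.1 1 0 = 0 ∧ x.1 0 0 = x.1 1 1 ∧ (x.1 0 0 = 1 ∨ x.1 0 0 = -1) := by
  obtain ⟨α, β, a1, a2, a3, a4⟩ := exists_affine (nonZ_upper ht) h
  have h10 : x.1 1 0 = 0 := by simp [a3]
  have had : x.1 0 0 = x.1 1 1 := by simp [a1, a4]
  refine ⟨h10, had, ?_⟩
  have hd := det_eq x
  rw [h10, ← had, mul_zero, sub_zero, mul_self_eq_one_iff] at hd
  exact hd

end CfsgLib.PLocal.SLTwo
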