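import Cfsg.Prelude.Def_LocalEven
import Cfsg.Agent.Lib.Structure.Subnormal
import Mathlib.GroupTheory.Perm.Subgroup
import Mathlib.GroupTheory.GroupAction.Quotient

set_option autoImplicit false

/-! An involution inverting an element of order three gives a section isomorphic to `S₃`. -/

namespace CfsgLib.PLocal.SThree

open Subgroup

variable {G : Type*} [Group G] [Finite G]

/-- The subgroup generated by an element of order three and an involution inverting it. -/
theorem sup_equiv_perm {y a : G} (hy : orderOf y = 3) (ha : orderOf a = 2)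
    (hinv : a * y * a⁻¹ = y⁻¹) :
    Nonempty ((zpowers y ⊔ zpowers a : Subgroup G) ≃* Equiv.Perm (Fin 3)) := by
  have hN : zpowers a ≤ normalizer (zpowers y : Set G) := by
    rw [zpowers_le, mem_normalizer_iff_map_conj_eq, MonoidHom.map_zpowers]
    show zpowers (a * y * a⁻¹) = zpowers y
    rw [hinv, zpowers_inv]
  set K := zpowers y ⊔ zpowers a with hK
  have hyK : y ∈ K := mem_sup_left (mem_zpowers y)
  have haK : a ∈ K := mem_sup_right (mem_zpowers a)
  have h6 : Nat.card K = 6 := by
    have h1 := CfsgLib.Structure.card_sup_dvd_mul hN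
    rw [Nat.card_zpowers, Nat.card_zpowers, hy, ha] at h1
    have h3 : 3 ∣ Nat.card K := hy ▸ orderOf_dvd_natCard K hyK
    have h2 : 2 ∣ Nat.card K := ha ▸ orderOf_dvd_natCard K haK
    exact Nat.dvd_antisymm h1 (Nat.Coprime.mul_dvd_of_dvd_of_dvd (by norm_num) h3 h2)
  set A : Subgroup K := zpowers ⟨a, haK⟩ with hA
  have hAcard : Nat.card A = 2 := by rw [Nat.card_zpowers, orderOf_mk, ha]
  have hidx : Nat.card (K ⧸ A) = 3 := by
    have := A.card_mul_index
    rw [hAcard, h6] at this
    rw [← index_eq_card]
    omega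
  have hcore : A.normalCore = ⊥ := by
    rw [eq_bot_iff]
    intro k hk
    rw [mem_bot]
    by_contra hk1
    obtain ⟨i, hi⟩ := mem_zpowers_iff.1 (normalCore_le A hk)
    have hka : k = ⟨a, haK⟩ := by
      rcases Int.emod_two_eq i with h | h
      · exfalso
        apply hk1
        rw [← hi, ← zpow_mod_orderOf, orderOf_mk, ha]
        simp [h]
      · rw [← hi, ← zpow_mod_orderOf, orderOf_mk, ha]
        simp [h]
    subst hka
    obtain ⟨j, hj⟩ := mem_zpowers_iff.1
      (normalCore_le A ((normalCore_normal A).conj_mem _ hk ⟨y, hyK⟩))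
    have hj' : a ^ j = y * a * y⁻¹ := congrArg Subtype.val hj
    rcases Int.emod_two_eq j with h | h
    · rw [← zpow_mod_orderOf, ha] at hj'
      simp [h] at hj'
      have ha1 : a = 1 := by
        have := congrArg (fun t => y⁻¹ * t * y) hj'
        simpa [mul_assoc] using this.symm
      rw [ha1, orderOf_one] at ha
      omega
    · rw [← zpow_mod_orderOf, ha] at hj'
      simp [h] at hj'
      have hc : a * y = y * a := by
        conv_lhs => rw [hj']
        group
      have hyy : y = y⁻¹ := by
        rw [← hinv, hc]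
        group
      have : y ^ 2 = 1 := by
        rw [pow_two]
        exact eq_inv_iff_mul_eq_one.1 hyy
      have := orderOf_dvd_of_pow_eq_one this
      rw [hy] at this
      norm_num at this
  classical
  have hinj : Function.Injective (MulAction.toPermHom K (K ⧸ A)) := by
    rw [← MonoidHom.ker_eq_bot_iff, ← normalCore_eq_ker, hcore]
  let e : (K ⧸ A) ≃ Fin 3 := (Finite.equivFin _).trans (finCongr hidx)
  let f : K →* Equiv.Perm (Fin 3) :=
    (Equiv.permCongrHom e).toMonoidHom.comp (MulAction.toPermHom K (K ⧸ A))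
  refine ⟨MulEquiv.ofBijective f ((Nat.bijective_iff_injective_and_card f).2
    ⟨(Equiv.permCongrHom e).injective.comp hinj, ?_⟩)⟩
  rw [h6, Nat.card_perm, Nat.card_fin]
  rfl

/-- A group with an involution inverting a nontrivial element of order divisible by three involves `S₃`. -/
theorem involves_perm_three {x a : G} (hx : 3 ∣ orderOf x) (ha : orderOf a = 2)
    (hinv : a * x * a⁻¹ = x⁻¹) : Cfsg.Involves (Equiv.Perm (Fin 3)) G := by
  set y := x ^ (orderOf x / 3)
  have hy : orderOf y = 3 := by
    have h0 : orderOf x ≠ 0 := (orderOf_pos x).ne'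
    rw [orderOf_pow' x (by
      intro h
      rcases hx with ⟨k, hk⟩
      rw [hk, Nat.mul_div_cancel_left _ (by norm_num)] at h
      rw [h, mul_zero] at hk
      exact h0 hk), Nat.gcd_eq_right (Nat.div_dvd_of_dvd hx), Nat.div_div_self hx h0]
  have hinv' : a * y * a⁻¹ = y⁻¹ := by
    rw [← conj_pow, hinv, inv_pow]
  obtain ⟨e⟩ := sup_equiv_perm hy ha hinv'
  refine ⟨zpowers y ⊔ zpowers a, ⊥, ?_, ⟨?_⟩⟩
  · rw [bot_subgroupOf]; infer_instance
  · exact ((QuotientGroup.quotientMulEquivOfEq (bot_subgroupOf _)).trans
      QuotientGroup.quotientBot).trans e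

end CfsgLib.PLocal.SThree
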