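import Cfsg.Agent.Lib.PLocal.OffenderBound
import Cfsg.Agent.Lib.PLocal.InvertedSThree

set_option autoImplicit false

/-! Without `S₃`-sections an elementary abelian 2-group faithful on an odd-order group moves at least
`|A| ^ 2` of the module. -/

namespace CfsgLib.PLocal

open Subgroup

variable {G : Type*} [Group G] [Finite G]

/-- An element of odd order prime to three that centralizes a subgroup of index at most four of an
elementary abelian 2-group centralizes it. -/
theorem centralizes_of_index_le_four (W W₀ : Subgroup G) (hW : Cfsg.IsElementaryAbelian 2 W)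
    (hle : W₀ ≤ W) (hidx : W₀.relIndex W ≤ 4) {u : G} (huW : u ∈ normalizer (W : Set G))
    (hodd : Odd (orderOf u)) (h3 : ¬ 3 ∣ orderOf u) (hfix : ∀ w ∈ W₀, u * w = w * u) :
    u ∈ centralizer (W : Set G) := by
  classical
  have huW' : ∀ w ∈ W, u * w * u⁻¹ ∈ W := fun w hw => (mem_normalizer_iff.1 huW w).1 hw
  have huW'' : ∀ w ∈ W, u⁻¹ * w * u ∈ W := fun w hw => (mem_normalizer_iff''.1 huW w).1 hw
  set T := W₀.subgroupOf W
  let c : W → W := fun w => ⟨u * w * u⁻¹, huW' w w.2⟩
  let d : W → W := fun w => ⟨u⁻¹ * w * u, huW'' w w.2⟩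
  have hfix' : ∀ (n : G) , n ∈ W₀ → u⁻¹ * n * u = n := fun n hn => by
    rw [mul_assoc, ← hfix n hn, inv_mul_cancel_left]
  have hfix'' : ∀ (n : G) , n ∈ W₀ → u * n * u⁻¹ = n := fun n hn => by
    rw [hfix n hn, mul_inv_cancel_right]
  have hc : ∀ w w' : W, QuotientGroup.leftRel T w w' → QuotientGroup.leftRel T (c w) (c w') := by
    intro w w' h
    rw [QuotientGroup.leftRel_apply] at h ⊢
    have h' : (w : G)⁻¹ * w' ∈ W₀ := h
    show (u * w * u⁻¹)⁻¹ * (u * w' * u⁻¹) ∈ W₀
    have := hfix'' _ h'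
    rw [← this] at h'
    simpa [mul_assoc] using h'
  have hd : ∀ w w' : W, QuotientGroup.leftRel T w w' → QuotientGroup.leftRel T (d w) (d w') := by
    intro w w' h
    rw [QuotientGroup.leftRel_apply] at h ⊢
    have h' : (w : G)⁻¹ * w' ∈ W₀ := h
    show (u⁻¹ * w * u)⁻¹ * (u⁻¹ * w' * u) ∈ W₀
    have := hfix' _ h'
    rw [← this] at h'
    simpa [mul_assoc] using h'
  let π : Equiv.Perm (W ⧸ T) :=
    { toFun := Quotient.map' c hc
      invFun := Quotient.map' d hd
      left_inv := fun q => Quotient.inductionOn' q fun w => congrArg Quotient.mk''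
        (Subtype.ext (by show u⁻¹ * (u * w * u⁻¹) * u = w; group) : d (c w) = w)
      right_inv := fun q => Quotient.inductionOn' q fun w => congrArg Quotient.mk''
        (Subtype.ext (by show u * (u⁻¹ * w * u) * u⁻¹ = w; group) : c (d w) = w) }
  have hpow : ∀ (n : ℕ) (w : W), ∃ w' : W, (w' : G) = u ^ n * w * (u ^ n)⁻¹ ∧
      (π ^ n) (QuotientGroup.mk w) = QuotientGroup.mk w' := by
    intro n
    induction n with
    | zero => intro w; exact ⟨w, by simp, by simp⟩
    | succ n ih =>
      intro w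
      obtain ⟨w', hw', hπ⟩ := ih w
      refine ⟨c w', ?_, ?_⟩
      · show u * (w' : G) * u⁻¹ = _
        rw [hw', pow_succ']; group
      · rw [pow_succ', Equiv.Perm.mul_apply, hπ]; rfl
  have hπm : π ^ orderOf u = 1 := by
    refine Equiv.ext fun q => ?_
    induction q using QuotientGroup.induction_on with
    | H w =>
      obtain ⟨w', hw', hπ⟩ := hpow (orderOf u) w
      rw [hπ, Equiv.Perm.one_apply]
      congr 1
      apply Subtype.ext
      rw [hw', pow_orderOf_eq_one]; simp
  have hπ1 : π = 1 := by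
    rw [← orderOf_eq_one_iff]
    refine Nat.eq_one_of_dvd_coprimes (a := orderOf u) (b := 24) ?_ (orderOf_dvd_of_pow_eq_one hπm) ?_
    · rw [show 24 = 2 ^ 3 * 3 from rfl]
      exact Nat.Coprime.mul_right ((Nat.coprime_two_right.2 hodd).pow_right 3)
        ((Nat.Prime.coprime_iff_not_dvd Nat.prime_three).2 h3).symm
    · refine (orderOf_dvd_natCard π).trans ?_
      rw [Nat.card_perm]
      exact Nat.factorial_dvd_factorial (show Nat.card (W ⧸ T) ≤ 4 by rwa [← index_eq_card])
  refine mem_centralizer_iff.2 fun w hw => ?_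
  set t := w⁻¹ * (u * w * u⁻¹) with ht
  have htW₀ : t ∈ W₀ := by
    have h := congrArg (fun e : Equiv.Perm (W ⧸ T) => e (QuotientGroup.mk ⟨w, hw⟩)) hπ1
    simp only [Equiv.Perm.one_apply] at h
    have h2 : (⟨w, hw⟩ : W)⁻¹ * c ⟨w, hw⟩ ∈ T := QuotientGroup.eq.1 h.symm
    exact h2
  have hw' : u * w * u⁻¹ = w * t := by rw [ht]; group
  have hit : ∀ n : ℕ, u ^ n * w * (u ^ n)⁻¹ = w * t ^ n := by
    intro n
    induction n with
    | zero => simp
    | succ n ih =>
      have hcomm : Commute u (t ^ n) := Commute.pow_right (hfix t htW₀) n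
      calc u ^ (n + 1) * w * (u ^ (n + 1))⁻¹ = u * (u ^ n * w * (u ^ n)⁻¹) * u⁻¹ := by
            rw [pow_succ']; group
        _ = u * w * (t ^ n * u⁻¹) := by rw [ih]; group
        _ = u * w * (u⁻¹ * t ^ n) := by rw [(hcomm.inv_left).eq]
        _ = w * t * t ^ n := by rw [← mul_assoc, hw']
        _ = w * t ^ (n + 1) := by rw [pow_succ', mul_assoc]
  have h1 : t ^ orderOf u = 1 := by
    have := hit (orderOf u)
    rw [pow_orderOf_eq_one] at this
    simpa using this
  have h2 : t ^ 2 = 1 := hW.2 t (hle htW₀)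
  obtain ⟨k, hk⟩ := hodd
  have ht1 : t = 1 := by rwa [hk, pow_succ, pow_mul, h2, one_pow, one_mul] at h1
  rw [ht1, mul_one] at hw'
  exact (mul_inv_eq_iff_eq_mul.1 hw').symm

/-- Without `S₃`-sections, `|A| ^ 2 ≤ |V : C_V(A)|`. -/
theorem card_sq_le_relIndex_fixed_in {S : Subgroup G}
    (hS : ¬ Cfsg.Involves (Equiv.Perm (Fin 3)) S)
    (V Q : Subgroup G) (hQS : Q ≤ S) (hV : Cfsg.IsElementaryAbelian 2 V)
    (hQV : Q ≤ normalizer (V : Set G)) (hQ : (Nat.card Q).Coprime 2)
    (hQf : Q ⊓ centralizer (V : Set G) = ⊥) :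
    ∀ (n : ℕ) (A : Subgroup G), Nat.card A = n → Cfsg.IsElementaryAbelian 2 A → A ≤ S →
      A ≤ normalizer (V : Set G) → A ≤ normalizer (Q : Set G) →
      A ⊓ centralizer (Q : Set G) = ⊥ →
      Nat.card A ^ 2 ≤ (V ⊓ centralizer (A : Set G)).relIndex V := by
  intro n
  induction n using Nat.strong_induction_on with
  | _ n ih =>
  intro A hAn hA hAS hAV hAQ hAf
  by_cases hA1 : A = ⊥
  · subst hA1
    simp only [card_bot, one_pow]
    exact Nat.pos_of_ne_zero index_ne_zero_of_finite
  haveI : Fact (Nat.Prime 2) := ⟨Nat.prime_two⟩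
  obtain ⟨B, hBA, hBi, hBne⟩ : ∃ B, B ≤ A ∧ B.relIndex A = 2 ∧
      ¬ Q ⊓ centralizer (B : Set G) ≤ centralizer (A : Set G) := by
    by_contra! hcon
    apply hA1
    rw [← le_bot_iff, ← hAf]
    refine le_inf le_rfl (le_centralizer_iff.1 ?_)
    rw [← CfsgLib.Coprime39.eq_hyperCent hA hA1 hQ hAQ]
    exact iSup_le fun B => hcon B B.2.1 B.2.2
  have hcard : Nat.card A = Nat.card B * 2 := by
    rw [← hBi, ← relIndex_bot_left, ← relIndex_bot_left, relIndex_mul_relIndex _ _ _ bot_le hBA]
  have hBlt : Nat.card B < n := by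
    rw [← hAn, hcard]
    exact lt_mul_of_one_lt_right Nat.card_pos (by norm_num)
  have hBf : B ⊓ centralizer (Q : Set G) = ⊥ := le_bot_iff.1 ((inf_le_inf_right _ hBA).trans hAf.le)
  have hih := ih _ hBlt B rfl (elemAb_of_le hA hBA) (hBA.trans hAS) (hBA.trans hAV) (hBA.trans hAQ) hBf
  set W := V ⊓ centralizer (B : Set G) with hW
  have hstep : 4 ≤ (V ⊓ centralizer (A : Set G)).relIndex W := by
    by_contra hlt
    push Not at hlt
    obtain ⟨c, hc, hcA⟩ := SetLike.not_le_iff_exists.1 hBne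
    rw [mem_centralizer_iff] at hcA
    push Not at hcA
    obtain ⟨a, ha, hac⟩ := hcA
    obtain ⟨hcQ, hcB⟩ := mem_inf.1 hc
    have ha2 : a * a = 1 := by rw [← pow_two]; exact hA.2 a ha
    have hai : a⁻¹ = a := inv_eq_of_mul_eq_one_left ha2
    set x := c * a * c⁻¹ * a⁻¹ with hx
    have hxQ : x ∈ Q := by
      have h1 := (mem_normalizer_iff.1 (hAQ ha) c⁻¹).1 (inv_mem hcQ)
      have h2 := mul_mem hcQ h1
      simpa [hx, mul_assoc] using h2
    have haB : a ∈ centralizer (B : Set G) := mem_centralizer_iff.2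
      fun b hb => elemAb_commute hA (hBA hb) ha
    have hxB : x ∈ centralizer (B : Set G) :=
      mul_mem (mul_mem (mul_mem hcB haB) (inv_mem hcB)) (inv_mem haB)
    have hx1 : x ≠ 1 := by
      intro hx1
      apply hac
      rw [hx] at hx1
      have := congrArg (fun t => t * a * c) hx1
      simpa [mul_assoc] using this.symm
    have hinv : a * x * a⁻¹ = x⁻¹ := by
      simp only [hx, mul_inv_rev, inv_inv, hai]
      calc a * (c * a * c⁻¹ * a) * a = a * c * a * c⁻¹ * (a * a) := by group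
        _ = _ := by rw [ha2, mul_one]; group
    have ha1 : a ≠ 1 := fun h => hac (by rw [h, one_mul, mul_one])
    have hao : orderOf a = 2 := orderOf_eq_prime (hA.2 a ha) ha1
    have h3 : ¬ 3 ∣ orderOf x := fun h =>
      hS (CfsgLib.PLocal.SThree.involves_perm_three (x := (⟨x, hQS hxQ⟩ : S)) (a := ⟨a, hAS ha⟩)
        (by rwa [orderOf_mk]) (by rwa [orderOf_mk]) (Subtype.ext hinv))
    have hxc2 : (orderOf x).Coprime 2 := hQ.coprime_dvd_left (orderOf_dvd_natCard Q hxQ)
    have hxodd : Odd (orderOf x) := Nat.coprime_two_right.1 hxc2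
    have hxW : x ∈ normalizer (W : Set G) := by
      refine mem_normalizer_iff.2 fun w => ⟨fun hw => ?_, fun hw => ?_⟩
      · obtain ⟨hwV, hwB⟩ := mem_inf.1 hw
        exact mem_inf.2 ⟨(mem_normalizer_iff.1 (hQV hxQ) w).1 hwV,
          mul_mem (mul_mem hxB hwB) (inv_mem hxB)⟩
      · obtain ⟨hwV, hwB⟩ := mem_inf.1 hw
        refine mem_inf.2 ⟨(mem_normalizer_iff.1 (hQV hxQ) w).2 hwV, ?_⟩
        have := mul_mem (mul_mem (inv_mem hxB) hwB) hxB
        simpa [mul_assoc] using this
    set F := W ⊓ centralizer ({a} : Set G) with hF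
    set a' := x * a * x⁻¹ with ha'
    set F' := W ⊓ centralizer ({a'} : Set G) with hF'
    have hFA : V ⊓ centralizer (A : Set G) ≤ F := by
      intro w hw
      obtain ⟨hwV, hwA⟩ := mem_inf.1 hw
      exact mem_inf.2 ⟨mem_inf.2 ⟨hwV, centralizer_le hBA hwA⟩,
        mem_centralizer_singleton_iff.2 (mem_centralizer_iff.1 hwA a ha).symm⟩
    have hFidx : F.relIndex W ≤ 2 := by
      have h4 : F.relIndex W ≤ 3 := by
        have hpos : 0 < (V ⊓ centralizer (A : Set G)).relIndex W :=
          Nat.pos_of_ne_zero index_ne_zero_of_finite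
        have := Nat.le_of_dvd hpos (relIndex_dvd_of_le_left W hFA)
        omega
      obtain ⟨k, hk⟩ := ((elemAb_isPGroup hV).to_le (inf_le_left : W ≤ V)).index (F.subgroupOf W)
      rw [relIndex, hk] at h4 ⊢
      have : k ≤ 1 := by
        by_contra hk2
        have := Nat.pow_le_pow_right (show 0 < 2 by norm_num) (show 2 ≤ k by omega)
        omega
      calc 2 ^ k ≤ 2 ^ 1 := Nat.pow_le_pow_right (by norm_num) this
        _ = 2 := rfl
    have hFmap : F.map (MulAut.conj x).toMonoidHom = F' := by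
      rw [hF, hF', map_inf _ _ _ (MulAut.conj x).injective]
      congr 1
      · exact mem_normalizer_iff_map_conj_eq.1 hxW
      · ext w
        rw [mem_centralizer_singleton_iff]
        constructor
        · rintro ⟨z, hz, rfl⟩
          replace hz := mem_centralizer_singleton_iff.1 hz
          show x * z * x⁻¹ * a' = a' * (x * z * x⁻¹)
          calc x * z * x⁻¹ * a' = x * (z * a) * x⁻¹ := by rw [ha']; group
            _ = x * (a * z) * x⁻¹ := by rw [hz]
            _ = _ := by rw [ha']; group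
        · intro hw
          refine ⟨x⁻¹ * w * x, mem_centralizer_singleton_iff.2 ?_, ?_⟩
          · calc x⁻¹ * w * x * a = x⁻¹ * (w * a') * x := by rw [ha']; group
              _ = x⁻¹ * (a' * w) * x := by rw [hw]
              _ = _ := by rw [ha']; group
          · show x * (x⁻¹ * w * x) * x⁻¹ = w
            group
    have hF'idx : F'.relIndex W ≤ 2 := by
      have hWmap : W.map (MulAut.conj x).toMonoidHom = W := mem_normalizer_iff_map_conj_eq.1 hxW
      have := relIndex_map_map_of_injective (f := (MulAut.conj x).toMonoidHom) F W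
        (MulAut.conj x).injective
      rw [hFmap, hWmap] at this
      rw [this]
      exact hFidx
    have hidx4 : (F ⊓ F').relIndex W ≤ 4 :=
      relIndex_inf_le.trans (Nat.mul_le_mul hFidx hF'idx)
    have hfix : ∀ w ∈ F ⊓ F', x ^ 2 * w = w * x ^ 2 := by
      intro w hw
      obtain ⟨h1, h2⟩ := mem_inf.1 hw
      have e1 : Commute w a := mem_centralizer_singleton_iff.1 (mem_inf.1 h1).2
      have e2 : Commute w a' := mem_centralizer_singleton_iff.1 (mem_inf.1 h2).2
      have hprod : a' * a = x ^ 2 := by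
        rw [ha', pow_two]
        calc x * a * x⁻¹ * a = x * (a * x⁻¹ * a⁻¹) := by rw [hai]; group
          _ = x * (a * x * a⁻¹)⁻¹ := by rw [hai]; simp [mul_assoc, hai]
          _ = x * x := by rw [hinv, inv_inv]
      have : Commute w (a' * a) := e2.mul_right e1
      rw [hprod] at this
      exact this.eq.symm
    have hx2o : orderOf (x ^ 2) = orderOf x := hxc2.orderOf_pow
    have hx2c : x ^ 2 ∈ centralizer (W : Set G) :=
      centralizes_of_index_le_four W (F ⊓ F') (elemAb_of_le hV inf_le_left)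
        (inf_le_left.trans inf_le_left) hidx4 (pow_mem hxW 2) (hx2o.symm ▸ hxodd) (hx2o.symm ▸ h3)
        hfix
    have hxcW : x ∈ centralizer (W : Set G) := by
      obtain ⟨k, hk⟩ := hxodd
      have hxx : x = (x ^ 2) ^ (k + 1) := by
        rw [← pow_mul, show 2 * (k + 1) = orderOf x + 1 by omega, pow_succ, pow_orderOf_eq_one, one_mul]
      exact hxx ▸ pow_mem hx2c _
    have hxV : x ∈ centralizer (V : Set G) :=
      CfsgLib.Components.mem_centralizer_of_AxB (p := 2) (elemAb_isPGroup hV)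
        (elemAb_isPGroup (elemAb_of_le hA hBA)) (hBA.trans hAV) (hQV hxQ) hxB hxc2
        fun r hr hrB => (mem_centralizer_iff.1 hxcW r (mem_inf.2 ⟨hr, hrB⟩)).symm
    exact hx1 (by rw [← mem_bot, ← hQf]; exact mem_inf.2 ⟨hxQ, hxV⟩)
  have hle : V ⊓ centralizer (A : Set G) ≤ W := inf_le_inf_left _ (centralizer_le hBA)
  rw [hcard, mul_pow, ← relIndex_mul_relIndex _ _ _ hle inf_le_left, mul_comm _ (2 ^ 2)]
  exact Nat.mul_le_mul hstep hih

end CfsgLib.PLocal
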