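import Cfsg.Agent.Lib.PLocal.SectionStable
import Cfsg.Agent.Lib.PCore.PSolvable
import Cfsg.Agent.Classical.SLGen

/-!
Groups without a section `SL(2, p)` are `p`-stable in the action sense: in particular groups with
abelian Sylow `2`-subgroups and, for `p ≥ 5`, `p`-solvable groups.
-/

set_option autoImplicit false
set_option linter.unusedSectionVars false

open scoped MatrixGroups commutatorElement

namespace CfsgLib.PLocal

universe u

variable {p : ℕ} [hp : Fact p.Prime]

/-- No subgroup maps onto `SL(2, p)`. -/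
def NoSLTwo (p : ℕ) (G : Type u) [Group G] : Prop :=
  ∀ (M : Subgroup G) (f : M →* SL(2, ZMod p)), ¬ Function.Surjective f

theorem NoSLTwo.isActionPStable {G : Type u} [Group G] [Finite G] (hp2 : p ≠ 2)
    (h : NoSLTwo p G) : Cfsg.IsActionPStable p G := by
  refine ⟨fun V _ hV => ?_, ?_, fun S V _ hV => ?_⟩
  · by_contra hns
    obtain ⟨M, f, hf⟩ := exists_sl2_of_not_isPStableOn hp2 V hV hns
    obtain ⟨M', f', hf'⟩ := exists_surjective_of_surjective (QuotientGroup.mk' _)
      (QuotientGroup.mk'_surjective _) hf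
    exact h M' f' hf'
  · haveI := Cfsg.pCore_normal p G
    refine isPStableOnSection_of_quotient _ _ ?_
    intro hn
    by_contra hns
    obtain ⟨M, f, hf⟩ := exists_sl2_of_not_isPStableOn hp2 _
      (elementaryAbelian_map_frattini (Cfsg.pCore p G) CfsgLib.PCore.pCore_isPGroup) hns
    obtain ⟨M', f', hf'⟩ := exists_surjective_of_surjective
      ((QuotientGroup.mk' _).comp (QuotientGroup.mk' _))
      ((QuotientGroup.mk'_surjective _).comp (QuotientGroup.mk'_surjective _)) hf
    exact h M' f' hf'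
  · by_contra hns
    have hVp : IsPGroup p V := (S.isPGroup'.to_le (hV.trans (Subgroup.map_subtype_le _))).of_equiv
      (V.equivMapOfInjective _ (Subgroup.subtype_injective _)).symm
    obtain ⟨M, f, hf⟩ := exists_sl2_of_not_isPStableOn_pGroup hp2 V hVp hns
    let e := M.equivMapOfInjective _ (Subgroup.subtype_injective _)
    exact h _ (f.comp e.symm.toMonoidHom) (hf.comp e.symm.surjective)

theorem not_isPSolvable_sl2 (hp5 : 5 ≤ p) : ¬ Cfsg.IsPSolvable p SL(2, ZMod p) := by
  rintro ⟨n, H, h0, hlast, -, hnorm, hstep⟩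
  have h2 : (2 : ZMod p) ≠ 0 := Ring.two_ne_zero (by rw [ZMod.ringChar_zmod_n]; omega)
  have h3 : (3 : ZMod p) ≠ 0 := by
    intro h
    have := (ZMod.natCast_eq_zero_iff 3 p).1 (by exact_mod_cast h)
    have := Nat.le_of_dvd (by norm_num) this
    omega
  have hperf : commutator SL(2, ZMod p) = ⊤ := by
    refine Cfsg.Agent.Classical.sl_subgroup_eq_top_of_transvection_mem _ fun i j hij c => ?_
    let d : SL(2, ZMod p) := ⟨!![2, 0; 0, 2⁻¹], by simp [Matrix.det_fin_two, h2]⟩
    let d' : SL(2, ZMod p) := ⟨!![2⁻¹, 0; 0, 2], by simp [Matrix.det_fin_two, h2]⟩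
    have hd : d⁻¹ = d' := inv_eq_of_mul_eq_one_right (Subtype.ext (by
      rw [Matrix.SpecialLinearGroup.coe_mul]
      ext a b; fin_cases a <;> fin_cases b <;> simp [d, d', h2, Matrix.mul_apply, Fin.sum_univ_two]))
    have hd' : d'⁻¹ = d := by rw [← hd, inv_inv]
    have hmem : ∀ (x : SL(2, ZMod p)) (t : SL(2, ZMod p)), x * t * x⁻¹ * t⁻¹ ∈
        commutator SL(2, ZMod p) := fun x t =>
      Subgroup.commutator_mem_commutator (Subgroup.mem_top x) (Subgroup.mem_top t)
    have hde : d.1 = !![2, 0; 0, 2⁻¹] := rfl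
    have hde' : d'.1 = !![2⁻¹, 0; 0, 2] := rfl
    have hc : (2 * 2 - 1 : ZMod p) * (c / 3) = c := by
      rw [show (2 * 2 - 1 : ZMod p) = 3 by norm_num, mul_div_cancel₀ c h3]
    have hup : ∀ s : ZMod p, d * SLTwo.upper s * d' * SLTwo.upper (-s) =
        SLTwo.upper ((2 * 2 - 1) * s) := fun s => by
      refine SLTwo.ext_entries ?_ ?_ ?_ ?_ <;> simp [SLTwo.mul_entry, hde, hde', h2] <;> ring
    have hlo : ∀ s : ZMod p, d' * SLTwo.lower s * d * SLTwo.lower (-s) =
        SLTwo.lower ((2 * 2 - 1) * s) := fun s => by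
      refine SLTwo.ext_entries ?_ ?_ ?_ ?_ <;> simp [SLTwo.mul_entry, hde, hde', h2] <;> ring
    have hui : ∀ s : ZMod p, (SLTwo.upper s)⁻¹ = SLTwo.upper (-s) := fun s =>
      inv_eq_of_mul_eq_one_right (by rw [SLTwo.upper_mul, add_neg_cancel, SLTwo.upper_zero])
    have hli : ∀ s : ZMod p, (SLTwo.lower s)⁻¹ = SLTwo.lower (-s) := fun s =>
      inv_eq_of_mul_eq_one_right (by
        rw [SLTwo.lower_mul, add_neg_cancel]
        exact SLTwo.ext_entries (by simp) (by simp) (by simp) (by simp))
    fin_cases i <;> fin_cases j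
    · exact absurd rfl hij
    · have h := hmem d (SLTwo.upper (c / 3))
      rw [hd, hui, hup, hc] at h
      convert h using 1
      refine SLTwo.ext_entries ?_ ?_ ?_ ?_ <;>
        simp [Matrix.SpecialLinearGroup.transvection, Matrix.transvection]
    · have h := hmem d' (SLTwo.lower (c / 3))
      rw [hd', hli, hlo, hc] at h
      convert h using 1
      refine SLTwo.ext_entries ?_ ?_ ?_ ?_ <;>
        simp [Matrix.SpecialLinearGroup.transvection, Matrix.transvection]
    · exact absurd rfl hij
  have key : ∀ i, H i ≠ ⊤ := by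
    intro i
    induction i using Fin.induction with
    | zero =>
      rw [h0]
      intro h
      have h' := congrArg (fun g : SL(2, ZMod p) => g.1 0 1)
        (Subgroup.mem_bot.1 (h.ge (Subgroup.mem_top (SLTwo.upper (1 : ZMod p)))))
      simp at h'
    | succ i ih =>
      intro htop
      apply ih
      haveI := hnorm i.castSucc
      set N := H i.castSucc
      have hs := hstep i
      rw [htop, Subgroup.relIndex_top_right] at hs
      rcases hs with ⟨m, hm⟩ | hco
      · have hQ : IsPGroup p (SL(2, ZMod p) ⧸ N) :=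
          IsPGroup.of_card (n := m) (by rw [← hm, Subgroup.index])
        haveI : Group.IsNilpotent (SL(2, ZMod p) ⧸ N) := hQ.isNilpotent
        by_contra hne
        haveI : Nontrivial (SL(2, ZMod p) ⧸ N) := QuotientGroup.nontrivial_iff.2 hne
        refine (Group.IsSolvable.commutator_lt_top_of_nontrivial (SL(2, ZMod p) ⧸ N)).ne ?_
        rw [commutator_def, ← Subgroup.map_top_of_surjective (QuotientGroup.mk' N)
          (QuotientGroup.mk'_surjective N), ← Subgroup.map_commutator, ← commutator_def, hperf]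
      · refine Cfsg.Agent.Classical.sl_subgroup_eq_top_of_transvection_mem _ fun a b hab c => ?_
        rw [← QuotientGroup.eq_one_iff]
        have h1 : Matrix.SpecialLinearGroup.transvection hab c ^ p = 1 := by
          have hm : ∀ k : ℕ, Matrix.SpecialLinearGroup.transvection hab c ^ k =
              Matrix.SpecialLinearGroup.transvection hab ((k : ZMod p) * c) := by
            intro k
            induction k with
            | zero =>
              rw [pow_zero]
              apply Subtype.ext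
              simp [Matrix.SpecialLinearGroup.transvection, Matrix.transvection]
            | succ k ihk =>
              rw [pow_succ, ihk]
              apply Subtype.ext
              rw [Matrix.SpecialLinearGroup.coe_mul]
              show Matrix.transvection a b _ * Matrix.transvection a b c = Matrix.transvection a b _
              rw [Matrix.transvection_mul_transvection_same (h := hab)]
              congr 1
              push_cast
              ring
          rw [hm]
          apply Subtype.ext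
          simp [Matrix.SpecialLinearGroup.transvection, Matrix.transvection]
        have h1' : (QuotientGroup.mk (Matrix.SpecialLinearGroup.transvection hab c) :
            SL(2, ZMod p) ⧸ N) ^ p = 1 := by rw [← QuotientGroup.mk_pow, h1, QuotientGroup.mk_one]
        have hd2 := orderOf_dvd_natCard
          (QuotientGroup.mk (Matrix.SpecialLinearGroup.transvection hab c) : SL(2, ZMod p) ⧸ N)
        rw [← Subgroup.index] at hd2
        exact orderOf_eq_one_iff.1 (Nat.dvd_one.1
          (hco ▸ Nat.dvd_gcd hd2 (orderOf_dvd_of_pow_eq_one h1')))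
  exact key _ hlast

theorem noSLTwo_of_isPSolvable {G : Type u} [Group G] [Finite G] (hp5 : 5 ≤ p)
    (h : Cfsg.IsPSolvable p G) : NoSLTwo p G := fun M f hf =>
  not_isPSolvable_sl2 hp5
    (CfsgLib.PCore.isPSolvable_of_surjective f hf (CfsgLib.PCore.isPSolvable_subgroup h M))

theorem exists_two_subgroup_not_commute (hp2 : p ≠ 2) :
    ∃ i j : SL(2, ZMod p), IsPGroup 2 (Subgroup.closure ({i, j} : Set SL(2, ZMod p))) ∧
      i * j ≠ j * i := by
  have h2 : (2 : ZMod p) ≠ 0 := Ring.two_ne_zero (by rw [ZMod.ringChar_zmod_n]; exact hp2)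
  obtain ⟨a, b, hab⟩ := ZMod.sq_add_sq p (-1)
  let i : SL(2, ZMod p) := ⟨!![0, 1; -1, 0], by simp [Matrix.det_fin_two]⟩
  let j : SL(2, ZMod p) := ⟨!![a, b; b, -a], by
    simp [Matrix.det_fin_two]; linear_combination -hab⟩
  have hii : i * i = -1 := by
    apply Subtype.ext
    simp only [Matrix.SpecialLinearGroup.coe_mul, Matrix.SpecialLinearGroup.coe_neg,
      Matrix.SpecialLinearGroup.coe_one]
    ext r s; fin_cases r <;> fin_cases s <;> simp [i, Matrix.mul_apply, Fin.sum_univ_two]
  have hjj : j * j = -1 := by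
    apply Subtype.ext
    simp only [Matrix.SpecialLinearGroup.coe_mul, Matrix.SpecialLinearGroup.coe_neg,
      Matrix.SpecialLinearGroup.coe_one]
    ext r s; fin_cases r <;> fin_cases s <;> simp [j, Matrix.mul_apply, Fin.sum_univ_two] <;>
      first | ring1 | linear_combination hab
  have hij : i * j = -(j * i) := by
    apply Subtype.ext
    simp only [Matrix.SpecialLinearGroup.coe_mul, Matrix.SpecialLinearGroup.coe_neg]
    ext r s; fin_cases r <;> fin_cases s <;> simp [i, j, Matrix.mul_apply, Fin.sum_univ_two]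
  have h4 : ∀ x : SL(2, ZMod p), x * x = -1 → x ^ 4 = 1 ∧ x⁻¹ = -x := fun x hx =>
    ⟨by rw [show (4 : ℕ) = 2 * 2 from rfl, pow_mul, sq x, hx, neg_one_sq],
      inv_eq_of_mul_eq_one_right (by rw [mul_neg, hx, neg_neg])⟩
  have hconj : j * i * j⁻¹ = i⁻¹ := by
    rw [(h4 i hii).2, (h4 j hjj).2, mul_neg, ← neg_mul, ← hij, mul_assoc, hjj, mul_neg, mul_one]
  refine ⟨i, j, ?_, fun h => ?_⟩
  · have hpi : ∀ x : SL(2, ZMod p), x ^ 4 = 1 → IsPGroup 2 (Subgroup.zpowers x) := fun x hx =>
      IsPGroup.of_card_dvd_pow (n := 2) (by rw [Nat.card_zpowers]; exact orderOf_dvd_of_pow_eq_one hx)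
    have h := IsPGroup.to_sup_of_normal_left' (hpi i (h4 i hii).1) (hpi j (h4 j hjj).1) (by
      rw [Subgroup.zpowers_le, Subgroup.mem_normalizer_iff_map_conj_eq, MonoidHom.map_zpowers]
      simp [hconj, Subgroup.zpowers_inv])
    rwa [Set.insert_eq, Subgroup.closure_union, ← Subgroup.zpowers_eq_closure, ← Subgroup.zpowers_eq_closure]
  · have h00 := congrArg (fun x : SL(2, ZMod p) => x.1 0 0) (h.symm.trans hij)
    have h01 := congrArg (fun x : SL(2, ZMod p) => x.1 0 1) (h.symm.trans hij)
    have hie : i.1 = !![0, 1; -1, 0] := rfl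
    have hje : j.1 = !![a, b; b, -a] := rfl
    simp [SLTwo.mul_entry, SLTwo.neg_entry, hie, hje] at h00 h01
    have hb : b = 0 := (mul_eq_zero.1 (show (2 : ZMod p) * b = 0 by linear_combination -h00)).resolve_left h2
    have ha : a = 0 := (mul_eq_zero.1 (show (2 : ZMod p) * a = 0 by linear_combination h01)).resolve_left h2
    rw [ha, hb] at hab
    simp at hab

theorem noSLTwo_of_abelian_sylow_two {G : Type u} [Group G] [Finite G] (hp2 : p ≠ 2)
    (hab : ∀ T : Sylow 2 G, IsMulCommutative T) : NoSLTwo p G := by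
  intro M f hf
  haveI : Fact (Nat.Prime 2) := ⟨Nat.prime_two⟩
  obtain ⟨i, j, hP, hne⟩ := exists_two_subgroup_not_commute (p := p) hp2
  obtain ⟨R, hR⟩ := hP.exists_le_sylow
  obtain ⟨S⟩ : Nonempty (Sylow 2 M) := inferInstance
  obtain ⟨T, hT⟩ := (S.isPGroup'.map M.subtype).exists_le_sylow
  have hScomm : ∀ x ∈ (S : Subgroup M), ∀ y ∈ (S : Subgroup M), x * y = y * x := fun x hx y hy =>
    Subtype.ext (by
      have hc := (hab T).is_comm.comm (⟨(x : G), hT ⟨x, hx, rfl⟩⟩ : T) ⟨(y : G), hT ⟨y, hy, rfl⟩⟩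
      exact congrArg (fun z : T => (z : G)) hc)
  obtain ⟨g, hg⟩ := MulAction.exists_smul_eq SL(2, ZMod p) (S.mapSurjective hf) R
  have hi : i ∈ ((g • S.mapSurjective hf : Sylow 2 SL(2, ZMod p)) : Subgroup SL(2, ZMod p)) :=
    hg.symm ▸ hR (Subgroup.subset_closure (Set.mem_insert _ _))
  have hj : j ∈ ((g • S.mapSurjective hf : Sylow 2 SL(2, ZMod p)) : Subgroup SL(2, ZMod p)) :=
    hg.symm ▸ hR (Subgroup.subset_closure (Set.mem_insert_of_mem _ rfl))
  rw [Sylow.coe_subgroup_smul, Sylow.coe_mapSurjective] at hi hj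
  obtain ⟨_, ⟨x, hx, rfl⟩, rfl⟩ := hi
  obtain ⟨_, ⟨y, hy, rfl⟩, rfl⟩ := hj
  apply hne
  show g * f x * g⁻¹ * (g * f y * g⁻¹) = g * f y * g⁻¹ * (g * f x * g⁻¹)
  rw [conj_mul, conj_mul, ← map_mul, ← map_mul, hScomm x hx y hy]

end CfsgLib.PLocal
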