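import Cfsg.Agent.Lib.PLocal.SectionStable
import Cfsg.Agent.Lib.Techniques.Basic
import Cfsg.Prelude.Def_LocalEven

/-!
Failure of normalizer `p`-stability gives `SL(2, p)` in a normalizer of a nontrivial `p`-subgroup, and
such normalizers are covered by normalizers of `p`-subgroups under surjections.
-/

set_option autoImplicit false
set_option linter.unusedSectionVars false

open scoped MatrixGroups commutatorElement

namespace CfsgLib.PLocal

open Cfsg Subgroup

universe u v

variable {p : ℕ} [hp : Fact p.Prime]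

/-- A group that is not normalizer `p`-stable has `SL(2, p)` as a quotient of a subgroup of the
normalizer of a nontrivial `p`-subgroup. -/
theorem exists_sl2_normalizer_of_not_stable {X : Type u} [Group X] [Finite X] (hp2 : p ≠ 2)
    (h : ¬ IsNormalizerPStable p X) :
    ∃ Q : Subgroup X, IsPGroup p Q ∧ Q ≠ ⊥ ∧
      ∃ (M : Subgroup X) (f : M →* SL(2, ZMod p)),
        M ≤ normalizer (Q : Set X) ∧ Function.Surjective f := by
  unfold IsNormalizerPStable at h
  push Not at h
  obtain ⟨Q, hQ, g, hg, hq, hn⟩ := h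
  set N := normalizer (Q : Set X) with hN
  refine ⟨Q, hQ, ?_, ?_⟩
  · rintro rfl
    apply hn
    rw [(QuotientGroup.eq_one_iff _).2 (mem_subgroupOf.2 ?_)]
    · exact one_mem _
    · rw [mem_centralizer_iff]
      intro a ha
      rw [SetLike.mem_coe, mem_bot] at ha
      simp [ha]
  haveI hVn : (Q.subgroupOf N).Normal := normal_in_normalizer
  have hQN : Q ≤ N := le_normalizer
  have hns : ¬ IsPStableOn p (Q.subgroupOf N) := by
    intro hst
    apply hn
    have hmem := hst ⟨g, hg⟩ (by
      rw [← map_eq_bot_iff_of_injective _ N.subtype_injective, map_commutator, map_commutator,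
        MonoidHom.map_zpowers, map_subgroupOf_eq_of_le hQN]
      exact hq)
    have hCeq : centralizer ((Q.subgroupOf N : Subgroup N) : Set N) =
        (centralizer (Q : Set X)).subgroupOf N := by
      ext x
      rw [mem_subgroupOf, mem_centralizer_iff, mem_centralizer_iff]
      exact ⟨fun hx a ha => congrArg Subtype.val (hx ⟨a, hQN ha⟩ (mem_subgroupOf.2 ha)),
        fun hx a ha => Subtype.ext (hx a (mem_subgroupOf.1 ha))⟩
    exact (mk_mem_pCore_iff_of_surjective (p := p) (MonoidHom.id N) (fun y => ⟨y, rfl⟩)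
      ((centralizer (Q : Set X)).subgroupOf N) (centralizer ((Q.subgroupOf N : Subgroup N) : Set N))
      (by rw [hCeq, comap_id]) ⟨g, hg⟩).1 hmem
  obtain ⟨M, f, hf⟩ := exists_sl2_of_not_isPStableOn_pGroup hp2 (Q.subgroupOf N)
    hQ.comap_subtype hns
  exact ⟨M.map N.subtype,
    f.comp (M.equivMapOfInjective N.subtype N.subtype_injective).symm.toMonoidHom,
    map_subtype_le M, hf.comp (M.equivMapOfInjective N.subtype N.subtype_injective).symm.surjective⟩

/-- Under a surjection the normalizer of a `p`-subgroup is the image of the normalizer of one. -/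
theorem exists_normalizer_cover {K : Type u} {X : Type v} [Group K] [Finite K] [Group X]
    (π : K →* X) (hπ : Function.Surjective π) {Q : Subgroup X} (hQ : IsPGroup p Q) :
    ∃ T : Subgroup K, IsPGroup p T ∧ T.map π = Q ∧
      normalizer (Q : Set X) ≤ (normalizer (T : Set K)).map π := by
  haveI : Finite X := Finite.of_surjective π hπ
  let P : Sylow p (Q.comap π) := default
  have hsur : Function.Surjective (π.subgroupComap Q) := by
    rintro ⟨y, hy⟩
    obtain ⟨x, rfl⟩ := hπ y
    exact ⟨⟨x, hy⟩, rfl⟩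
  have htop : (P.mapSurjective hsur : Subgroup Q) = ⊤ :=
    ((P.mapSurjective hsur).3 (hQ.of_equiv topEquiv.symm) le_top).symm
  rw [Sylow.coe_mapSurjective] at htop
  set T := (P : Subgroup (Q.comap π)).map (Q.comap π).subtype with hT
  have hTle : T ≤ Q.comap π := map_subtype_le _
  have hTp : IsPGroup p T := P.2.map _
  have hTi : ¬ p ∣ T.relIndex (Q.comap π) := by
    rw [relIndex, subgroupOf, hT, comap_map_eq_self_of_injective (subtype_injective _)]
    exact P.not_dvd_index
  have hTQ : T.map π = Q := by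
    refine le_antisymm (map_le_iff_le_comap.2 hTle) fun y hy => ?_
    obtain ⟨x, hx, e⟩ := (htop.ge (mem_top (⟨y, hy⟩ : Q)))
    exact ⟨x, ⟨x, hx, rfl⟩, congrArg Subtype.val e⟩
  refine ⟨T, hTp, hTQ, fun y hy => ?_⟩
  obtain ⟨x, rfl⟩ := hπ y
  have hx : T.map (MulAut.conj x).toMonoidHom ≤ Q.comap π := by
    rintro _ ⟨t, ht, rfl⟩
    show π (x * t * x⁻¹) ∈ Q
    rw [map_mul, map_mul, map_inv]
    exact (mem_normalizer_iff.1 hy _).1 (hTle ht)
  obtain ⟨n, hn, hnT⟩ := CfsgLib.Techniques.exists_conj_le_sylow_of hx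
    (CfsgLib.Techniques.isPGroup_map_conj hTp x) hTle hTp hTi
  rw [← CfsgLib.Techniques.map_conj_mul] at hnT
  have hnx : n * x ∈ normalizer (T : Set K) := CfsgLib.Techniques.map_conj_eq_self_iff.1
    (eq_of_le_of_card_ge hnT (CfsgLib.Techniques.card_map_conj T (n * x)).ge)
  have h1 : π n ∈ (normalizer (T : Set K)).map π :=
    map_mono le_normalizer (hTQ.ge hn)
  have h2 := mul_mem (inv_mem h1) (mem_map_of_mem π hnx)
  rwa [map_mul, inv_mul_cancel_left] at h2

/-- If `SL(2, p)` is involved in no `p`-local subgroup, all sections are normalizer `p`-stable. -/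
theorem isNormalizerPStable_of_not_involves {G : Type u} [Group G] [Finite G] (hp2 : p ≠ 2)
    (h : ∀ P : Subgroup G, IsPGroup p P → P ≠ ⊥ →
      ¬ Involves (SL(2, ZMod p)) ↥(normalizer (P : Set G)))
    (K : Subgroup G) {X : Type v} [Group X] [Finite X] (π : K →* X) (hπ : Function.Surjective π) :
    IsNormalizerPStable p X := by
  by_contra hns
  obtain ⟨Q, hQ, hQne, M, f, hMN, hf⟩ := exists_sl2_normalizer_of_not_stable hp2 hns
  obtain ⟨T, hT, hTQ, hcov⟩ := exists_normalizer_cover π hπ hQ
  set T' := T.map K.subtype with hT'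
  apply h T' (hT.map _) (fun e => hQne (by
    rw [← hTQ, (map_eq_bot_iff_of_injective _ K.subtype_injective).1 e, Subgroup.map_bot]))
  let φ := π.comp (normalizer (T : Set K)).subtype
  let ι : normalizer (T : Set K) →* normalizer (T' : Set G) :=
    (K.subtype.comp (normalizer (T : Set K)).subtype).codRestrict _
      fun x => le_normalizer_map K.subtype ⟨x, x.2, rfl⟩
  have hι : Function.Injective ι := fun a b e =>
    Subtype.ext (Subtype.ext (congrArg (fun z : normalizer (T' : Set G) => (z : G)) e))
  have hsur : Function.Surjective (φ.subgroupComap M) := by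
    rintro ⟨y, hy⟩
    obtain ⟨x, hx, rfl⟩ := hcov (hMN hy)
    exact ⟨⟨⟨x, hx⟩, hy⟩, rfl⟩
  let e := (M.comap φ).equivMapOfInjective ι hι
  obtain ⟨K₂, L₂, hn₂, -, he₂⟩ := exists_section_top_of_surjective
    (f := f.comp ((φ.subgroupComap M).comp e.symm.toMonoidHom))
    (hf.comp (hsur.comp e.symm.surjective))
  exact ⟨K₂, L₂, hn₂, he₂⟩

end CfsgLib.PLocal
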