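import Cfsg.Agent.Lib.PLocal.OffenderBound
import Cfsg.Agent.Lib.PLocal5.SylowFixed
import Cfsg.Agent.Lib.PLocal.Constraint

/-!
Reduction of failure of Thompson factorization to a faithful group generated by best offenders.
-/

set_option autoImplicit false
set_option linter.unusedSectionVars false

open scoped commutatorElement

namespace CfsgLib.PLocal

universe u

variable {p : ℕ} [hp : Fact p.Prime] {G : Type u} [Group G]

/-- The action of `G / C_G(V)` on a normal subgroup `V`. -/
def conjQuot (V : Subgroup G) [V.Normal] :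
    G ⧸ Subgroup.centralizer (V : Set G) →* MulAut V :=
  QuotientGroup.lift _ MulAut.conjNormal fun c hc => by
    refine MulEquiv.ext fun v => Subtype.ext ?_
    rw [MulAut.conjNormal_apply, ← Subgroup.mem_centralizer_iff.1 hc v v.2, mul_inv_cancel_right]
    rfl

/-- The semidirect product `V ⋊ G / C_G(V)`. -/
abbrev QuotSemi (V : Subgroup G) [V.Normal] :=
  V ⋊[conjQuot V] (G ⧸ Subgroup.centralizer (V : Set G))

/-- `G → V ⋊ G / C_G(V)`. -/
def toSemi (V : Subgroup G) [V.Normal] : G →* QuotSemi V :=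
  SemidirectProduct.inr.comp (QuotientGroup.mk' _)

/-- The copy of `V`. -/
def semiV (V : Subgroup G) [V.Normal] : Subgroup (QuotSemi V) :=
  (SemidirectProduct.inl : V →* QuotSemi V).range

variable (V : Subgroup G) [V.Normal]

theorem toSemi_conj (g : G) (v : V) :
    toSemi V g * SemidirectProduct.inl v * (toSemi V g)⁻¹ =
      SemidirectProduct.inl (MulAut.conjNormal g v) := by
  show (SemidirectProduct.inr (QuotientGroup.mk' _ g) : QuotSemi V) * SemidirectProduct.inl v *
    (SemidirectProduct.inr (QuotientGroup.mk' _ g))⁻¹ = _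
  rw [← map_inv, ← SemidirectProduct.inl_aut]
  rfl

theorem ker_toSemi : (toSemi V).ker = Subgroup.centralizer (V : Set G) := by
  ext g
  rw [MonoidHom.mem_ker, toSemi, MonoidHom.comp_apply,
    ← map_one (SemidirectProduct.inr : _ →* QuotSemi V), SemidirectProduct.inr_inj,
    QuotientGroup.mk'_apply, QuotientGroup.eq_one_iff]

theorem toSemi_commute_iff {g : G} {v : V} :
    toSemi V g * SemidirectProduct.inl v = SemidirectProduct.inl v * toSemi V g ↔
      g * (v : G) = v * g := by
  rw [← mul_inv_eq_iff_eq_mul, toSemi_conj, SemidirectProduct.inl_inj, Subtype.ext_iff,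
    MulAut.conjNormal_apply, mul_inv_eq_iff_eq_mul]

theorem range_le_normalizer_semiV (K : Subgroup (QuotSemi V)) :
    K ≤ Subgroup.normalizer (semiV V : Set (QuotSemi V)) := by
  rw [semiV, SemidirectProduct.range_inl_eq_ker_rightHom, Subgroup.normalizer_eq_top]
  exact le_top

theorem semiV_elemAb (hV : Cfsg.IsElementaryAbelian p V) :
    Cfsg.IsElementaryAbelian p (semiV V) := by
  rw [semiV, MonoidHom.range_eq_map]
  exact elemAb_map _ ⟨isMulCommutative_of_forall fun a _ b _ =>
    Subtype.ext (elemAb_commute hV a.2 b.2), fun a _ => Subtype.ext (hV.2 a a.2)⟩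

/-- Nothing in the complement centralizes `V`. -/
theorem map_inf_centralizer_semiV (K : Subgroup G) :
    K.map (toSemi V) ⊓ Subgroup.centralizer (semiV V : Set (QuotSemi V)) = ⊥ := by
  rw [eq_bot_iff]
  rintro _ ⟨⟨g, -, rfl⟩, hc⟩
  rw [Subgroup.mem_bot, ← MonoidHom.mem_ker, ker_toSemi, Subgroup.mem_centralizer_iff]
  exact fun v hv => ((toSemi_commute_iff V (v := ⟨v, hv⟩)).1
    (Subgroup.mem_centralizer_iff.1 hc _ ⟨⟨v, hv⟩, rfl⟩).symm).symm

theorem semiV_inf_centralizer_map (B : Subgroup G) :
    semiV V ⊓ Subgroup.centralizer (B.map (toSemi V) : Set (QuotSemi V)) =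
      ((Subgroup.centralizer (B : Set G)).subgroupOf V).map SemidirectProduct.inl := by
  ext x
  constructor
  · rintro ⟨⟨v, rfl⟩, hc⟩
    exact ⟨v, Subgroup.mem_centralizer_iff.2 fun b hb => (toSemi_commute_iff V).1
      (Subgroup.mem_centralizer_iff.1 hc _ ⟨b, hb, rfl⟩), rfl⟩
  · rintro ⟨v, hv, rfl⟩
    refine ⟨⟨v, rfl⟩, Subgroup.mem_centralizer_iff.2 ?_⟩
    rintro _ ⟨b, hb, rfl⟩
    exact (toSemi_commute_iff V).2 (Subgroup.mem_centralizer_iff.1 hv b hb)

theorem card_semiV_inf_centralizer_map (B : Subgroup G) :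
    Nat.card (semiV V ⊓ Subgroup.centralizer (B.map (toSemi V) : Set (QuotSemi V)) :
        Subgroup (QuotSemi V)) =
      Nat.card (V ⊓ Subgroup.centralizer (B : Set G) : Subgroup G) := by
  rw [semiV_inf_centralizer_map, Subgroup.card_map_of_injective SemidirectProduct.inl_injective,
    ← Subgroup.inf_subgroupOf_left, Nat.card_congr
      (Subgroup.subgroupOfEquivOfLe
        (inf_le_left : V ⊓ Subgroup.centralizer (B : Set G) ≤ V)).toEquiv]

variable [Finite G]

instance finite_quotSemi : Finite (QuotSemi V) :=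
  Finite.of_equiv _ SemidirectProduct.equivProd.symm

theorem card_eq_card_map_toSemi_mul (B : Subgroup G) :
    Nat.card B = Nat.card (B.map (toSemi V)) *
      Nat.card (B ⊓ Subgroup.centralizer (V : Set G) : Subgroup G) := by
  rw [toSemi, ← Subgroup.map_map, Subgroup.card_map_of_injective SemidirectProduct.inr_injective,
    CfsgLib.PCore.card_map_mk', ← Subgroup.inf_relIndex_right, ← Subgroup.relIndex_bot_left,
    ← Subgroup.relIndex_bot_left, mul_comm, inf_comm B,
    Subgroup.relIndex_mul_relIndex _ _ _ bot_le inf_le_right]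

/-- The image of a maximal elementary abelian subgroup is a best offender. -/
theorem isBestOffenderOn_map (hV : Cfsg.IsElementaryAbelian p V) {A : Subgroup G}
    (hA : IsMaxElemIn p ⊤ A) :
    Cfsg.IsBestOffenderOn p (semiV V) (A.map (toSemi V)) := by
  have hA' : A ∈ Cfsg.maxElementaryAbelianSubgroups p G := (setOf_isMaxElemIn_top p).le hA
  obtain ⟨hbest, -, -⟩ := CfsgLib.MaxOffender.isBestOffenderOn hV hA'
  refine ⟨fun B hB => ?_, ?_, ?_⟩
  · set B₀ := A ⊓ B.comap (toSemi V) with hB₀
    have hmap : B₀.map (toSemi V) = B := by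
      refine le_antisymm ?_ fun b hb => ?_
      · rintro _ ⟨x, hx, rfl⟩
        exact (Subgroup.mem_inf.1 hx).2
      · obtain ⟨a, ha, rfl⟩ := hB hb
        exact ⟨a, ⟨ha, hb⟩, rfl⟩
    have hinf : B₀ ⊓ Subgroup.centralizer (V : Set G) = A ⊓ Subgroup.centralizer (V : Set G) := by
      refine le_antisymm (inf_le_inf_right _ inf_le_left) fun x hx => ⟨⟨hx.1, ?_⟩, hx.2⟩
      show toSemi V x ∈ B
      have hx1 : toSemi V x = 1 := by rw [← MonoidHom.mem_ker, ker_toSemi]; exact hx.2
      rw [hx1]
      exact one_mem B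
    have h := hbest B₀ inf_le_left
    rw [card_eq_card_map_toSemi_mul V B₀, card_eq_card_map_toSemi_mul V A, hmap, hinf,
      mul_right_comm, mul_right_comm (Nat.card (A.map (toSemi V)))] at h
    rw [← hmap, card_semiV_inf_centralizer_map, card_semiV_inf_centralizer_map, hmap]
    exact Nat.le_of_mul_le_mul_right h Nat.card_pos
  · refine Subgroup.commutator_le.2 fun a ha b hb => ?_
    rw [commutatorElement_eq_one_iff_mul_comm.2 (elemAb_commute (elemAb_map _ hA.elem) ha hb)]
    exact one_mem _
  · intro a ha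
    rw [(elemAb_map (toSemi V) hA.elem).2 a ha]
    exact one_mem _

/-- The setting of the structure theorem for failure of factorization. -/
theorem ff_setting (hsep : Cfsg.IsPSolvable p G) (hV : Cfsg.IsElementaryAbelian p V)
    (hO : Cfsg.pCore p (G ⧸ Subgroup.centralizer (V : Set G)) = ⊥) :
    let H := (Cfsg.thompsonSubgroup p G).map (toSemi V)
    H ≤ Subgroup.normalizer (semiV V : Set (QuotSemi V)) ∧
      H ⊓ Subgroup.centralizer (semiV V : Set (QuotSemi V)) = ⊥ ∧
      Subgroup.centralizer (Cfsg.pPrimeCore p H : Set H) ≤ Cfsg.pPrimeCore p H ∧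
      H = ⨆ A : {A : Subgroup (QuotSemi V) // A ≤ H ∧ Cfsg.IsBestOffenderOn p (semiV V) A},
        (A : Subgroup (QuotSemi V)) := by
  intro H
  refine ⟨range_le_normalizer_semiV V H, map_inf_centralizer_semiV V _, ?_, ?_⟩
  · set L := G ⧸ Subgroup.centralizer (V : Set G)
    set H₀ := (Cfsg.thompsonSubgroup p G).map
      (QuotientGroup.mk' (Subgroup.centralizer (V : Set G))) with hH₀
    have hJn : (Cfsg.thompsonSubgroup p G).Normal := by
      rw [thompsonSubgroup_eq, ← Subgroup.normalizer_eq_top_iff, eq_top_iff]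
      exact le_normalizer_thompson p ⊤
    haveI : H₀.Normal := hJn.map _ (QuotientGroup.mk'_surjective _)
    have hH : H = H₀.map (SemidirectProduct.inr : L →* QuotSemi V) := by
      show (Cfsg.thompsonSubgroup p G).map (toSemi V) = _
      rw [toSemi, Subgroup.map_map]
    let e : H₀ ≃* H :=
      (H₀.equivMapOfInjective (SemidirectProduct.inr : L →* QuotSemi V)
        SemidirectProduct.inr_injective).trans (MulEquiv.subgroupCongr hH.symm)
    have hp0 : Cfsg.pCore p H₀ = ⊥ := by
      have h1 : (Cfsg.pCore p H₀).map H₀.subtype ≤ Cfsg.pCore p L := by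
        rw [CfsgLib.PCore.map_pCore_subtype_of_normal]
        exact inf_le_right
      rw [hO, le_bot_iff, Subgroup.map_eq_bot_iff, Subgroup.ker_subtype, le_bot_iff] at h1
      exact h1
    refine CfsgLib.DualHallHigman.centralizer_pPrimeCore_le
      (CfsgLib.PCore.isPSolvable_of_equiv e
        (CfsgLib.PCore.isPSolvable_subgroup (CfsgLib.PCore.isPSolvable_quotient hsep _) H₀)) ?_
    rw [← CfsgLib.PCore.map_pCore_equiv (p := p) e, hp0, Subgroup.map_bot]
  · refine le_antisymm ?_ (iSup_le fun A => A.2.1)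
    show (Cfsg.thompsonSubgroup p G).map (toSemi V) ≤ _
    rw [thompsonSubgroup_eq, Subgroup.map_le_iff_le_comap, thompson_le_iff]
    intro A hA
    rw [← Subgroup.map_le_iff_le_comap]
    refine le_iSup_of_le (⟨A.map (toSemi V), ?_, isBestOffenderOn_map V hV hA⟩ :
      {A : Subgroup (QuotSemi V) // A ≤ H ∧ Cfsg.IsBestOffenderOn p (semiV V) A}) le_rfl
    show A.map (toSemi V) ≤ (Cfsg.thompsonSubgroup p G).map (toSemi V)
    rw [thompsonSubgroup_eq]
    exact Subgroup.map_mono hA.le_thompson

/-- If `J(G)` centralizes `V`, then `G = C_G(V) N_G(J(S))`. -/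
theorem centralizer_sup_normalizer_thompson (S : Sylow p G)
    (hJ : Cfsg.thompsonSubgroup p G ≤ Subgroup.centralizer (V : Set G)) :
    Subgroup.centralizer (V : Set G) ⊔
      Subgroup.normalizer (Cfsg.thompsonSubgroupOf p (S : Subgroup G) : Set G) = ⊤ := by
  haveI := (inferInstance : (Subgroup.centralizer (V : Set G)).Normal)
  rw [eq_top_iff, ← CfsgLib.Techniques.sup_normalizer_inf_eq_top S (Subgroup.centralizer (V : Set G))]
  refine sup_le le_sup_left (le_trans ?_ le_sup_right)
  obtain ⟨A₀, hA₀⟩ := exists_isMaxElemIn p (⊤ : Subgroup G)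
  have hle : thompson p (S : Subgroup G) ≤ Subgroup.centralizer (V : Set G) := by
    rw [thompson_le_iff]
    intro A hA
    refine le_trans ?_ hJ
    rw [thompsonSubgroup_eq]
    obtain ⟨T, hT⟩ := (elemAb_isPGroup hA₀.elem).exists_le_sylow
    obtain ⟨g, hg⟩ := MulAction.exists_smul_eq G T S
    have hA₁ : A₀.map (MulAut.conj g).toMonoidHom ≤ (S : Subgroup G) := by
      rw [← hg, Sylow.coe_subgroup_smul]
      exact Subgroup.map_mono hT
    refine (hA₀.of_card_le le_top hA.elem ?_).le_thompson
    have := hA.2.2 _ hA₁ (elemAb_map _ hA₀.elem)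
    rwa [Subgroup.card_map_of_injective (MulAut.conj g).injective] at this
  have he : thompson p ((S : Subgroup G) ⊓ Subgroup.centralizer (V : Set G)) =
      thompson p (S : Subgroup G) :=
    thompson_eq_of_le inf_le_left (le_inf (thompson_le _ _) hle)
  rw [thompsonSubgroupOf_eq, ← he]
  exact normalizer_le_normalizer_thompson p _

/-- If `J(G)` centralizes `⟨Ω₁(Z(S))⟩`, then `G` is Thompson factorizable. -/
theorem isThompsonFactorizable_of_le_centralizer
    (hJ : Cfsg.thompsonSubgroup p G ≤
      Subgroup.centralizer (CfsgLib.SylowFixed.sylowCenterClosure p G : Set G)) :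
    Cfsg.IsThompsonFactorizable p G := by
  intro S g
  have h := centralizer_sup_normalizer_thompson (CfsgLib.SylowFixed.sylowCenterClosure p G) S hJ
  obtain ⟨c, hc, n, hn, rfl⟩ := Subgroup.mem_sup_of_normal_left.1 (h.ge (Subgroup.mem_top g))
  refine ⟨1, one_mem _, c, ?_, n, hn, by rw [one_mul]⟩
  exact Subgroup.centralizer_le (le_iSup (fun S : Sylow p G => Cfsg.omegaOne p
    ((S : Subgroup G) ⊓ Subgroup.centralizer ((S : Subgroup G) : Set G))) S) hc

end CfsgLib.PLocal
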