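import Cfsg.Agent.Lib.PLocal5.FFStructure
import Cfsg.Agent.Lib.PLocal.FFReduce

/-!
Failure of factorization for the abelian version of the Thompson subgroup: the image of an abelian
subgroup of largest order in a group with self-centralizing `p'`-core is elementary abelian.
-/

set_option autoImplicit false
set_option linter.unusedSectionVars false
set_option linter.style.haveILetI false

open scoped commutatorElement
open Subgroup

namespace CfsgLib.FFPair

variable {G : Type*} [Group G] [Finite G] {p : ℕ} [Fact p.Prime] {V H A : Subgroup G}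

theorem sup_commutator_le (hV : Cfsg.IsElementaryAbelian p V)
    (hAV : A ≤ normalizer (V : Set G)) {X Y Z : Subgroup G} (hX : X ≤ V) (hY : Y ≤ V)
    (h1 : ⁅X, A⁆ ≤ Z) (h2 : ⁅Y, A⁆ ≤ Z) : ⁅X ⊔ Y, A⁆ ≤ Z := by
  refine commutator_le.2 fun x hx a ha => ?_
  obtain ⟨u, hu, w, hw, rfl⟩ := CfsgLib.Coprime.exists_mul_of_mem_sup
    (fun y hy => centralizer_le_normalizer _ (mem_centralizer_iff.2 fun z hz =>
      CfsgLib.Quadratic.elemAb_comm hV (hY hz) (hX hy))) hx
  rw [CfsgLib.Quadratic.commutator_mul_left hV (hX hu) (hY hw) (hAV ha)]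
  exact mul_mem (h1 (commutator_mem_commutator hu ha)) (h2 (commutator_mem_commutator hw ha))

theorem commutator_commutator_plane (hV : Cfsg.IsElementaryAbelian p V)
    (hAV : A ≤ normalizer (V : Set G)) (hAp : IsPGroup p A) {W : Subgroup G} (hWV : W ≤ V)
    (hAW : A ≤ normalizer (W : Set G)) (hW : Nat.card W ∣ p ^ 2) : ⁅⁅W, A⁆, A⁆ = ⊥ := by
  have hpow : ∀ a ∈ A, ∃ k : ℕ, a ^ p ^ k ∈ centralizer (V : Set G) := fun a ha => by
    obtain ⟨k, hk⟩ := hAp ⟨a, ha⟩
    have hk' : a ^ p ^ k = 1 := by simpa using congrArg Subtype.val hk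
    exact ⟨k, by rw [hk']; exact one_mem _⟩
  have hVp : IsPGroup p V := CfsgLib.Quadratic.isPGroup_of_elemAb hV
  have hle : ⁅W, A⁆ ≤ W := CfsgLib.Quadratic.commutator_le_self hAW
  set W₁ := ⁅W, A⁆ with hW₁
  have hle₁ : ⁅W₁, A⁆ ≤ W₁ := commutator_mono hle le_rfl
  obtain ⟨k, hk, hkc⟩ := (Nat.dvd_prime_pow Fact.out).1 hW
  obtain ⟨l, hl, hlc⟩ := (Nat.dvd_prime_pow Fact.out).1 (hkc ▸ card_dvd_of_le hle)
  obtain ⟨m, hm, hmc⟩ := (Nat.dvd_prime_pow Fact.out).1 (hlc ▸ card_dvd_of_le hle₁)
  rcases eq_or_ne ⁅W₁, A⁆ ⊥ with h | h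
  · exact h
  exfalso
  have h1 : m ≠ 0 := fun e => h (card_eq_one.1 (by rw [hmc, e, pow_zero]))
  have h2 : W₁ ≠ ⊥ := fun e => h (eq_bot_iff.2 (hle₁.trans e.le))
  have h3 : l ≠ m := fun e => h2 (CfsgLib.Offender.eq_bot_of_le_commutator hVp hAV
    (hle.trans hWV) hpow (eq_of_le_of_card_ge hle₁ (by rw [hmc, hlc, e])).ge)
  have h4 : W ≠ ⊥ := fun e => h2 (eq_bot_iff.2 (hle.trans e.le))
  have h5 : k ≠ l := fun e => h4 (CfsgLib.Offender.eq_bot_of_le_commutator hVp hAV hWV hpow
    (eq_of_le_of_card_ge hle (by rw [hlc, hkc, e])).ge)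
  omega

/-- An abelian `p`-subgroup of maximal measure in a group with self-centralizing `p'`-core is
elementary abelian. -/
theorem pow_eq_one_of_measure_max (S : Setting p V H) (hAH : A ≤ H) (hAp : IsPGroup p A)
    (hab : ∀ a ∈ A, ∀ b ∈ A, a * b = b * a)
    (hbest : ∀ B : Subgroup G, B ≤ A →
      CfsgLib.Offender.measure V B ≤ CfsgLib.Offender.measure V A) :
    ∀ a ∈ A, a ^ p = 1 := by
  have hAV : A ≤ normalizer (V : Set G) := hAH.trans S.le_normalizer
  have hA' : ⁅A, A⁆ ≤ centralizer (V : Set G) := commutator_le.2 fun a ha b hb => by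
    rw [commutatorElement_eq_one_iff_mul_comm.2 (hab a ha b hb)]
    exact one_mem _
  have hpow : ∀ a ∈ A, ∃ k : ℕ, a ^ p ^ k ∈ centralizer (V : Set G) := fun a ha => by
    obtain ⟨k, hk⟩ := hAp ⟨a, ha⟩
    have hk' : a ^ p ^ k = 1 := by simpa using congrArg Subtype.val hk
    exact ⟨k, by rw [hk']; exact one_mem _⟩
  obtain ⟨-, hm, hf⟩ := CfsgLib.Offender.replacement S.elemAb hAV hA' hbest (le_refl V)
  set B := A ⊓ centralizer ((⁅V, A⁆ : Subgroup G) : Set G) with hB
  have hBH : B ≤ H := inf_le_left.trans hAH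
  -- `B` acts quadratically, so it is elementary abelian
  have hBe : Cfsg.IsElementaryAbelian p B := by
    refine ⟨CfsgLib.PLocal.isMulCommutative_of_forall fun a ha b hb => hab a ha.1 b hb.1,
      fun b hb => ?_⟩
    have h1 : b ^ p ∈ centralizer (V : Set G) :=
      CfsgLib.Quadratic.pow_mem_centralizer S.elemAb (hAV hb.1) fun v hv =>
        (mem_centralizer_iff.1 hb.2 ⁅v, b⁆ (commutator_mem_commutator hv hb.1)).symm
    have h2 : b ^ p ∈ H ⊓ centralizer (V : Set G) := ⟨H.pow_mem (hBH hb) p, h1⟩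
    rwa [S.faithful, mem_bot] at h2
  have hBo : Cfsg.IsBestOffenderOn p V B := offender_of_measure S hBH hBe
    (le_antisymm (measure_le_card S B hBH hBe)
      ((measure_bot V).ge.trans ((hbest ⊥ bot_le).trans hm.ge)))
  obtain ⟨s, hs, hsup⟩ := exists_trans_family S B hBH hBo
  classical
  -- `A` normalizes the components and their planes
  have hAcomp : ∀ T ∈ s, A ≤ normalizer (comp p H T : Set G) := by
    intro T hT a ha
    have hTA : ∀ t ∈ T, t ∈ A := fun t ht => ((hs T hT).1 ht).1
    have haT : a ∈ normalizer (T : Set G) := centralizer_le_normalizer _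
      (mem_centralizer_iff.2 fun t ht => hab t (hTA t ht) a ha)
    refine CfsgLib.Coprime.mem_normalizer_of_forall_conj fun z hz => ?_
    have key : comp p H T ≤ (comp p H T).comap (MulAut.conj a).toMonoidHom := by
      refine sup_le (fun w hw => mem_sup_left ?_) (fun w hw => mem_sup_right ?_)
      · exact CfsgLib.Coprime.mem_normalizer_conj
          (le_normalizer_commutator (K := zpowers a)
            (zpowers_le.2 (le_normalizer_core (hAH ha))) (zpowers_le.2 haT) (mem_zpowers a)) hw
      · exact CfsgLib.Coprime.mem_normalizer_conj haT hw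
    exact key hz
  set W : Subgroup G → Subgroup G := fun T => ⁅V, comp p H T⁆ with hWdef
  have hWV : ∀ T ∈ s, W T ≤ V := fun T hT => comp_plane_le S (hs T hT).2
  have hAW : ∀ T ∈ s, A ≤ normalizer (W T : Set G) := fun T hT =>
    le_normalizer_commutator hAV (hAcomp T hT)
  have hWA : ∀ T ∈ s, ⁅⁅W T, A⁆, A⁆ = ⊥ := fun T hT =>
    commutator_commutator_plane S.elemAb hAV hAp (hWV T hT) (hAW T hT)
      (comp_natural S (hs T hT).2).1.card_plane.dvd
  set F := V ⊓ centralizer (A : Set G) with hF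
  set M := s.sup W with hM
  have hMV : M ≤ V := Finset.sup_le hWV
  have hMA : ⁅M, A⁆ ≤ F := by
    suffices h : M ≤ V ∧ ⁅M, A⁆ ≤ F from h.2
    refine Finset.sup_induction (p := fun X => X ≤ V ∧ ⁅X, A⁆ ≤ F) ?_ ?_ ?_
    · exact ⟨bot_le, commutator_le.2 fun x hx a _ => by
        rw [mem_bot.1 hx, commutatorElement_one_left]; exact one_mem _⟩
    · exact fun X hX Y hY => ⟨sup_le hX.1 hY.1, sup_commutator_le S.elemAb hAV hX.1 hY.1 hX.2 hY.2⟩
    · exact fun T hT => ⟨hWV T hT, le_inf
        ((CfsgLib.Quadratic.commutator_le_self (hAW T hT)).trans (hWV T hT))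
        (Subgroup.commutator_eq_bot_iff_le_centralizer.1 (hWA T hT))⟩
  -- the common fixed points of the components
  set E := s.sup fun T => comp p H T with hE
  set U := V ⊓ centralizer (E : Set G) with hU
  have hVle : ∀ v ∈ V, ∃ u ∈ U, v * u⁻¹ ∈ M := by
    intro v hv
    have key : ∀ t ⊆ s, ∃ u ∈ V, v * u⁻¹ ∈ M ∧
        ∀ T ∈ t, u ∈ centralizer (comp p H T : Set G) := by
      intro t
      induction t using Finset.induction_on with
      | empty => exact fun _ => ⟨v, hv, by simp, by simp⟩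
      | @insert T t hTt ih =>
        intro hts
        obtain ⟨u, hu, hvu, hut⟩ := ih fun x hx => hts (Finset.mem_insert_of_mem hx)
        have hT := hts (Finset.mem_insert_self T t)
        obtain ⟨hnat, -⟩ := comp_natural S (hs T hT).2
        have hu' : u ∈ W T ⊔ (V ⊓ centralizer (comp p H T : Set G)) := by
          rw [hWdef, hnat.sup_fixed]; exact hu
        obtain ⟨w, hw, r, hr, rfl⟩ := CfsgLib.Coprime.exists_mul_of_mem_sup
          (H := W T) (N := V ⊓ centralizer (comp p H T : Set G)) (fun y hy => centralizer_le_normalizer _ (mem_centralizer_iff.2 fun r hr =>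
            CfsgLib.Quadratic.elemAb_comm S.elemAb hr.1 (hWV T hT hy))) hu'
        refine ⟨r, hr.1, ?_, fun T' hT' => ?_⟩
        · have e : v * r⁻¹ = v * (w * r)⁻¹ * w := by
            have hc : Commute w r⁻¹ := (show Commute w r from
              CfsgLib.Quadratic.elemAb_comm S.elemAb (hWV T hT hw) hr.1).inv_right
            rw [mul_inv_rev, mul_assoc, mul_assoc, inv_mul_cancel, mul_one]
          rw [e]
          exact mul_mem hvu (Finset.le_sup (f := W) hT hw)
        · rcases Finset.mem_insert.1 hT' with rfl | hT'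
          · exact hr.2
          · rcases comp_eq_or_commute S (hs T' (hts (Finset.mem_insert_of_mem hT'))).2
              (hs T hT).2 with h | ⟨-, h, -⟩
            · rw [← h]; exact hr.2
            · have hwT : w ∈ centralizer (comp p H T' : Set G) := (h hw).2
              simpa using mul_mem (inv_mem hwT) (hut T' hT')
    obtain ⟨u, hu, hvu, hut⟩ := key s le_rfl
    refine ⟨u, ⟨hu, ?_⟩, hvu⟩
    have : E ≤ centralizer ({u} : Set G) := Finset.sup_le fun T hT e he =>
      mem_centralizer_singleton_iff.2 (mem_centralizer_iff.1 (hut T hT) e he)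
    exact mem_centralizer_iff.2 fun e he => mem_centralizer_singleton_iff.1 (this he)
  have hAE : A ≤ normalizer (E : Set G) := by
    refine le_normalizer_iff.2 fun a ha z hz => ?_
    have key : E ≤ E.comap (MulAut.conj a).toMonoidHom := Finset.sup_le fun T hT e he =>
      Finset.le_sup (f := fun T => comp p H T) hT
        (CfsgLib.Coprime.mem_normalizer_conj (hAcomp T hT ha) he)
    exact key hz
  have hAU : A ≤ normalizer (U : Set G) := le_normalizer_inf_centralizer hAV hAE
  have hBE : B ≤ E := by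
    rw [← hsup]
    exact Finset.sup_le fun T hT =>
      (le_comp (p := p) (H := H)).trans (Finset.le_sup (f := fun T => comp p H T) hT)
  have hUf : U ≤ ⁅V, A⁆ ⊔ F := by
    rw [← hf]
    exact inf_le_inf_left V (centralizer_le hBE)
  have hVA : ⁅V, A⁆ ≤ ⁅U, A⁆ ⊔ F := by
    refine commutator_le.2 fun v hv a ha => ?_
    obtain ⟨u, hu, hvu⟩ := hVle v hv
    have e : v = v * u⁻¹ * u := by group
    rw [e, CfsgLib.Quadratic.commutator_mul_left S.elemAb (hMV hvu) hu.1 (hAV ha)]
    exact mul_mem (mem_sup_right (hMA (commutator_mem_commutator hvu ha)))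
      (mem_sup_left (commutator_mem_commutator hu ha))
  have hUA : ⁅U, A⁆ = ⊥ := by
    have hUV : ⁅U, A⁆ ≤ V :=
      (CfsgLib.Quadratic.commutator_le_self hAU).trans inf_le_left
    refine CfsgLib.Offender.eq_bot_of_le_commutator (CfsgLib.Quadratic.isPGroup_of_elemAb S.elemAb)
      hAV hUV hpow ?_
    refine (commutator_mono (hUf.trans (sup_le hVA le_sup_right)) le_rfl).trans ?_
    refine sup_commutator_le S.elemAb hAV hUV inf_le_left le_rfl ?_
    refine commutator_le.2 fun x hx a ha => ?_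
    rw [commutatorElement_eq_one_iff_mul_comm.2 ((mem_centralizer_iff.1 hx.2) a ha).symm]
    exact one_mem _
  intro a ha
  have haM : M ≤ centralizer ({a ^ p} : Set G) := by
    refine Finset.sup_le fun T hT w hw => ?_
    have h1 : a ^ p ∈ centralizer (W T : Set G) :=
      CfsgLib.Quadratic.pow_mem_centralizer (CfsgLib.PLocal.elemAb_of_le S.elemAb (hWV T hT))
        (hAW T hT ha) fun w hw => CfsgLib.Quadratic.quadratic_commute (hWA T hT) hw ha ha
    exact mem_centralizer_singleton_iff.2 (mem_centralizer_iff.1 h1 w hw)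
  have h1 : a ^ p ∈ H ⊓ centralizer (V : Set G) := by
    refine ⟨H.pow_mem (hAH ha) p, mem_centralizer_iff.2 fun v hv => ?_⟩
    obtain ⟨u, hu, hvu⟩ := hVle v hv
    have h2 : Commute (v * u⁻¹) (a ^ p) := mem_centralizer_singleton_iff.1 (haM hvu)
    have h3 : Commute u (a ^ p) := ((show Commute u a from
      (mem_centralizer_iff.1 (CfsgLib.Quadratic.mem_centralizer_of_commutator_eq_bot hUA ha) u hu))).pow_right p
    have h4 := h2.mul_left h3
    rwa [inv_mul_cancel_right] at h4
  rwa [S.faithful, mem_bot] at h1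

/-- An abelian `p`-subgroup of maximal measure is a best offender. -/
theorem isBestOffenderOn_of_measure_max (S : Setting p V H) (hAH : A ≤ H) (hAp : IsPGroup p A)
    (hab : ∀ a ∈ A, ∀ b ∈ A, a * b = b * a)
    (hbest : ∀ B : Subgroup G, B ≤ A →
      CfsgLib.Offender.measure V B ≤ CfsgLib.Offender.measure V A) :
    Cfsg.IsBestOffenderOn p V A := by
  refine ⟨hbest, commutator_le.2 fun a ha b hb => ?_, fun a ha => ?_⟩
  · rw [commutatorElement_eq_one_iff_mul_comm.2 (hab a ha b hb)]
    exact one_mem _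
  · rw [pow_eq_one_of_measure_max S hAH hAp hab hbest a ha]
    exact one_mem _

end CfsgLib.FFPair
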