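import Cfsg.Agent.Lib.PLocal.OrbitFactor

/-!
The diagonal plane of an orbit of operators, and the group induced on it by the fixed points.
-/

set_option autoImplicit false
set_option linter.unusedSectionVars false

namespace CfsgLib.PLocal

universe u v

variable {G : Type u} [Group G] [Finite G] {p q : ℕ} [Fact q.Prime]
  {V C M X : Subgroup G} {ι : Type v} {F W : ι → Subgroup G}

section
variable (S : FactorSystem p V C M F W) (O : Operators q V M X F W)
include S O

theorem exists_fixed_plane [Finite ι] (i : ι) {L : Type*} [Group L]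
    (ψ : F i →* L) (hψ : Function.Surjective ψ) (hker : ψ.ker = C.subgroupOf (F i)) :
    ∃ P D : Subgroup G, P ≤ V ⊓ Subgroup.centralizer (X : Set G) ∧
      D ≤ M ⊓ Subgroup.centralizer (X : Set G) ∧ Nat.card P = p ^ 2 ∧
      D ≤ Subgroup.normalizer (P : Set G) ∧
      ∃ hn : ((Subgroup.centralizer (P : Set G)).subgroupOf D).Normal,
        Nonempty ((↥D ⧸ (Subgroup.centralizer (P : Set G)).subgroupOf D) ≃* L) := by
  classical
  haveI := Fintype.ofFinite X
  letI : CommGroup V :=
    { (inferInstance : Group V) with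
      mul_comm := fun a b => Subtype.ext (elemAb_commute S.elemAb a.2 b.2) }
  set c : ∀ g : Subgroup.normalizer (V : Set G), V →* V :=
    fun g => (V.normalizerMonoidHom g).toMonoidHom with hc
  have hcoe : ∀ (g : Subgroup.normalizer (V : Set G)) (v : V),
      ((c g v : V) : G) = (g : G) * v * (g : G)⁻¹ := fun g v => rfl
  set T : W i →* V := ∏ x : X,
    (c ⟨x, O.le_normalizer_V x.2⟩).comp (Subgroup.inclusion (S.W_le i)) with hT
  have hTw : ∀ w, T w = ∏ x : X,
      c ⟨x, O.le_normalizer_V x.2⟩ (Subgroup.inclusion (S.W_le i) w) := fun w => by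
    rw [hT, MonoidHom.finsetProd_apply]
    rfl
  have hfix : ∀ w (y : X), c ⟨y, O.le_normalizer_V y.2⟩ (T w) = T w := by
    intro w y
    rw [hTw, map_prod]
    refine Fintype.prod_equiv (Equiv.mulLeft y) _ _ fun x => Subtype.ext ?_
    rw [hcoe, hcoe, hcoe]
    simp [mul_assoc]
  have hinj : Function.Injective T := by
    rw [injective_iff_map_eq_one]
    intro w hw
    set St := (Subgroup.normalizer (W i : Set G)).subgroupOf X
    set P : X → Prop := fun x => x ∈ St
    have hsplit := Finset.prod_filter_mul_prod_filter_not (Finset.univ : Finset X) P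
      (fun x : X => c ⟨x, O.le_normalizer_V x.2⟩ (Subgroup.inclusion (S.W_le i) w))
    rw [← hTw, hw] at hsplit
    have hin : ∏ x ∈ Finset.univ.filter (fun x => P x),
        c ⟨x, O.le_normalizer_V x.2⟩ (Subgroup.inclusion (S.W_le i) w) =
          Subgroup.inclusion (S.W_le i) w ^ Nat.card St := by
      rw [Finset.prod_congr rfl (g := fun _ => Subgroup.inclusion (S.W_le i) w) fun x hx => ?_,
        Finset.prod_const, Nat.card_eq_fintype_card, Fintype.card_of_subtype]
      · intro x; simp [P]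
      · refine Subtype.ext ?_
        rw [hcoe]
        have hxs : (x : G) ∈ Subgroup.normalizer (W i : Set G) := (Finset.mem_filter.1 hx).2
        have := map_W_centralizes S O x.2 (Subgroup.mem_normalizer_iff_map_conj_eq.1 hxs)
        show (x : G) * w * (x : G)⁻¹ = w
        rw [← Subgroup.mem_centralizer_iff.1 this w w.2, mul_inv_cancel_right]
    have hout : ∏ x ∈ Finset.univ.filter (fun x => ¬ P x),
        c ⟨x, O.le_normalizer_V x.2⟩ (Subgroup.inclusion (S.W_le i) w) ∈
          (⨆ (j) (_ : j ≠ i), W j).subgroupOf V := by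
      refine Subgroup.prod_mem _ fun x hx => ?_
      obtain ⟨j, hj, -⟩ := O.permutes x x.2 i
      refine Subgroup.mem_iSup_of_mem j (Subgroup.mem_iSup_of_mem (fun h => ?_)
        (conj_mem_of_map hj w.2))
      rw [h] at hj
      exact (Finset.mem_filter.1 hx).2 (mem_normalizer_of_map hj)
    rw [hin] at hsplit
    have hWi : (w : G) ^ Nat.card St ∈ W i ⊓ ⨆ (j) (_ : j ≠ i), W j := by
      refine ⟨(W i).pow_mem w.2 _, ?_⟩
      have h1 := Subgroup.inv_mem _ hout
      rw [← eq_inv_of_mul_eq_one_left hsplit, Subgroup.mem_subgroupOf] at h1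
      simpa using h1
    rw [(S.indep i).eq_bot, Subgroup.mem_bot] at hWi
    have hp : p.Prime := by rcases S.prime with rfl | rfl <;> norm_num
    have hcop : Nat.Coprime p (Nat.card St) := by
      obtain ⟨k, hk⟩ := (IsPGroup.iff_card (p := q)).1
        ((elemAb_isPGroup O.elemAb).to_subgroup St)
      rw [hk]
      refine (Nat.Prime.coprime_iff_not_dvd hp).2 fun h => ?_
      have := (Nat.prime_dvd_prime_iff_eq hp (Fact.out : q.Prime)).1 (hp.dvd_of_dvd_pow h)
      have := O.five_le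
      rcases S.prime with h | h <;> omega
    refine Subtype.ext ?_
    have := pow_gcd_eq_one.2 ⟨S.elemAb.2 _ (S.W_le i w.2), hWi⟩
    rwa [hcop.gcd_eq_one, pow_one] at this
  set P := T.range.map V.subtype with hP
  have hPV : P ≤ V ⊓ Subgroup.centralizer (X : Set G) := by
    rintro _ ⟨_, ⟨w, rfl⟩, rfl⟩
    refine ⟨(T w).2, Subgroup.mem_centralizer_iff.2 fun y hy => ?_⟩
    have := congrArg Subtype.val (hfix w ⟨y, hy⟩)
    rw [hcoe] at this
    exact mul_inv_eq_iff_eq_mul.1 this
  set D := M ⊓ Subgroup.centralizer (X : Set G) with hD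
  have hDN : ∀ d ∈ D, d ∈ Subgroup.normalizer (V : Set G) := fun d hd => S.le_normalizer_V hd.1
  have heq : ∀ (d : G) (hd : d ∈ D) (w : W i), d * (T w : G) * d⁻¹ =
      (T ⟨d * w * d⁻¹, CfsgLib.Coprime.mem_normalizer_conj (S.le_normalizer_W i hd.1) w.2⟩ : G) := by
    intro d hd w
    have h := congrArg (c ⟨d, hDN d hd⟩) (hTw w)
    rw [map_prod] at h
    rw [← hcoe ⟨d, hDN d hd⟩, h, hTw]
    refine congrArg Subtype.val (Finset.prod_congr rfl fun x _ => Subtype.ext ?_)
    rw [hcoe, hcoe, hcoe]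
    have hdx : d * (x : G) = x * d := (Subgroup.mem_centralizer_iff.1 hd.2 x x.2).symm
    show d * ((x : G) * w * (x : G)⁻¹) * d⁻¹ = x * (d * w * d⁻¹) * (x : G)⁻¹
    have hdx' : (x : G)⁻¹ * d⁻¹ = d⁻¹ * (x : G)⁻¹ := by rw [← mul_inv_rev, ← mul_inv_rev, hdx]
    calc d * ((x : G) * w * (x : G)⁻¹) * d⁻¹ = (d * x) * w * ((x : G)⁻¹ * d⁻¹) := by group
      _ = (x * d) * w * (d⁻¹ * (x : G)⁻¹) := by rw [hdx, hdx']
      _ = _ := by group
  have hPn : D ≤ Subgroup.normalizer (P : Set G) := by
    refine Subgroup.le_normalizer_iff.2 ?_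
    rintro d hd _ ⟨_, ⟨w, rfl⟩, rfl⟩
    exact ⟨_, ⟨_, rfl⟩, (heq d hd w).symm⟩
  have hcard : Nat.card P = p ^ 2 := by
    rw [hP, Subgroup.card_map_of_injective V.subtype_injective,
      ← Nat.card_congr (MonoidHom.ofInjective hinj).toEquiv, S.card_W i]
  refine ⟨P, D, hPV, le_rfl, hcard, hPn, ?_⟩
  set Φ : D →* MulAut (W i) :=
    (W i).normalizerMonoidHom.comp (Subgroup.inclusion (inf_le_left.trans (S.le_normalizer_W i)))
    with hΦ
  set Ψ : F i →* MulAut (W i) :=
    (W i).normalizerMonoidHom.comp (Subgroup.inclusion ((S.F_le i).trans (S.le_normalizer_W i)))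
    with hΨ
  have hΦker : Φ.ker = (Subgroup.centralizer (W i : Set G)).subgroupOf D := by
    rw [hΦ, ← MonoidHom.comap_ker, Subgroup.normalizerMonoidHom_ker]
    rfl
  have hΨker : Ψ.ker = C.subgroupOf (F i) := by
    rw [hΨ, ← MonoidHom.comap_ker, Subgroup.normalizerMonoidHom_ker]
    ext x
    exact ⟨fun h => S.faithful i ⟨x.2, h⟩,
      fun h => Subgroup.centralizer_le (S.W_le i) (S.C_eq.le h).2⟩
  have hcen : (Subgroup.centralizer (P : Set G)).subgroupOf D =
      (Subgroup.centralizer (W i : Set G)).subgroupOf D := by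
    ext d
    rw [Subgroup.mem_subgroupOf, Subgroup.mem_subgroupOf, Subgroup.mem_centralizer_iff,
      Subgroup.mem_centralizer_iff]
    constructor
    · intro h w hw
      have h1 := h _ ⟨_, ⟨⟨w, hw⟩, rfl⟩, rfl⟩
      have h2 := heq d d.2 ⟨w, hw⟩
      rw [mul_inv_eq_iff_eq_mul.2 (show (d : G) * (T ⟨w, hw⟩ : G) = (T ⟨w, hw⟩ : G) * d from h1.symm)] at h2
      have h3 := congrArg Subtype.val (hinj (Subtype.ext h2))
      exact (mul_inv_eq_iff_eq_mul.1 h3.symm).symm
    · rintro h _ ⟨_, ⟨w, rfl⟩, rfl⟩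
      have h2 := heq d d.2 w
      have : (⟨(d : G) * w * (d : G)⁻¹,
          CfsgLib.Coprime.mem_normalizer_conj (S.le_normalizer_W i d.2.1) w.2⟩ : W i) = w :=
        Subtype.ext (by
          show (d : G) * w * (d : G)⁻¹ = w
          rw [← h w w.2, mul_inv_cancel_right])
      rw [this] at h2
      exact (mul_inv_eq_iff_eq_mul.1 h2).symm
  have hrange : Φ.range = Ψ.range := by
    refine le_antisymm ?_ ?_
    · rintro _ ⟨d, rfl⟩
      obtain ⟨f, hf, hfd⟩ := S.exists_same i d.2.1
      refine ⟨⟨f, hf⟩, MulEquiv.ext fun w => Subtype.ext ?_⟩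
      show f * w * f⁻¹ = (d : G) * w * (d : G)⁻¹
      have h := Subgroup.mem_centralizer_iff.1 hfd w w.2
      calc f * w * f⁻¹ = f * (w * (f⁻¹ * d)) * (f⁻¹ * d)⁻¹ * f⁻¹ := by group
        _ = f * ((f⁻¹ * d) * w) * (f⁻¹ * d)⁻¹ * f⁻¹ := by rw [h]
        _ = _ := by group
    · rintro _ ⟨f, rfl⟩
      obtain ⟨d, hd, hfd⟩ := exists_fixed_same S O f.2
      refine ⟨⟨d, hd⟩, MulEquiv.ext fun w => Subtype.ext ?_⟩
      show d * w * d⁻¹ = (f : G) * w * (f : G)⁻¹
      have h := Subgroup.mem_centralizer_iff.1 hfd w w.2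
      calc d * w * d⁻¹ = (f : G) * (((f : G)⁻¹ * d) * w) * d⁻¹ := by group
        _ = (f : G) * (w * ((f : G)⁻¹ * d)) * d⁻¹ := by rw [h]
        _ = _ := by group
  haveI hn : ((Subgroup.centralizer (P : Set G)).subgroupOf D).Normal := by
    rw [hcen, ← hΦker]; exact Φ.normal_ker
  exact ⟨hn, ⟨(QuotientGroup.quotientMulEquivOfEq (hcen.trans hΦker.symm)).trans
    ((QuotientGroup.quotientKerEquivRange Φ).trans ((MulEquiv.subgroupCongr hrange).trans
      ((QuotientGroup.quotientKerEquivRange Ψ).symm.trans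
        ((QuotientGroup.quotientMulEquivOfEq (hΨker.trans hker.symm)).trans
          (QuotientGroup.quotientKerEquivOfSurjective ψ hψ)))))⟩⟩

end

end CfsgLib.PLocal
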