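import Cfsg.Agent.Lib.PLocal.FFSystem
import Cfsg.Agent.Lib.PLocal.OrbitPlane

/-!
Failure of factorization under a coprime group of operators.
-/

set_option autoImplicit false
set_option linter.unusedSectionVars false

namespace CfsgLib.PLocal

universe u

variable {G : Type u} [Group G] [Finite G] {p : ℕ} [hp : Fact p.Prime]

theorem thompson_sylow_le (S : Sylow p G) :
    thompson p (S : Subgroup G) ≤ Cfsg.thompsonSubgroup p G := by
  obtain ⟨A₀, hA₀⟩ := exists_isMaxElemIn p (⊤ : Subgroup G)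
  rw [thompson_le_iff, thompsonSubgroup_eq]
  intro A hA
  obtain ⟨T, hT⟩ := (elemAb_isPGroup hA₀.elem).exists_le_sylow
  obtain ⟨g, hg⟩ := MulAction.exists_smul_eq G T S
  have hA₁ : A₀.map (MulAut.conj g).toMonoidHom ≤ (S : Subgroup G) := by
    rw [← hg, Sylow.coe_subgroup_smul]
    exact Subgroup.map_mono hT
  refine (hA₀.of_card_le le_top hA.elem ?_).le_thompson
  have := hA.2.2 _ hA₁ (elemAb_map _ hA₀.elem)
  rwa [Subgroup.card_map_of_injective (MulAut.conj g).injective] at this

theorem map_sylowCenterClosure {H : Type*} [Group H] [Finite H] (e : G ≃* H) :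
    (CfsgLib.SylowFixed.sylowCenterClosure p G).map e.toMonoidHom ≤
      CfsgLib.SylowFixed.sylowCenterClosure p H := by
  rw [CfsgLib.SylowFixed.sylowCenterClosure, Subgroup.map_iSup]
  refine iSup_le fun S => ?_
  rw [← omegaOne_map (f := e.toMonoidHom) e.injective, CfsgLib.SylowFixed.map_inf_centralizer]
  refine le_iSup_of_le (S.mapSurjective (f := e.toMonoidHom) e.surjective) (le_of_eq ?_)
  rfl

theorem map_thompsonSubgroup_le (e : G ≃* G) :
    (Cfsg.thompsonSubgroup p G).map e.toMonoidHom ≤ Cfsg.thompsonSubgroup p G := by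
  rw [thompsonSubgroup_eq, ← thompson_map (f := e.toMonoidHom) e.injective,
    Subgroup.map_top_of_surjective _ e.surjective]

theorem dvd_card_of_pow {L : Type*} [Group L] {n : ℕ} (hn : n.Prime) (x : L) (h1 : x ^ n = 1)
    (h2 : x ≠ 1) : n ∣ Nat.card L := by
  haveI := Fact.mk hn
  exact (orderOf_eq_prime h1 h2) ▸ orderOf_dvd_natCard x

omit hp in
/-- `2` and `3` divide the order of `SL(2, p)` for `p ≤ 3`. -/
theorem dvd_card_sl2 (h : p = 2 ∨ p = 3) :
    2 ∣ Nat.card (Matrix.SpecialLinearGroup (Fin 2) (ZMod p)) ∧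
      3 ∣ Nat.card (Matrix.SpecialLinearGroup (Fin 2) (ZMod p)) := by
  rcases h with rfl | rfl
  · exact ⟨dvd_card_of_pow Nat.prime_two ⟨!![1, 1; 0, 1], by decide⟩ (by decide) (fun h => absurd (congrArg Subtype.val h) (by decide)),
      dvd_card_of_pow Nat.prime_three ⟨!![0, 1; 1, 1], by decide⟩ (by decide) (fun h => absurd (congrArg Subtype.val h) (by decide))⟩
  · exact ⟨dvd_card_of_pow Nat.prime_two ⟨!![-1, 0; 0, -1], by decide⟩ (by decide) (fun h => absurd (congrArg Subtype.val h) (by decide)),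
      dvd_card_of_pow Nat.prime_three ⟨!![1, 1; 0, 1], by decide⟩ (by decide) (fun h => absurd (congrArg Subtype.val h) (by decide))⟩

/-- A normal subgroup of `SL(2, p)` of index prime to `p` is everything. -/
theorem sl2_normal_eq_top (N : Subgroup (Matrix.SpecialLinearGroup (Fin 2) (ZMod p))) [N.Normal]
    (h : ¬ p ∣ N.index) : N = ⊤ := by
  refine Cfsg.Agent.Classical.sl_subgroup_eq_top_of_transvection_mem N fun i j hij c => ?_
  have hpow : ∀ n : ℕ, Matrix.SpecialLinearGroup.transvection hij c ^ n =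
      Matrix.SpecialLinearGroup.transvection hij (n * c) := by
    intro n
    induction n with
    | zero =>
      refine Subtype.ext ?_
      simp [Matrix.SpecialLinearGroup.transvection_coe]
    | succ n ih =>
      rw [pow_succ, ih, ← Matrix.SpecialLinearGroup.transvection_add]
      congr 1; push_cast; ring
  have hp1 : Matrix.SpecialLinearGroup.transvection hij c ^ p = 1 := by
    rw [hpow, ZMod.natCast_self, zero_mul]
    exact Subtype.ext (by simp [Matrix.SpecialLinearGroup.transvection_coe])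
  rw [← QuotientGroup.eq_one_iff, ← orderOf_eq_one_iff]
  refine Nat.eq_one_of_dvd_coprimes ((Nat.Prime.coprime_iff_not_dvd hp.out).2 h)
    (orderOf_dvd_of_pow_eq_one ?_) (Subgroup.index_eq_card N ▸ orderOf_dvd_natCard _)
  rw [← QuotientGroup.mk_pow, hp1, QuotientGroup.mk_one]

/-- A group mapped onto `SL(2, p)` is generated by the conjugates of a subgroup of index prime
to `p` and the kernel. -/
theorem le_closure_conj {F C U : Subgroup G} (hU : ¬ p ∣ U.relIndex F) (ψ : F →* Matrix.SpecialLinearGroup (Fin 2) (ZMod p))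
    (hψ : Function.Surjective ψ) (hker : ψ.ker = C.subgroupOf F) :
    F ≤ Subgroup.closure ({y | ∃ f ∈ F, ∃ u ∈ (U : Set G), y = f * u * f⁻¹} ∪ C) := by
  set N := Subgroup.closure ({y | ∃ f ∈ F, ∃ u ∈ (U : Set G), y = f * u * f⁻¹} ∪ C) with hN
  set N₀ := Subgroup.normalClosure ((U.subgroupOf F : Subgroup F) : Set F)
  have hle : N₀ ≤ N.subgroupOf F := by
    refine (Subgroup.closure_le _).2 fun x hx => ?_
    obtain ⟨u, hu, huc⟩ := Group.mem_conjugatesOfSet_iff.1 hx
    obtain ⟨f, rfl⟩ := isConj_iff.1 huc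
    exact Subgroup.subset_closure (Or.inl ⟨f, f.2, u, hu, rfl⟩)
  haveI : (N₀.map ψ).Normal := Subgroup.normalClosure_normal.map ψ hψ
  have hindex : ¬ p ∣ (N₀.map ψ).index := fun hd => hU <|
    hd.trans ((Subgroup.index_map_dvd N₀ hψ).trans (Subgroup.index_dvd_of_le
      (Subgroup.subset_normalClosure : (U.subgroupOf F : Set F) ⊆ N₀)))
  intro f hf
  obtain ⟨n, hn, hnf⟩ : ψ ⟨f, hf⟩ ∈ N₀.map ψ := (sl2_normal_eq_top _ hindex).ge (Subgroup.mem_top _)
  have hk : n⁻¹ * ⟨f, hf⟩ ∈ ψ.ker := by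
    rw [MonoidHom.mem_ker, map_mul, map_inv, hnf, inv_mul_cancel]
  rw [hker] at hk
  have h2 := N.mul_mem (hle hn) (Subgroup.subset_closure (Or.inr hk))
  simpa using h2

/-- Sylow subgroups meet a subnormal subgroup of depth two in Sylow subgroups. -/
theorem not_dvd_relIndex_inf_subnormal (S : Sylow p G) {M F : Subgroup G} [M.Normal] (hFM : F ≤ M)
    (hn : M ≤ Subgroup.normalizer (F : Set G)) :
    ¬ p ∣ ((S : Subgroup G) ⊓ F).relIndex F := by
  haveI : (F.subgroupOf M).Normal := Subgroup.normal_subgroupOf_iff_le_normalizer hFM |>.2 hn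
  have hP : IsPGroup p ((S : Subgroup G).subgroupOf M) :=
    S.isPGroup'.comap_of_injective M.subtype M.subtype_injective
  have hidx : ¬ p ∣ ((S : Subgroup G).subgroupOf M).index := by
    show ¬ p ∣ (S : Subgroup G).relIndex M
    have := CfsgLib.Techniques.not_dvd_relIndex_inf_normal S M
    rwa [Subgroup.inf_relIndex_right] at this
  have h := CfsgLib.Techniques.not_dvd_relIndex_inf_normal (hP.toSylow hidx) (F.subgroupOf M)
  rw [IsPGroup.toSylow_coe, Subgroup.inf_relIndex_right, Subgroup.relIndex_subgroupOf hFM] at h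
  rwa [Subgroup.inf_relIndex_right]

variable {q : ℕ} [Fact q.Prime]

/-- Conjugation preserves the images of characteristic subgroups of `K`. -/
theorem mem_normalizer_map_subtype {K : Subgroup G} {U : Subgroup K}
    (hU : ∀ e : K ≃* K, U.map e.toMonoidHom ≤ U) {x : G}
    (hx : x ∈ Subgroup.normalizer (K : Set G)) :
    x ∈ Subgroup.normalizer (U.map K.subtype : Set G) := by
  rw [Subgroup.mem_normalizer_iff_map_conj_eq]
  refine Subgroup.eq_of_le_of_card_ge ?_ (Subgroup.card_map_of_injective (MulAut.conj x).injective).ge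
  rintro _ ⟨_, ⟨u, hu, rfl⟩, rfl⟩
  exact ⟨K.normalizerMonoidHom ⟨x, hx⟩ u, hU _ ⟨u, hu, rfl⟩, rfl⟩

/-- The data of failure of factorization with operators. -/
theorem exists_operators (K X : Subgroup G) (hXK : X ≤ Subgroup.normalizer (K : Set G))
    (hX : Cfsg.IsElementaryAbelian q X) (hq : ¬ q ∣ Nat.card K) (hsep : Cfsg.IsPSolvable p K)
    (hO : Cfsg.pPrimeCore p K = ⊥) (hnf : ¬ Cfsg.IsThompsonFactorizable p K) :
    let V := CfsgLib.SylowFixed.sylowCenterClosure p K
    let C := Subgroup.centralizer (V : Set K)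
    let M := Cfsg.thompsonSubgroup p K ⊔ C
    ∃ (ι : Type u) (_ : Finite ι) (_ : Nonempty ι) (F W : ι → Subgroup K),
      TransFactorSystem p V C M F W ∧
      FactorSystem p (V.map K.subtype) (C.map K.subtype) (M.map K.subtype)
        (fun i => (F i).map K.subtype) (fun i => (W i).map K.subtype) ∧
      Operators q (V.map K.subtype) (M.map K.subtype) X
        (fun i => (F i).map K.subtype) (fun i => (W i).map K.subtype) ∧
      (∀ i, ∃ ψ : ((F i).map K.subtype : Subgroup G) →* Matrix.SpecialLinearGroup (Fin 2) (ZMod p),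
        Function.Surjective ψ ∧
          ψ.ker = (C.map K.subtype).subgroupOf ((F i).map K.subtype)) := by
  intro V C M
  obtain ⟨ι, hfin, hne, F, W, hS, hψ⟩ := exists_ff_system hsep hO hnf
  haveI := hfin
  obtain ⟨i₀⟩ := hne
  obtain ⟨ψ₀, hψ₀, -⟩ := hψ i₀
  have hdiv : Nat.card (Matrix.SpecialLinearGroup (Fin 2) (ZMod p)) ∣ Nat.card K :=
    (Subgroup.card_dvd_of_surjective ψ₀ hψ₀).trans (Subgroup.card_subgroup_dvd_card _)
  have h5 : 5 ≤ q := by
    have hqp : q.Prime := Fact.out
    have h2 : q ≠ 2 := fun h => hq (h ▸ (dvd_card_sl2 hS.prime).1.trans hdiv)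
    have h3 : q ≠ 3 := fun h => hq (h ▸ (dvd_card_sl2 hS.prime).2.trans hdiv)
    have h4 : q ≠ 4 := fun h => by rw [h] at hqp; norm_num at hqp
    have := hqp.two_le
    omega
  have hS' := hS.map K.subtype_injective
  have hV : ∀ e : K ≃* K, V.map e.toMonoidHom ≤ V := map_sylowCenterClosure
  have hC : ∀ e : K ≃* K, C.map e.toMonoidHom ≤ C := fun e => by
    rintro _ ⟨c, hc, rfl⟩
    rw [Subgroup.mem_centralizer_iff]
    intro v hv
    have hv' : e.symm v ∈ V := hV e.symm ⟨v, hv, rfl⟩
    apply e.symm.injective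
    simpa using Subgroup.mem_centralizer_iff.1 hc _ hv'
  have hM : ∀ e : K ≃* K, M.map e.toMonoidHom ≤ M := fun e => by
    show (Cfsg.thompsonSubgroup p K ⊔ C).map _ ≤ _
    rw [Subgroup.map_sup]
    exact sup_le_sup (map_thompsonSubgroup_le e) (hC e)
  have hcop : (Nat.card X).Coprime (Nat.card (M.map K.subtype : Subgroup G)) := by
    obtain ⟨k, hk⟩ := (IsPGroup.iff_card (p := q)).1 (elemAb_isPGroup hX)
    rw [hk]
    refine Nat.Coprime.pow_left _ ((Nat.Prime.coprime_iff_not_dvd Fact.out).2 fun h => hq ?_)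
    exact h.trans (Subgroup.card_dvd_of_le (Subgroup.map_subtype_le _))
  refine ⟨ι, hfin, ⟨i₀⟩, F, W, hS, hS'.toFactorSystem,
    hS'.operators h5 hX (fun x hx => mem_normalizer_map_subtype hV (hXK hx))
      (fun x hx => mem_normalizer_map_subtype hM (hXK hx)) hcop, fun i => ?_⟩
  obtain ⟨ψ, hsur, hker⟩ := hψ i
  refine ⟨ψ.comp ((F i).equivMapOfInjective K.subtype K.subtype_injective).symm.toMonoidHom,
    hsur.comp (MulEquiv.surjective _), ?_⟩
  ext y
  obtain ⟨x, rfl⟩ := ((F i).equivMapOfInjective K.subtype K.subtype_injective).surjective y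
  rw [MonoidHom.mem_ker, MonoidHom.comp_apply, MulEquiv.coe_toMonoidHom, MulEquiv.symm_apply_apply,
    ← MonoidHom.mem_ker, hker, Subgroup.mem_subgroupOf, Subgroup.mem_subgroupOf,
    Subgroup.coe_equivMapOfInjective_apply, Subgroup.mem_map_iff_mem K.subtype_injective]

end CfsgLib.PLocal
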