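import Cfsg.Agent.Lib.PLocal.OrbitFactor

/-!
Automorphisms fixing `V` and `M` permute the factors, and transport of a factor system.
-/

set_option autoImplicit false
set_option linter.unusedSectionVars false

namespace CfsgLib.PLocal

universe u v

variable {G : Type u} [Group G] [Finite G] {p : ℕ}

/-- A factor system whose factors are transitive on their planes. -/
structure TransFactorSystem (p : ℕ) (V C M : Subgroup G) {ι : Type v} (F W : ι → Subgroup G) : Prop
    extends FactorSystem p V C M F W where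
  transitive : ∀ i, ∀ s ∈ W i, ∀ t ∈ W i, s ≠ 1 → t ≠ 1 → ∃ f ∈ F i, f * s * f⁻¹ = t
  moves : ∀ i, ∀ f ∈ F i, ∀ v ∈ V, f * v * f⁻¹ * v⁻¹ ∈ W i

variable {V C M : Subgroup G} {ι : Type v} {F W : ι → Subgroup G}

theorem TransFactorSystem.exists_move (S : TransFactorSystem p V C M F W) (i : ι) :
    ∃ w ∈ W i, ∃ f ∈ F i, f * w * f⁻¹ ≠ w := by
  have hc : 2 < Nat.card (W i) := by
    rw [S.card_W i]; rcases S.prime with rfl | rfl <;> norm_num
  haveI := Fintype.ofFinite (W i)
  rw [Nat.card_eq_fintype_card, Fintype.two_lt_card_iff] at hc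
  obtain ⟨a, b, c, hab, hac, hbc⟩ := hc
  obtain ⟨s, t, hs, ht, hst⟩ : ∃ s t : W i, s ≠ 1 ∧ t ≠ 1 ∧ s ≠ t := by
    by_cases ha : a = 1
    · exact ⟨b, c, fun h => hab (ha.trans h.symm), fun h => hac (ha.trans h.symm), hbc⟩
    · by_cases hb : b = 1
      · exact ⟨a, c, ha, fun h => hbc (hb.trans h.symm), hac⟩
      · exact ⟨a, b, ha, hb, hab⟩
  obtain ⟨f, hf, he⟩ := S.transitive i s s.2 t t.2 (fun h => hs (Subtype.ext h))
    (fun h => ht (Subtype.ext h))
  exact ⟨s, s.2, f, hf, fun h => hst (Subtype.ext (h.symm.trans he))⟩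

theorem TransFactorSystem.exists_map_W (S : TransFactorSystem p V C M F W) {x : G}
    (hxV : x ∈ Subgroup.normalizer (V : Set G)) (hxM : x ∈ Subgroup.normalizer (M : Set G)) (i : ι) :
    ∃ j, (W i).map (cj x) = W j := by
  set U := (W i).map (cj x) with hU
  have hUV : U ≤ V := by
    rintro _ ⟨w, hw, rfl⟩
    exact CfsgLib.Coprime.mem_normalizer_conj hxV (S.W_le i hw)
  have hM : M ≤ Subgroup.normalizer (U : Set G) := by
    refine Subgroup.le_normalizer_iff.2 ?_
    rintro m hm _ ⟨w, hw, rfl⟩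
    have hm' : x⁻¹ * m * x⁻¹⁻¹ ∈ M := CfsgLib.Coprime.mem_normalizer_conj
      ((Subgroup.normalizer (M : Set G)).inv_mem hxM) hm
    refine ⟨_, CfsgLib.Coprime.mem_normalizer_conj (S.le_normalizer_W i hm') hw, ?_⟩
    simp [cj, mul_assoc]
  obtain ⟨j, hj⟩ : ∃ j, ¬ F j ≤ Subgroup.centralizer (U : Set G) := by
    by_contra hcon
    push Not at hcon
    obtain ⟨w, hw, f, hf, hne⟩ := S.exists_move i
    have hfU := (S.M_le.trans (iSup_le hcon)) (CfsgLib.Coprime.mem_normalizer_conj hxM (S.F_le i hf))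
    have h := Subgroup.mem_centralizer_iff.1 hfU (x * w * x⁻¹) ⟨w, hw, rfl⟩
    apply hne
    rw [mul_inv_eq_iff_eq_mul]
    refine mul_left_cancel (a := x) (mul_right_cancel (b := x⁻¹) ?_)
    simpa [mul_assoc] using h.symm
  obtain ⟨f, hf, hfU⟩ := SetLike.not_le_iff_exists.1 hj
  rw [Subgroup.mem_centralizer_iff] at hfU
  push Not at hfU
  obtain ⟨u, hu, hne⟩ := hfU
  set s := f * u * f⁻¹ * u⁻¹ with hs
  have hsU : s ∈ U :=
    U.mul_mem (CfsgLib.Coprime.mem_normalizer_conj (hM (S.F_le j hf)) hu) (U.inv_mem hu)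
  have hsW : s ∈ W j := S.moves j f hf u (hUV hu)
  have hs1 : s ≠ 1 := fun h => hne (mul_inv_eq_iff_eq_mul.1 (mul_inv_eq_one.1 h)).symm
  refine ⟨j, (Subgroup.eq_of_le_of_card_ge (fun t ht => ?_) ?_).symm⟩
  · rcases eq_or_ne t 1 with rfl | ht1
    · exact U.one_mem
    obtain ⟨g, hg, he⟩ := S.transitive j s hsW t ht hs1 ht1
    rw [← he]
    exact CfsgLib.Coprime.mem_normalizer_conj (hM (S.F_le j hg)) hsU
  · rw [hU, Subgroup.card_map_of_injective (MulAut.conj x).injective, S.card_W i, S.card_W j]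

theorem TransFactorSystem.map_F_le (S : TransFactorSystem p V C M F W) {x : G}
    (hxV : x ∈ Subgroup.normalizer (V : Set G)) (hxM : x ∈ Subgroup.normalizer (M : Set G)) {i j : ι}
    (h : (W i).map (cj x) = W j) : (F i).map (cj x) ≤ F j := by
  rintro _ ⟨f, hf, rfl⟩
  show x * f * x⁻¹ ∈ F j
  have hgM : x * f * x⁻¹ ∈ M := CfsgLib.Coprime.mem_normalizer_conj hxM (S.F_le i hf)
  obtain ⟨f', hf', hsame⟩ := S.toFactorSystem.exists_same j hgM
  have hC : f'⁻¹ * (x * f * x⁻¹) ∈ C := by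
    refine S.toFactorSystem.mem_C (M.mul_mem (M.inv_mem (S.F_le j hf')) hgM) fun l => ?_
    rcases eq_or_ne l j with rfl | hne
    · exact hsame
    refine Subgroup.mul_mem _ (Subgroup.inv_mem _ (S.centralizes j l (Ne.symm hne) hf')) ?_
    obtain ⟨k, hk⟩ := S.exists_map_W ((Subgroup.normalizer (V : Set G)).inv_mem hxV)
      ((Subgroup.normalizer (M : Set G)).inv_mem hxM) l
    have hkl : (W k).map (cj x) = W l := by
      rw [← hk, Subgroup.map_map]
      have e : (cj x).comp (cj x⁻¹) = MonoidHom.id G := by ext y; simp [cj]; group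
      rw [e, Subgroup.map_id]
    have hik : i ≠ k := by
      rintro rfl
      exact hne (S.toFactorSystem.W_injective (hkl.symm.trans h))
    exact conj_mem_centralizer' hkl (S.centralizes i k hik hf)
  have := (F j).mul_mem hf' (S.C_le j hC)
  rwa [mul_inv_cancel_left] at this

/-- A group normalizing `V` and `M` permutes the factors. -/
theorem TransFactorSystem.operators {q : ℕ} (S : TransFactorSystem p V C M F W) {X : Subgroup G}
    (h5 : 5 ≤ q) (hX : Cfsg.IsElementaryAbelian q X)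
    (hXV : X ≤ Subgroup.normalizer (V : Set G)) (hXM : X ≤ Subgroup.normalizer (M : Set G))
    (hcop : (Nat.card X).Coprime (Nat.card M)) : Operators q V M X F W := by
  refine ⟨h5, hX, hXV, hXM, hcop, fun x hx i => ?_⟩
  obtain ⟨j, hj⟩ := S.exists_map_W (hXV hx) (hXM hx) i
  refine ⟨j, hj, le_antisymm (S.map_F_le (hXV hx) (hXM hx) hj) ?_⟩
  have hj' : (W j).map (cj x⁻¹) = W i := by
    rw [← hj, Subgroup.map_map]
    have e : (cj x⁻¹).comp (cj x) = MonoidHom.id G := by ext y; simp [cj]; group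
    rw [e, Subgroup.map_id]
  intro g hg
  refine ⟨x⁻¹ * g * x⁻¹⁻¹,
    S.map_F_le (hXV (X.inv_mem hx)) (hXM (X.inv_mem hx)) hj' ⟨g, hg, rfl⟩, ?_⟩
  simp [cj, mul_assoc]

theorem map_inf_centralizer_map {L : Type*} [Group L] {f : L →* G} (hf : Function.Injective f)
    (A B : Subgroup L) :
    A.map f ⊓ Subgroup.centralizer (B.map f : Set G) =
      (A ⊓ Subgroup.centralizer (B : Set L)).map f := by
  ext x
  constructor
  · rintro ⟨⟨a, ha, rfl⟩, hc⟩
    refine ⟨a, ⟨ha, Subgroup.mem_centralizer_iff.2 fun b hb => hf ?_⟩, rfl⟩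
    rw [map_mul, map_mul]
    exact Subgroup.mem_centralizer_iff.1 hc _ ⟨b, hb, rfl⟩
  · rintro ⟨a, ⟨ha, hc⟩, rfl⟩
    refine ⟨⟨a, ha, rfl⟩, Subgroup.mem_centralizer_iff.2 ?_⟩
    rintro _ ⟨b, hb, rfl⟩
    rw [← map_mul, ← map_mul, Subgroup.mem_centralizer_iff.1 hc b hb]

theorem map_le_centralizer_map {L : Type*} [Group L] (f : L →* G) {A B : Subgroup L}
    (h : A ≤ Subgroup.centralizer (B : Set L)) :
    A.map f ≤ Subgroup.centralizer (B.map f : Set G) := by
  rintro _ ⟨a, ha, rfl⟩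
  rw [Subgroup.mem_centralizer_iff]
  rintro _ ⟨b, hb, rfl⟩
  rw [← map_mul, ← map_mul, Subgroup.mem_centralizer_iff.1 (h ha) b hb]

theorem map_le_normalizer_map {L : Type*} [Group L] (f : L →* G) {A B : Subgroup L}
    (h : A ≤ Subgroup.normalizer (B : Set L)) :
    A.map f ≤ Subgroup.normalizer (B.map f : Set G) :=
  (Subgroup.map_mono h).trans (Subgroup.le_normalizer_map f)

/-- Transport along an injective homomorphism. -/
theorem TransFactorSystem.map {L : Type*} [Group L] [Finite L] {f : L →* G}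
    (hf : Function.Injective f) {V C M : Subgroup L} {F W : ι → Subgroup L}
    (S : TransFactorSystem p V C M F W) :
    TransFactorSystem p (V.map f) (C.map f) (M.map f) (fun i => (F i).map f)
      (fun i => (W i).map f) where
  prime := S.prime
  elemAb := elemAb_map f S.elemAb
  le_normalizer_V := map_le_normalizer_map f S.le_normalizer_V
  C_eq := by rw [map_inf_centralizer_map hf, ← S.C_eq]
  F_le i := Subgroup.map_mono (S.F_le i)
  C_le i := Subgroup.map_mono (S.C_le i)
  W_le i := Subgroup.map_mono (S.W_le i)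
  card_W i := by rw [Subgroup.card_map_of_injective hf, S.card_W i]
  le_normalizer_F i := map_le_normalizer_map f (S.le_normalizer_F i)
  le_normalizer_W i := map_le_normalizer_map f (S.le_normalizer_W i)
  faithful i := by rw [map_inf_centralizer_map hf]; exact Subgroup.map_mono (S.faithful i)
  centralizes i j h := map_le_centralizer_map f (S.centralizes i j h)
  indep i := by
    simp only [disjoint_iff, ← Subgroup.map_iSup]
    rw [← Subgroup.map_inf _ _ _ hf, (S.indep i).eq_bot, Subgroup.map_bot]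
  M_le := by rw [← Subgroup.map_iSup]; exact Subgroup.map_mono S.M_le
  V_le := by
    rw [map_inf_centralizer_map hf, ← Subgroup.map_iSup, ← Subgroup.map_sup]
    exact Subgroup.map_mono S.V_le
  transitive i := by
    rintro _ ⟨s, hs, rfl⟩ _ ⟨t, ht, rfl⟩ hs1 ht1
    obtain ⟨g, hg, he⟩ := S.transitive i s hs t ht (fun h => hs1 (by rw [h, map_one]))
      (fun h => ht1 (by rw [h, map_one]))
    exact ⟨f g, ⟨g, hg, rfl⟩, by rw [← map_inv, ← map_mul, ← map_mul, he]⟩
  moves i := by
    rintro _ ⟨g, hg, rfl⟩ _ ⟨v, hv, rfl⟩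
    exact ⟨_, S.moves i g hg v hv, by simp⟩

end CfsgLib.PLocal
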