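import Cfsg.Agent.Lib.PLocal.FFReduce
import Cfsg.Agent.Lib.PLocal.OrbitPermute
import Cfsg.Agent.Lib.PLocal5.FFStructure
import Cfsg.Agent.Lib.PCore.PSolvable

/-!
The factor system of a group in which the Thompson factorization fails.
-/

set_option autoImplicit false
set_option linter.unusedSectionVars false

open scoped commutatorElement

namespace CfsgLib.PLocal

universe u

variable {p : ℕ} [hp : Fact p.Prime] {G : Type u} [Group G] [Finite G]

/-- The factor system of failure of factorization. -/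
theorem exists_ff_system (hsep : Cfsg.IsPSolvable p G) (hO : Cfsg.pPrimeCore p G = ⊥)
    (hnf : ¬ Cfsg.IsThompsonFactorizable p G) :
    ∃ (ι : Type u) (_ : Finite ι) (_ : Nonempty ι) (F W : ι → Subgroup G),
      TransFactorSystem p (CfsgLib.SylowFixed.sylowCenterClosure p G)
        (Subgroup.centralizer (CfsgLib.SylowFixed.sylowCenterClosure p G : Set G))
        (Cfsg.thompsonSubgroup p G ⊔
          Subgroup.centralizer (CfsgLib.SylowFixed.sylowCenterClosure p G : Set G)) F W ∧
      ∀ i, ∃ ψ : F i →* Matrix.SpecialLinearGroup (Fin 2) (ZMod p), Function.Surjective ψ ∧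
        ψ.ker = (Subgroup.centralizer
          (CfsgLib.SylowFixed.sylowCenterClosure p G : Set G)).subgroupOf (F i) := by
  set V := CfsgLib.SylowFixed.sylowCenterClosure p G
  set C := Subgroup.centralizer (V : Set G)
  have hV : Cfsg.IsElementaryAbelian p V :=
    CfsgLib.SylowFixed.sylowCenterClosure_elemAb (CfsgLib.PCore.centralizer_pCore_le hsep hO)
  obtain ⟨hHV, hfaith, hS1, hgen⟩ := ff_setting V hsep hV
    (CfsgLib.SylowFixed.pCore_quotient_centralizer (CfsgLib.SylowFixed.sylowCenterClosure_gen p))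
  set J := Cfsg.thompsonSubgroup p G
  set M := J ⊔ C with hM
  set H := J.map (toSemi V) with hH
  have hS : CfsgLib.FFPair.Setting p (semiV V) H := ⟨semiV_elemAb V hV, hHV, hfaith, hS1⟩
  have hH1 : H ≠ ⊥ := fun h => hnf (isThompsonFactorizable_of_le_centralizer
    (by rwa [hH, Subgroup.map_eq_bot_iff, ker_toSemi] at h))
  set ι := {E : Subgroup (QuotSemi V) // CfsgLib.FFPair.IsComp p (semiV V) H E}
  obtain ⟨hp23, hE, -, hsup, hindep, hVsup⟩ :=
    CfsgLib.FFPair.structure_theorem hS (P := CfsgLib.FFPair.IsComp p (semiV V) H)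
      (fun _ => Iff.rfl) hgen hH1
  have hnat : ∀ E : ι, CfsgLib.FFPair.IsNatural p (semiV V) (E : Subgroup (QuotSemi V)) ∧
      (E : Subgroup (QuotSemi V)) ≤ H := fun E => by
    obtain ⟨A, hA, he⟩ := E.2
    rw [he]
    exact ⟨(CfsgLib.FFPair.comp_natural hS hA).1, CfsgLib.FFPair.comp_le hA.le⟩
  have hother : ∀ E E' : ι, E ≠ E' → (E : Subgroup (QuotSemi V)) ≤
      Subgroup.centralizer ((⁅semiV V, (E' : Subgroup (QuotSemi V))⁆ : Subgroup _) : Set _) := by
    intro E E' hne
    obtain ⟨A, hA, he⟩ := E.2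
    obtain ⟨B, hB, he'⟩ := E'.2
    rw [he, he']
    refine Subgroup.le_centralizer_iff.1 (((CfsgLib.FFPair.comp_eq_or_commute hS hA hB).resolve_left
      fun h => hne (Subtype.ext (he.trans (h.symm.trans he'.symm)))).2.1.trans inf_le_right)
  have hmapM : M.map (toSemi V) = H := by
    rw [hM, Subgroup.map_sup, (Subgroup.map_eq_bot_iff _).2 (ker_toSemi V).ge, sup_bot_eq]
  have hMcomap : H.comap (toSemi V) = M := by rw [hH, Subgroup.comap_map_eq, ker_toSemi]
  set F : ι → Subgroup G := fun E => (E : Subgroup (QuotSemi V)).comap (toSemi V)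
  set P : ι → Subgroup V := fun E =>
    (⁅semiV V, (E : Subgroup (QuotSemi V))⁆).comap SemidirectProduct.inl
  set W : ι → Subgroup G := fun E => (P E).map V.subtype
  have hPV : ∀ E : ι, ⁅semiV V, (E : Subgroup (QuotSemi V))⁆ ≤ semiV V := fun E =>
    CfsgLib.Quadratic.commutator_le_self (range_le_normalizer_semiV V _)
  have hPmap : ∀ E : ι, (P E).map SemidirectProduct.inl = ⁅semiV V, (E : Subgroup (QuotSemi V))⁆ :=
    fun E => by rw [Subgroup.map_comap_eq, inf_eq_right]; exact hPV E
  have hFE : ∀ E : ι, (F E).map (toSemi V) = E := fun E => by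
    rw [Subgroup.map_comap_eq, inf_eq_right]
    exact (hnat E).2.trans (hH ▸ Subgroup.map_le_range _ _)
  have hWmem : ∀ (E : ι) (w : G), w ∈ W E → ∃ v : V, (v : G) = w ∧
      SemidirectProduct.inl v ∈ ⁅semiV V, (E : Subgroup (QuotSemi V))⁆ := by
    rintro E _ ⟨v, hv, rfl⟩; exact ⟨v, rfl, hv⟩
  have hCW : ∀ (E : ι) (g : G), g ∈ Subgroup.centralizer (W E : Set G) → toSemi V g ∈
      Subgroup.centralizer ((⁅semiV V, (E : Subgroup (QuotSemi V))⁆ : Subgroup _) : Set _) := by
    intro E g hg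
    rw [Subgroup.mem_centralizer_iff, ← hPmap E]
    rintro _ ⟨v, hv, rfl⟩
    exact ((toSemi_commute_iff V).2 (Subgroup.mem_centralizer_iff.1 hg v ⟨v, hv, rfl⟩).symm).symm
  obtain ⟨E₀, hE₀⟩ : ∃ E : Subgroup (QuotSemi V), CfsgLib.FFPair.IsComp p (semiV V) H E := by
    by_contra hne
    push Not at hne
    haveI : IsEmpty ι := ⟨fun E => hne _ E.2⟩
    exact hH1 (by rw [← hsup, iSup_of_empty])
  haveI : Nonempty ι := ⟨⟨E₀, hE₀⟩⟩
  refine ⟨ι, inferInstance, inferInstance, F, W, ⟨⟨hp23, hV, ?_, ?_, ?_, ?_, ?_, ?_, ?_, ?_, ?_,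
    ?_, ?_, ?_, ?_⟩, ?_, ?_⟩, fun E => ?_⟩
  · rw [Subgroup.normalizer_eq_top]; exact le_top
  · rw [inf_eq_right.2 le_sup_right]
  · intro E
    rw [← hMcomap]
    exact Subgroup.comap_mono (hnat E).2
  · intro E
    exact fun x hx => by
      rw [Subgroup.mem_comap, MonoidHom.mem_ker.1 ((ker_toSemi V).ge hx)]; exact one_mem _
  · exact fun E => Subgroup.map_subtype_le _
  · intro E
    rw [Subgroup.card_map_of_injective V.subtype_injective,
      ← Subgroup.card_map_of_injective (SemidirectProduct.inl_injective (φ := conjQuot V)),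
      hPmap E, (hnat E).1.card_plane]
  · intro E
    refine Subgroup.le_normalizer_iff.2 fun m hm x hx => ?_
    show toSemi V (m * x * m⁻¹) ∈ (E : Subgroup (QuotSemi V))
    rw [map_mul, map_mul, map_inv]
    exact CfsgLib.Coprime.mem_normalizer_conj ((hE E).1 (hMcomap.ge hm)) hx
  · intro E
    refine Subgroup.le_normalizer_iff.2 ?_
    rintro m hm _ ⟨v, hv, rfl⟩
    refine ⟨MulAut.conjNormal m v, ?_, rfl⟩
    show SemidirectProduct.inl _ ∈ ⁅semiV V, (E : Subgroup (QuotSemi V))⁆
    rw [← toSemi_conj]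
    exact CfsgLib.Coprime.mem_normalizer_conj (CfsgLib.FFPair.le_normalizer_commutator
      (range_le_normalizer_semiV V H) (hE E).1 (hMcomap.ge hm)) hv
  · intro E g hg
    have h : toSemi V g ∈ (⊥ : Subgroup (QuotSemi V)) :=
      (hnat E).1.faithful.le ⟨hg.1, hCW E g hg.2⟩
    rwa [Subgroup.mem_bot, ← MonoidHom.mem_ker, ker_toSemi] at h
  · intro E E' hne g hg
    rw [Subgroup.mem_centralizer_iff]
    intro w hw
    obtain ⟨v, rfl, hv⟩ := hWmem E' w hw
    exact ((toSemi_commute_iff V).1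
      (Subgroup.mem_centralizer_iff.1 (hother E E' hne hg) _ hv).symm).symm
  · intro E
    simp only [W, disjoint_iff, ← Subgroup.map_iSup]
    rw [← Subgroup.map_inf _ _ _ V.subtype_injective, Subgroup.map_eq_bot_iff, Subgroup.ker_subtype,
      le_bot_iff, eq_bot_iff]
    intro v hv
    have h1 : SemidirectProduct.inl v ∈ ⁅semiV V, (E : Subgroup (QuotSemi V))⁆ := hv.1
    have h2 : SemidirectProduct.inl v ∈
        ⨆ (o) (_ : o ≠ some E), (fun o : Option ι => o.elim
          (semiV V ⊓ Subgroup.centralizer (H : Set (QuotSemi V)))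
          (fun E => ⁅semiV V, (E : Subgroup (QuotSemi V))⁆)) o := by
      have hle : (⨆ (E') (_ : E' ≠ E), P E') ≤ Subgroup.comap SemidirectProduct.inl
          (⨆ (o) (_ : o ≠ some E), (fun o : Option ι => o.elim
            (semiV V ⊓ Subgroup.centralizer (H : Set (QuotSemi V)))
            (fun E => ⁅semiV V, (E : Subgroup (QuotSemi V))⁆)) o) := by
        refine iSup₂_le fun E' hne => Subgroup.comap_mono ?_
        exact le_iSup_of_le (some E') (le_iSup_of_le (fun h => hne (Option.some_inj.1 h)) le_rfl)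
      exact hle hv.2
    have h3 := (hindep (some E)).le_bot ⟨h1, h2⟩
    rw [Subgroup.mem_bot] at h3 ⊢
    exact SemidirectProduct.inl_injective (h3.trans (map_one _).symm)
  · have hb : M ≤ (⨆ E, (F E).map (toSemi V)).comap (toSemi V) := by
      simp_rw [hFE]
      exact hMcomap.ge.trans (Subgroup.comap_mono hsup.ge)
    rw [← Subgroup.map_iSup, Subgroup.comap_map_eq, ker_toSemi] at hb
    refine hb.trans (sup_le le_rfl ?_)
    refine le_iSup_of_le (⟨E₀, hE₀⟩ : ι) ?_
    intro x hx
    rw [Subgroup.mem_comap, MonoidHom.mem_ker.1 ((ker_toSemi V).ge hx)]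
    exact one_mem _
  · have hVmap : ((V ⊓ Subgroup.centralizer (M : Set G)).subgroupOf V ⊔ ⨆ E, P E).map
        SemidirectProduct.inl = (⊤ : Subgroup V).map (SemidirectProduct.inl (φ := conjQuot V)) := by
      rw [Subgroup.map_sup, Subgroup.map_iSup, Subgroup.inf_subgroupOf_left,
        ← semiV_inf_centralizer_map, hmapM]
      simp_rw [hPmap]
      rw [hVsup, ← MonoidHom.range_eq_map]
      rfl
    have h := congrArg (Subgroup.map V.subtype)
      (Subgroup.map_injective SemidirectProduct.inl_injective hVmap)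
    rw [Subgroup.map_sup, Subgroup.map_iSup, Subgroup.map_subgroupOf_eq_of_le inf_le_left,
      ← MonoidHom.range_eq_map, Subgroup.range_subtype] at h
    exact h.ge
  · intro E s hs t ht hs1 ht1
    obtain ⟨v, rfl, hv⟩ := hWmem E s hs
    obtain ⟨v', rfl, hv'⟩ := hWmem E t ht
    obtain ⟨e, he, hee⟩ := (hnat E).1.transitive _ hv _ hv'
      (fun h => hs1 (by rw [SemidirectProduct.inl_injective (h.trans (map_one _).symm)]; rfl))
      (fun h => ht1 (by rw [SemidirectProduct.inl_injective (h.trans (map_one _).symm)]; rfl))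
    rw [← hFE E] at he
    obtain ⟨f, hf, rfl⟩ := he
    refine ⟨f, hf, ?_⟩
    rw [toSemi_conj, SemidirectProduct.inl_inj] at hee
    rw [← hee]
    rfl
  · intro E f hf v hv
    refine ⟨MulAut.conjNormal f ⟨v, hv⟩ * ⟨v, hv⟩⁻¹, ?_, rfl⟩
    show SemidirectProduct.inl _ ∈ ⁅semiV V, (E : Subgroup (QuotSemi V))⁆
    rw [map_mul, ← toSemi_conj, map_inv, ← commutatorElement_def, Subgroup.commutator_comm]
    exact Subgroup.commutator_mem_commutator hf ⟨⟨v, hv⟩, rfl⟩
  · obtain ⟨φ⟩ := (hE E).2.1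
    refine ⟨φ.toMonoidHom.comp (((toSemi V).comp (F E).subtype).codRestrict
      (E : Subgroup (QuotSemi V)) fun x => x.2), ?_, ?_⟩
    · intro y
      have he : ((φ.symm y : (E : Subgroup (QuotSemi V))) : QuotSemi V) ∈ (F E).map (toSemi V) :=
        (hFE E).ge (φ.symm y).2
      obtain ⟨f, hf, hfe⟩ := he
      refine ⟨⟨f, hf⟩, ?_⟩
      have : ((toSemi V).comp (F E).subtype).codRestrict (E : Subgroup (QuotSemi V))
          (fun x => x.2) ⟨f, hf⟩ = φ.symm y := Subtype.ext hfe
      show φ _ = y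
      rw [this, MulEquiv.apply_symm_apply]
    · ext x
      rw [MonoidHom.mem_ker, Subgroup.mem_subgroupOf, MonoidHom.comp_apply,
        MulEquiv.coe_toMonoidHom, map_eq_one_iff φ φ.injective, Subtype.ext_iff]
      exact (MonoidHom.mem_ker (f := toSemi V)).symm.trans (SetLike.ext_iff.1 (ker_toSemi V) (x : G))

end CfsgLib.PLocal
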