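import Cfsg.Agent.Lib.PLocal.SLTwoSection

/-!
A quadratic element outside `O_p` of a faithful linear group over `ZMod p` gives a subgroup mapping
onto `SL(2, p)` which has a natural submodule.
-/

set_option autoImplicit false
set_option linter.unusedSectionVars false

open scoped MatrixGroups

namespace CfsgLib.PLocal

universe u v

variable {p : ℕ} [hp : Fact p.Prime]

/-- `SL(2, p)` has no invariant line in its natural module. -/
theorem eq_bot_of_sl2_stable {F : Type*} [Field F] {S : Submodule F (Fin 2 → F)}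
    (hS : ∀ (A : SL(2, F)), ∀ z ∈ S, A.1.mulVec z ∈ S) (hne : S ≠ ⊤) : S = ⊥ := by
  by_contra hbot
  obtain ⟨z, hz, hz0⟩ := (Submodule.ne_bot_iff S).1 hbot
  apply hne
  -- both basis vectors are in `S`
  have hu : ∀ w ∈ S, ∀ t : F, (![w 1 * t, 0] : Fin 2 → F) ∈ S := by
    intro w hw t
    have h := S.sub_mem (hS ⟨!![1, t; 0, 1], by simp [Matrix.det_fin_two]⟩ w hw) hw
    convert h using 1
    ext i
    fin_cases i <;> simp [Matrix.mulVec, dotProduct, Fin.sum_univ_two, mul_comm]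
  have hl : ∀ w ∈ S, ∀ t : F, (![0, w 0 * t] : Fin 2 → F) ∈ S := by
    intro w hw t
    have h := S.sub_mem (hS ⟨!![1, 0; t, 1], by simp [Matrix.det_fin_two]⟩ w hw) hw
    convert h using 1
    ext i
    fin_cases i <;> simp [Matrix.mulVec, dotProduct, Fin.sum_univ_two, mul_comm]
  obtain ⟨e0, e1⟩ : (![1, 0] : Fin 2 → F) ∈ S ∧ (![0, 1] : Fin 2 → F) ∈ S := by
    by_cases h1 : z 1 = 0
    · have h0 : z 0 ≠ 0 := fun h => hz0 (funext fun i => by fin_cases i <;> assumption)
      have e1 : (![0, 1] : Fin 2 → F) ∈ S := by simpa [h0] using hl z hz (z 0)⁻¹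
      exact ⟨by simpa using hu _ e1 1, e1⟩
    · have e0 : (![1, 0] : Fin 2 → F) ∈ S := by simpa [h1] using hu z hz (z 1)⁻¹
      exact ⟨e0, by simpa using hl _ e0 1⟩
  rw [eq_top_iff]
  intro w _
  have : w = w 0 • ![1, 0] + w 1 • ![0, 1] := by ext i; fin_cases i <;> simp
  rw [this]
  exact S.add_mem (S.smul_mem _ e0) (S.smul_mem _ e1)

/-- In a faithful representation over `ZMod p`, a quadratic element outside `O_p` gives a subgroup
with quotient `SL(2, p)` and a natural submodule. -/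
theorem exists_natural_submodule {L : Type u} [Group L] [Finite L] (hp2 : p ≠ 2) {W : Type v}
    [AddCommGroup W] [Module (ZMod p) W] [FiniteDimensional (ZMod p) W]
    (ρ : L →* Module.End (ZMod p) W) (hρ : Function.Injective ρ) {a : L}
    (ha : (ρ a - 1) * (ρ a - 1) = 0) (hna : a ∉ Cfsg.pCore p L) :
    ∃ (M : Subgroup L) (θ : M →* SL(2, ZMod p)) (j : (Fin 2 → ZMod p) →ₗ[ZMod p] W),
      Function.Surjective θ ∧ Function.Injective j ∧
        ∀ (m : M) (z : Fin 2 → ZMod p), ρ m (j z) = j ((θ m).1.mulVec z) := by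
  obtain ⟨g, hg⟩ := exists_conj_pair_not_isPGroup hna
  set D := Subgroup.closure ({a, g * a * g⁻¹} : Set L) with hD
  set a' : D := ⟨a, Subgroup.subset_closure (Set.mem_insert _ _)⟩ with ha'
  set b' : D := ⟨g * a * g⁻¹, Subgroup.subset_closure (Set.mem_insert_of_mem _ rfl)⟩ with hb'
  have hgg : ρ g⁻¹ * ρ g = 1 := by rw [← map_mul, inv_mul_cancel, map_one]
  have hgg' : ρ g * ρ g⁻¹ = 1 := by rw [← map_mul, mul_inv_cancel, map_one]
  have hb : (ρ (g * a * g⁻¹) - 1) * (ρ (g * a * g⁻¹) - 1) = 0 := by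
    have e : ρ (g * a * g⁻¹) - 1 = ρ g * (ρ a - 1) * ρ g⁻¹ := by
      rw [mul_sub, sub_mul, mul_one, hgg', map_mul, map_mul]
    rw [e]
    calc ρ g * (ρ a - 1) * ρ g⁻¹ * (ρ g * (ρ a - 1) * ρ g⁻¹)
        = ρ g * (ρ a - 1) * (ρ g⁻¹ * ρ g) * ((ρ a - 1) * ρ g⁻¹) := by simp only [mul_assoc]
      _ = ρ g * ((ρ a - 1) * (ρ a - 1)) * ρ g⁻¹ := by rw [hgg]; simp only [mul_one, mul_assoc]
      _ = 0 := by rw [ha, mul_zero, zero_mul]
  let σ : D →* Module.End (ZMod p) W := ρ.comp D.subtype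
  have hgen : Subgroup.closure ({a', b'} : Set D) = ⊤ := by
    refine Subgroup.map_injective D.subtype_injective ?_
    rw [MonoidHom.map_closure, ← MonoidHom.range_eq_map, Subgroup.range_subtype, Set.image_pair,
      Subgroup.coe_subtype]
  obtain ⟨d, hdn⟩ : ∃ d : D, ¬ IsNilpotent (σ d - 1) := by
    by_contra! hcon
    refine hg (IsPGroup.of_equiv ?_ Subgroup.topEquiv)
    exact CfsgLib.QuadPair.isPGroup_of_forall_isNilpotent σ (hρ.comp D.subtype_injective)
      (⊤ : Subgroup D) fun h _ => hcon h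
  -- extend scalars
  let σ' : D →* Module.End (AlgebraicClosure (ZMod p))
      (Fin (Module.finrank (ZMod p) W) → AlgebraicClosure (ZMod p)) :=
    (CfsgLib.QuadPair.extendEnd (ZMod p) W).toMonoidHom.comp σ
  have hq : ∀ c : D, (σ c - 1) * (σ c - 1) = 0 → (σ' c - 1) * (σ' c - 1) = 0 := by
    intro c hc
    have := congrArg (CfsgLib.QuadPair.extendEnd (ZMod p) W) hc
    rwa [map_mul, map_sub, map_one, map_zero] at this
  have hT : ¬ IsNilpotent ((σ' a' - 1) * (σ' b' - 1)) := fun hn => hdn (by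
    have := CfsgLib.QuadPair.isNilpotent_sub_one_all σ' hgen (hq a' ha) (hq b' hb) hn d
    rw [← IsNilpotent.map_iff (CfsgLib.QuadPair.extendEnd_injective (ZMod p) W), map_sub, map_one]
    exact this)
  obtain ⟨μ, hμ, v, hv, hTv⟩ := CfsgLib.OddOrder.QuadraticPair.exists_ne_zero_eigen hT
  obtain ⟨φ, ι, hφa, hφb, hι, hint⟩ :=
    CfsgLib.QuadPair.exists_hom_of_eigen σ' hgen (hq a' ha) (hq b' hb) hμ hv hTv
  haveI : CharP (AlgebraicClosure (ZMod p)) p :=
    charP_of_injective_algebraMap (algebraMap (ZMod p) (AlgebraicClosure (ZMod p))).injective p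
  haveI : Finite φ.range := Finite.of_surjective φ.rangeRestrict φ.rangeRestrict_surjective
  obtain ⟨T, ψ, hTdet, hψ, hψr, hψT⟩ :=
    SLTwo.exists_sl2_le' (p := p) (H := φ.range) hp2 hμ ⟨a', hφa⟩ ⟨b', hφb⟩
  let eψ := MonoidHom.ofInjective hψ
  let θ' : ψ.range.comap φ →* SL(2, ZMod p) := eψ.symm.toMonoidHom.comp
    ((φ.comp (ψ.range.comap φ).subtype).codRestrict ψ.range fun x => x.2)
  have hθ' : ∀ m, ψ (θ' m) = φ m := fun m =>
    congrArg Subtype.val (eψ.apply_symm_apply _)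
  have hθ's : Function.Surjective θ' := by
    intro y
    obtain ⟨x, hx⟩ := hψr y
    exact ⟨⟨x, ⟨y, hx.symm⟩⟩, hψ ((hθ' _).trans hx)⟩
  -- coordinates
  set bW := Module.finBasis (ZMod p) W with hbW
  let alg := algebraMap (ZMod p) (AlgebraicClosure (ZMod p))
  have halg : ZMod.castHom (dvd_refl p) (AlgebraicClosure (ZMod p)) = alg := Subsingleton.elim _ _
  let Am : D → Matrix (Fin (Module.finrank (ZMod p) W)) (Fin (Module.finrank (ZMod p) W)) (ZMod p) :=
    fun c => LinearMap.toMatrixAlgEquiv bW (σ c)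
  have hσ' : ∀ (c : D) y, σ' c y = ((Am c).map alg).mulVec y := fun c y => rfl
  have hAm : ∀ (c : D) (w : W), bW.equivFun (σ c w) = (Am c).mulVec (bW.equivFun w) := fun c w =>
    (LinearMap.toMatrix_mulVec_repr bW bW (σ c) w).symm
  let jK : (Fin 2 → ZMod p) →ₗ[ZMod p]
      (Fin (Module.finrank (ZMod p) W) → AlgebraicClosure (ZMod p)) :=
    (ι.restrictScalars (ZMod p)).comp ((T.mulVecLin.restrictScalars (ZMod p)).comp
      ((Algebra.linearMap (ZMod p) (AlgebraicClosure (ZMod p))).compLeft (Fin 2)))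
  have hjK : ∀ z, jK z = ι (T.mulVec (alg ∘ z)) := fun z => rfl
  have hequiv : ∀ (m : ψ.range.comap φ) (z : Fin 2 → ZMod p),
      ((Am m).map alg).mulVec (jK z) = jK ((θ' m).1.mulVec z) := by
    intro m z
    have h1 : alg ∘ ((θ' m).1.mulVec z) = ((θ' m).1.map alg).mulVec (alg ∘ z) :=
      funext fun i => RingHom.map_mulVec alg _ _ i
    have h2 := hψT (θ' m)
    rw [halg, hθ'] at h2
    rw [hjK, hjK, h1, Matrix.mulVec_mulVec, ← h2, ← Matrix.mulVec_mulVec, ← hint, hσ']
  -- descend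
  obtain ⟨z₀, i₀, hz₀⟩ : ∃ z₀ i₀, jK z₀ i₀ ≠ 0 := by
    by_contra! hcon
    have h0 : T.mulVec (alg ∘ ![1, 0]) = 0 := hι (by
      rw [map_zero, ← hjK]; exact funext (hcon _))
    refine hTdet (Matrix.exists_mulVec_eq_zero_iff.1 ⟨_, fun h => ?_, h0⟩)
    simpa using congrFun h 0
  obtain ⟨f, hf⟩ : ∃ f : Module.Dual (ZMod p) (AlgebraicClosure (ZMod p)), f (jK z₀ i₀) ≠ 0 := by
    by_contra! hcon
    exact hz₀ ((Module.forall_dual_apply_eq_zero_iff (ZMod p) _).1 hcon)
  let j : (Fin 2 → ZMod p) →ₗ[ZMod p] W :=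
    bW.equivFun.symm.toLinearMap.comp ((f.compLeft _).comp jK)
  have hjf : ∀ z, bW.equivFun (j z) = f ∘ jK z := fun z => bW.equivFun.apply_symm_apply _
  have hjm : ∀ (m : ψ.range.comap φ) (z : Fin 2 → ZMod p),
      σ m (j z) = j ((θ' m).1.mulVec z) := by
    intro m z
    apply bW.equivFun.injective
    rw [hAm, hjf, hjf, ← hequiv]
    funext i
    simp only [Function.comp_apply, Matrix.mulVec, dotProduct, Matrix.map_apply, map_sum, alg]
    refine Finset.sum_congr rfl fun k _ => ?_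
    rw [← Algebra.smul_def, map_smul, smul_eq_mul]
  have hjinj : Function.Injective j := by
    rw [← LinearMap.ker_eq_bot]
    refine eq_bot_of_sl2_stable (fun A z hz => ?_) fun htop => hf ?_
    · obtain ⟨m, rfl⟩ := hθ's A
      rw [LinearMap.mem_ker] at hz ⊢
      rw [← hjm, hz, map_zero]
    · have h0 : j z₀ = 0 := LinearMap.mem_ker.1 (htop ▸ Submodule.mem_top)
      have := congrFun (hjf z₀) i₀
      rw [h0, map_zero] at this
      exact this.symm
  let e := (ψ.range.comap φ).equivMapOfInjective D.subtype D.subtype_injective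
  refine ⟨(ψ.range.comap φ).map D.subtype, θ'.comp e.symm.toMonoidHom, j,
    hθ's.comp e.symm.surjective, hjinj, fun m z => ?_⟩
  obtain ⟨m', rfl⟩ := e.surjective m
  show ρ (D.subtype (m' : D)) (j z) = j ((θ' (e.symm (e m'))).1.mulVec z)
  rw [e.symm_apply_apply]
  exact hjm m' z

end CfsgLib.PLocal
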