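import Cfsg.Agent.Lib.PLocal.Thompson
import Cfsg.Agent.Lib.PLocal5.MaxOffender
import Cfsg.Agent.Lib.Coprime.HyperplaneGeneration
import Cfsg.Agent.Lib.Components.Local
import Cfsg.Agent.Lib.Blocks.DualHallHigman
import Mathlib.GroupTheory.SemidirectProduct

/-!
The offender bound `|A| ≤ |V : C_V(A)|` in `p`-solvable groups with trivial `O_p`.
-/

set_option autoImplicit false
set_option linter.unusedSectionVars false

open scoped commutatorElement

namespace CfsgLib.PLocal

universe u

variable {p : ℕ} [hp : Fact p.Prime]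

/-- An elementary abelian group faithful on a `p'`-group `Q`, with `Q` faithful on `V`. -/
theorem card_mul_card_fixed_le {G : Type u} [Group G] [Finite G] (V Q : Subgroup G)
    (hV : Cfsg.IsElementaryAbelian p V) (hQV : Q ≤ Subgroup.normalizer (V : Set G))
    (hQ : (Nat.card Q).Coprime p) (hQf : Q ⊓ Subgroup.centralizer (V : Set G) = ⊥) :
    ∀ (n : ℕ) (A : Subgroup G), Nat.card A = n → Cfsg.IsElementaryAbelian p A →
      A ≤ Subgroup.normalizer (V : Set G) → A ≤ Subgroup.normalizer (Q : Set G) →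
      A ⊓ Subgroup.centralizer (Q : Set G) = ⊥ →
      Nat.card A * Nat.card (V ⊓ Subgroup.centralizer (A : Set G) : Subgroup G) ≤ Nat.card V := by
  intro n
  induction n using Nat.strong_induction_on with
  | _ n ih =>
    intro A hAn hA hAV hAQ hAf
    by_cases hA1 : A = ⊥
    · subst hA1
      rw [Subgroup.card_bot, one_mul]
      exact Subgroup.card_le_of_le inf_le_left
    obtain ⟨B, hBA, hBi, hBne⟩ : ∃ B, B ≤ A ∧ B.relIndex A = p ∧
        ¬ Q ⊓ Subgroup.centralizer (B : Set G) ≤ Subgroup.centralizer (A : Set G) := by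
      by_contra! hcon
      apply hA1
      rw [← le_bot_iff, ← hAf]
      refine le_inf le_rfl (Subgroup.le_centralizer_iff.1 ?_)
      rw [← CfsgLib.Coprime39.eq_hyperCent hA hA1 hQ hAQ]
      exact iSup_le fun B => hcon B B.2.1 B.2.2
    have hcard : Nat.card A = Nat.card B * p := by
      rw [← hBi, ← Subgroup.relIndex_bot_left, ← Subgroup.relIndex_bot_left,
        Subgroup.relIndex_mul_relIndex _ _ _ bot_le hBA]
    have hBlt : Nat.card B < n := by
      rw [← hAn, hcard]
      exact lt_mul_of_one_lt_right Nat.card_pos hp.out.one_lt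
    have hBf : B ⊓ Subgroup.centralizer (Q : Set G) = ⊥ :=
      le_bot_iff.1 ((inf_le_inf_right _ hBA).trans hAf.le)
    have hih := ih _ hBlt B rfl (elemAb_of_le hA hBA) (hBA.trans hAV) (hBA.trans hAQ) hBf
    have hle : V ⊓ Subgroup.centralizer (A : Set G) ≤ V ⊓ Subgroup.centralizer (B : Set G) :=
      inf_le_inf_left _ (Subgroup.centralizer_le hBA)
    have hne : V ⊓ Subgroup.centralizer (A : Set G) ≠ V ⊓ Subgroup.centralizer (B : Set G) := by
      intro he
      obtain ⟨c, hc, hcA⟩ := SetLike.not_le_iff_exists.1 hBne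
      rw [Subgroup.mem_centralizer_iff] at hcA
      push Not at hcA
      obtain ⟨a, ha, hac⟩ := hcA
      set x := c * a * c⁻¹ * a⁻¹ with hx
      have hxQ : x ∈ Q := by
        have h1 := (Subgroup.mem_normalizer_iff.1 (hAQ ha) c⁻¹).1 (inv_mem hc.1)
        have h2 := mul_mem hc.1 h1
        simpa [hx, mul_assoc] using h2
      have hxB : x ∈ Subgroup.centralizer (B : Set G) := by
        have haB : a ∈ Subgroup.centralizer (B : Set G) := Subgroup.mem_centralizer_iff.2
          fun b hb => elemAb_commute hA (hBA hb) ha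
        exact mul_mem (mul_mem (mul_mem hc.2 haB) (inv_mem hc.2)) (inv_mem haB)
      have hxV : x ∈ Subgroup.centralizer (V : Set G) := by
        refine CfsgLib.Components.mem_centralizer_of_AxB (p := p) (elemAb_isPGroup hV)
          (elemAb_isPGroup (elemAb_of_le hA hBA)) (hBA.trans hAV) (hQV hxQ) hxB
          (hQ.coprime_dvd_left (Subgroup.orderOf_dvd_natCard Q hxQ)) fun r hr hrB => ?_
        have hcr : c⁻¹ * r * c ∈ V := (Subgroup.mem_normalizer_iff''.1 (hQV hc.1) r).1 hr
        have hcrB : c⁻¹ * r * c ∈ Subgroup.centralizer (B : Set G) :=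
          mul_mem (mul_mem (inv_mem hc.2) hrB) hc.2
        have h1 : a * r = r * a := by
          have h : r ∈ V ⊓ Subgroup.centralizer (A : Set G) := he.ge ⟨hr, hrB⟩
          exact Subgroup.mem_centralizer_iff.1 h.2 a ha
        have h2 : a * (c⁻¹ * r * c) = c⁻¹ * r * c * a := by
          have h : c⁻¹ * r * c ∈ V ⊓ Subgroup.centralizer (A : Set G) := he.ge ⟨hcr, hcrB⟩
          exact Subgroup.mem_centralizer_iff.1 h.2 a ha
        calc x * r = c * a * c⁻¹ * (a⁻¹ * r) := by rw [hx]; group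
          _ = c * a * c⁻¹ * (r * a⁻¹) := by
            rw [(Commute.inv_left (show Commute a r from h1)).eq]
          _ = c * (a * (c⁻¹ * r * c)) * c⁻¹ * a⁻¹ := by group
          _ = c * (c⁻¹ * r * c * a) * c⁻¹ * a⁻¹ := by rw [h2]
          _ = r * x := by rw [hx]; group
      have hx1 : x = 1 := by
        rw [← Subgroup.mem_bot, ← hQf]
        exact ⟨hxQ, hxV⟩
      apply hac
      rw [hx] at hx1
      have := congrArg (fun t => t * a * c) hx1
      simpa [mul_assoc] using this.symm
    have hp' : p * Nat.card (V ⊓ Subgroup.centralizer (A : Set G) : Subgroup G) ≤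
        Nat.card (V ⊓ Subgroup.centralizer (B : Set G) : Subgroup G) := by
      obtain ⟨i, hi⟩ := IsPGroup.iff_card.1 ((elemAb_isPGroup hV).to_le
        (inf_le_left : V ⊓ Subgroup.centralizer (A : Set G) ≤ V))
      obtain ⟨j, hj⟩ := IsPGroup.iff_card.1 ((elemAb_isPGroup hV).to_le
        (inf_le_left : V ⊓ Subgroup.centralizer (B : Set G) ≤ V))
      rw [hi, hj, ← pow_succ']
      refine Nat.pow_le_pow_right hp.out.pos ?_
      by_contra hcon
      exact hne (Subgroup.eq_of_le_of_card_ge hle (by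
        rw [hi, hj]; exact Nat.pow_le_pow_right hp.out.pos (by omega)))
    rw [hcard, mul_assoc]
    exact le_trans (Nat.mul_le_mul_left _ hp') hih

/-- The bound for `G` acting on a normal `V` with `O_p(G / C_G(V)) = 1`. -/
theorem card_mul_card_fixed_le_normal {G : Type u} [Group G] [Finite G]
    (hsep : Cfsg.IsPSolvable p G) (V : Subgroup G) [V.Normal] (hV : Cfsg.IsElementaryAbelian p V)
    (hO : Cfsg.pCore p (G ⧸ Subgroup.centralizer (V : Set G)) = ⊥) (A : Subgroup G)
    (hA : Cfsg.IsElementaryAbelian p A) :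
    Nat.card A * Nat.card (V ⊓ Subgroup.centralizer (A : Set G) : Subgroup G) ≤
      Nat.card V * Nat.card (A ⊓ Subgroup.centralizer (V : Set G) : Subgroup G) := by
  set C := Subgroup.centralizer (V : Set G) with hC
  set q := QuotientGroup.mk' C with hq
  let φ : G ⧸ C →* MulAut V := QuotientGroup.lift C MulAut.conjNormal fun c hc => by
    refine MulEquiv.ext fun v => Subtype.ext ?_
    rw [MulAut.conjNormal_apply, ← Subgroup.mem_centralizer_iff.1 hc v v.2, mul_inv_cancel_right]
    rfl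
  have hφ : ∀ (g : G) (v : V), ((φ (q g) v : V) : G) = g * v * g⁻¹ := fun g v =>
    MulAut.conjNormal_apply g v
  haveI : Finite (V ⋊[φ] (G ⧸ C)) :=
    Finite.of_equiv _ SemidirectProduct.equivProd.symm
  set L := G ⧸ C
  set V' := (SemidirectProduct.inl : V →* V ⋊[φ] L).range with hV'
  set Q' := (Cfsg.pPrimeCore p L).map (SemidirectProduct.inr : L →* V ⋊[φ] L) with hQ'
  set A' := (A.map q).map (SemidirectProduct.inr : L →* V ⋊[φ] L) with hA'
  have hinr : Function.Injective (SemidirectProduct.inr : L →* V ⋊[φ] L) :=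
    SemidirectProduct.inr_injective
  have hconj : ∀ (l : L) (v : V), (SemidirectProduct.inr l : V ⋊[φ] L) * SemidirectProduct.inl v *
      (SemidirectProduct.inr l)⁻¹ = SemidirectProduct.inl (φ l v) := fun l v => by
    rw [SemidirectProduct.inl_aut]
    simp
  have hnorm : ∀ R : Subgroup L,
      R.map (SemidirectProduct.inr : L →* V ⋊[φ] L) ≤ Subgroup.normalizer (V' : Set (V ⋊[φ] L)) := by
    intro R
    rw [hV', SemidirectProduct.range_inl_eq_ker_rightHom, Subgroup.normalizer_eq_top]
    exact le_top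
  have hV'e : Cfsg.IsElementaryAbelian p V' := by
    rw [hV', MonoidHom.range_eq_map]
    refine elemAb_map _ ⟨isMulCommutative_of_forall fun a _ b _ =>
      Subtype.ext (elemAb_commute hV a.2 b.2), fun a _ => Subtype.ext (hV.2 a a.2)⟩
  have hcenV : ∀ (R : Subgroup L) (x : V ⋊[φ] L),
      x ∈ R.map (SemidirectProduct.inr : L →* V ⋊[φ] L) →
      x ∈ Subgroup.centralizer (V' : Set (V ⋊[φ] L)) → x = 1 := by
    rintro R _ ⟨l, hl, rfl⟩ hc
    obtain ⟨g, rfl⟩ := QuotientGroup.mk'_surjective C l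
    have : q g = 1 := by
      refine (QuotientGroup.eq_one_iff g).2 (Subgroup.mem_centralizer_iff.2 fun v hv => ?_)
      have h1 := hconj (q g) ⟨v, hv⟩
      rw [← Subgroup.mem_centralizer_iff.1 hc _ ⟨⟨v, hv⟩, rfl⟩, mul_inv_cancel_right] at h1
      have h2 := congrArg Subtype.val (SemidirectProduct.inl_injective h1)
      rw [hφ] at h2
      have h3 : v * g = g * v := eq_mul_inv_iff_mul_eq.1 h2
      exact h3
    rw [this, map_one]
  have hbound := card_mul_card_fixed_le (p := p) V' Q' hV'e (hnorm _)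
    (by
      rw [hQ', Subgroup.card_map_of_injective hinr]
      exact CfsgLib.PCore.pPrimeCore_coprime)
    (eq_bot_iff.2 fun x hx => Subgroup.mem_bot.2 (hcenV _ x hx.1 hx.2)) _ A' rfl
    (elemAb_map _ (elemAb_map _ hA)) (hnorm _)
    (by
      refine (Subgroup.map_mono le_top).trans
        (le_trans ?_ (Subgroup.le_normalizer_map (SemidirectProduct.inr : L →* V ⋊[φ] L)))
      rw [Subgroup.normalizer_eq_top (Cfsg.pPrimeCore p L)])
    (by
      rw [eq_bot_iff]
      rintro _ ⟨⟨l, hl, rfl⟩, hc⟩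
      rw [Subgroup.mem_bot]
      have hlQ : l ∈ Cfsg.pPrimeCore p L := by
        refine CfsgLib.DualHallHigman.centralizer_pPrimeCore_le
          (CfsgLib.PCore.isPSolvable_quotient hsep C) hO ?_
        refine Subgroup.mem_centralizer_iff.2 fun m hm => hinr ?_
        rw [map_mul, map_mul]
        exact Subgroup.mem_centralizer_iff.1 hc _ ⟨m, hm, rfl⟩
      obtain ⟨k, hk⟩ := (elemAb_isPGroup (elemAb_map q hA)) ⟨l, hl⟩
      have : orderOf l = 1 := Nat.eq_one_of_dvd_coprimes
        ((CfsgLib.PCore.pPrimeCore_coprime.coprime_dvd_left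
          (Subgroup.orderOf_dvd_natCard _ hlQ)).pow_right k)
        dvd_rfl (orderOf_dvd_of_pow_eq_one (congrArg Subtype.val hk))
      rw [orderOf_eq_one_iff.1 this, map_one])
  have hcardV : Nat.card V' = Nat.card V :=
    (Nat.card_congr (MonoidHom.ofInjective SemidirectProduct.inl_injective).toEquiv).symm
  have hfix : Nat.card (V ⊓ Subgroup.centralizer (A : Set G) : Subgroup G) ≤
      Nat.card (V' ⊓ Subgroup.centralizer (A' : Set (V ⋊[φ] L)) : Subgroup (V ⋊[φ] L)) := by
    let f : (V ⊓ Subgroup.centralizer (A : Set G) : Subgroup G) →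
        (V' ⊓ Subgroup.centralizer (A' : Set (V ⋊[φ] L)) : Subgroup (V ⋊[φ] L)) := fun v =>
      ⟨SemidirectProduct.inl ⟨(v : G), v.2.1⟩, ⟨_, rfl⟩, Subgroup.mem_centralizer_iff.2 (by
        rintro _ ⟨_, ⟨a, ha, rfl⟩, rfl⟩
        have h := hconj (q a) ⟨(v : G), v.2.1⟩
        have e : φ (q a) ⟨(v : G), v.2.1⟩ = ⟨(v : G), v.2.1⟩ := Subtype.ext (by
          rw [hφ, Subgroup.mem_centralizer_iff.1 v.2.2 a ha, mul_inv_cancel_right])
        rw [e] at h
        exact mul_inv_eq_iff_eq_mul.1 h)⟩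
    refine Nat.card_le_card_of_injective f fun v w h => ?_
    have h' : (SemidirectProduct.inl ⟨(v : G), v.2.1⟩ : V ⋊[φ] L) =
        SemidirectProduct.inl ⟨(w : G), w.2.1⟩ := congrArg Subtype.val h
    exact Subtype.ext (Subtype.mk_eq_mk.1 (SemidirectProduct.inl_injective h'))
  have hcardA : Nat.card A = Nat.card A' * Nat.card (A ⊓ C : Subgroup G) := by
    rw [hA', Subgroup.card_map_of_injective hinr, CfsgLib.PCore.card_map_mk',
      ← Subgroup.inf_relIndex_right, ← Subgroup.relIndex_bot_left, ← Subgroup.relIndex_bot_left,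
      mul_comm, inf_comm A C, Subgroup.relIndex_mul_relIndex _ _ _ bot_le inf_le_right]
  rw [hcardV] at hbound
  rw [hcardA, mul_assoc, mul_comm (Nat.card (A ⊓ C : Subgroup G)), ← mul_assoc]
  exact Nat.mul_le_mul_right _ (le_trans (Nat.mul_le_mul_left _ hfix) hbound)

end CfsgLib.PLocal

namespace CfsgLib.PLocal

/-- `[Ω₁(Z(J(C_G(V)))), J(G)] ≤ V`. -/
theorem commutator_omega_centerJ_le {p : ℕ} [Fact p.Prime] {G : Type*} [Group G] [Finite G]
    (hsep : Cfsg.IsPSolvable p G) (V : Subgroup G) [V.Normal] (hV : Cfsg.IsElementaryAbelian p V)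
    (hO : Cfsg.pCore p (G ⧸ Subgroup.centralizer (V : Set G)) = ⊥) :
    ⁅Cfsg.omegaOne p (Cfsg.centerThompsonOf p (Subgroup.centralizer (V : Set G))),
      Cfsg.thompsonSubgroup p G⁆ ≤ V := by
  set C := Subgroup.centralizer (V : Set G) with hC
  rw [centerThompsonOf_eq, omegaOne_centerJ_eq_sInf, thompsonSubgroup_eq]
  set Z := sInf {A | IsMaxElemIn p C A} with hZ
  suffices h : thompson p (⊤ : Subgroup G) ≤
      (Subgroup.centralizer ((Z.map (QuotientGroup.mk' V) : Subgroup (G ⧸ V)) : Set (G ⧸ V))).comap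
        (QuotientGroup.mk' V) by
    refine Subgroup.commutator_le.2 fun z hz a ha => ?_
    refine (QuotientGroup.eq_one_iff _).1 ?_
    show QuotientGroup.mk' V ⁅z, a⁆ = 1
    rw [map_commutatorElement, commutatorElement_eq_one_iff_mul_comm]
    exact Subgroup.mem_centralizer_iff.1 (h ha) _ ⟨z, hz, rfl⟩
  rw [thompson_le_iff]
  intro A hA a ha
  set B := A ⊓ C with hB
  have hBe : Cfsg.IsElementaryAbelian p B := elemAb_of_le hA.elem inf_le_left
  have hfixB : V ⊓ Subgroup.centralizer (B : Set G) = V :=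
    inf_eq_left.2 fun v hv => Subgroup.mem_centralizer_iff.2 fun b hb =>
      (Subgroup.mem_centralizer_iff.1 (Subgroup.mem_inf.1 hb).2 v hv).symm
  obtain ⟨h1, h2⟩ := CfsgLib.MaxOffender.card_sup (V := V) hV hBe
  rw [CfsgLib.Offender.measure_def, hfixB] at h2
  rw [hfixB] at h1
  have hBV : Nat.card (B ⊓ V : Subgroup G) ≤
      Nat.card (V ⊓ Subgroup.centralizer (A : Set G) : Subgroup G) := by
    refine Subgroup.card_le_of_le fun x hx => ?_
    obtain ⟨hxB, hxV⟩ := Subgroup.mem_inf.1 hx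
    exact ⟨hxV, Subgroup.mem_centralizer_iff.2 fun b hb =>
      elemAb_commute hA.elem hb (Subgroup.mem_inf.1 hxB).1⟩
  have hkey := card_mul_card_fixed_le_normal hsep V hV hO A hA.elem
  have hcard : Nat.card A ≤ Nat.card (B ⊔ V : Subgroup G) := by
    refine Nat.le_of_mul_le_mul_right (c := Nat.card (B ⊓ V : Subgroup G)) ?_ Nat.card_pos
    rw [h2, mul_comm (Nat.card B)]
    exact le_trans (Nat.mul_le_mul_left _ hBV) hkey
  have hVC : V ≤ C := by
    haveI := hV.1
    exact Subgroup.le_centralizer V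
  have hmax : IsMaxElemIn p C (B ⊔ V) :=
    ⟨sup_le inf_le_right hVC, h1, fun D _ hD => (hA.2.2 D le_top hD).trans hcard⟩
  rw [Subgroup.mem_comap, Subgroup.mem_centralizer_iff]
  rintro _ ⟨z, hz, rfl⟩
  obtain ⟨b, hb, v, hv, rfl⟩ := Subgroup.mem_sup_of_normal_right.1 (Subgroup.mem_sInf.1 hz _ hmax)
  have hv1 : QuotientGroup.mk' V v = 1 := (QuotientGroup.eq_one_iff v).2 hv
  rw [map_mul, hv1, mul_one, ← map_mul, ← map_mul,
    elemAb_commute hA.elem (Subgroup.mem_inf.1 hb).1 ha]

end CfsgLib.PLocal
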