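import Cfsg.Agent.Lib.PLocal.Thompson
import Cfsg.Agent.Lib.Coprime.Action
import Cfsg.Agent.Classical.SLGen

/-!
A group of operators of order prime to `|M|` permuting the factors of `M`, each factor acting on its
own plane in `V`: every element of a factor is imitated on its plane by a fixed point, and the
diagonal plane of an orbit is fixed by the operators.
-/

set_option autoImplicit false
set_option linter.unusedSectionVars false

namespace CfsgLib.PLocal

universe u v

variable {G : Type u} [Group G] [Finite G] {p q : ℕ}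

/-- Conjugation by `x`, as a map. -/
abbrev cj (x : G) : G →* G := (MulAut.conj x).toMonoidHom

theorem cj_apply (x g : G) : cj x g = x * g * x⁻¹ := rfl

theorem conj_mem_centralizer' {U U' : Subgroup G} {x g : G} (hU : U.map (cj x) = U')
    (hg : g ∈ Subgroup.centralizer (U : Set G)) :
    x * g * x⁻¹ ∈ Subgroup.centralizer (U' : Set G) := by
  rw [Subgroup.mem_centralizer_iff, ← hU]
  rintro _ ⟨u, hu, rfl⟩
  rw [← cj_apply, ← map_mul, ← map_mul, Subgroup.mem_centralizer_iff.1 hg u hu]

theorem conj_mem_of_map {U U' : Subgroup G} {x g : G} (hU : U.map (cj x) = U') (hg : g ∈ U) :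
    x * g * x⁻¹ ∈ U' :=
  hU ▸ ⟨g, hg, rfl⟩

theorem mem_normalizer_of_map {U : Subgroup G} {x : G} (hU : U.map (cj x) = U) :
    x ∈ Subgroup.normalizer (U : Set G) := by
  refine (Subgroup.mem_normalizer_iff_map_conj_eq).2 ?_
  exact hU

/-- An element of prime order at least five normalizing a plane over `GF(2)` or `GF(3)`
centralizes it. -/
theorem mem_centralizer_plane [Fact q.Prime] (hp : p = 2 ∨ p = 3) (hq : 5 ≤ q) {W : Subgroup G}
    (hW : Nat.card W = p ^ 2) {x : G} (hx : x ^ q = 1)
    (hn : x ∈ Subgroup.normalizer (W : Set G)) : x ∈ Subgroup.centralizer (W : Set G) := by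
  classical
  haveI := Fintype.ofFinite W
  set φ := MulAction.toPermHom (MulAut W) W with hφ
  set a : MulAut W := W.normalizerMonoidHom ⟨x, hn⟩ with ha
  set σ : Equiv.Perm W := φ a with hσdef
  have hσ : σ ^ q ^ 1 = 1 := by
    rw [pow_one, hσdef, ← map_pow, ha, ← map_pow]
    have : (⟨x, hn⟩ : Subgroup.normalizer (W : Set G)) ^ q = 1 := Subtype.ext hx
    rw [this, map_one, map_one]
  have hmod := Equiv.Perm.card_compl_support_modEq hσ
  set C := (Subgroup.centralizer {x}).subgroupOf W with hC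
  have hcoe : ∀ w : W, ((σ w : W) : G) = x * w * x⁻¹ := fun w => rfl
  have hfix : σ.supportᶜ.card = Nat.card C := by
    rw [← Fintype.card_coe, ← Nat.card_eq_fintype_card]
    refine Nat.card_congr (Equiv.subtypeEquivRight fun w => ?_)
    rw [Finset.mem_compl, Equiv.Perm.notMem_support, hC, Subgroup.mem_subgroupOf,
      Subgroup.mem_centralizer_singleton_iff, Subtype.ext_iff, hcoe, mul_inv_eq_iff_eq_mul]
    exact eq_comm
  rw [hfix, ← Nat.card_eq_fintype_card, hW] at hmod
  have hd : Nat.card C ∣ p ^ 2 := hW ▸ Subgroup.card_subgroup_dvd_card C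
  have hp' : p.Prime := by rcases hp with rfl | rfl <;> norm_num
  obtain ⟨i, hi, hCi⟩ := (Nat.dvd_prime_pow hp').1 hd
  have htop : C = ⊤ := by
    refine Subgroup.eq_top_of_card_eq _ ?_
    rw [hW, hCi]
    rw [hCi] at hmod
    have h1 : q ∣ p ^ 2 - p ^ i :=
      (Nat.modEq_iff_dvd' (Nat.pow_le_pow_right hp'.pos hi)).1 hmod
    by_contra hne
    have hlt : i < 2 := lt_of_le_of_ne hi fun h => hne (by rw [h])
    have hpos : 0 < p ^ 2 - p ^ i := Nat.sub_pos_of_lt (Nat.pow_lt_pow_right hp'.one_lt hlt)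
    have hle := Nat.le_of_dvd hpos h1
    have hqp : q.Prime := Fact.out
    interval_cases i <;> rcases hp with rfl | rfl <;> norm_num at h1 hle <;>
      first
        | omega
        | (interval_cases q <;> revert h1 hqp <;> norm_num)
  rw [Subgroup.mem_centralizer_iff]
  intro w hw
  have h : (⟨w, hw⟩ : W) ∈ C := htop ▸ Subgroup.mem_top _
  rw [hC, Subgroup.mem_subgroupOf, Subgroup.mem_centralizer_singleton_iff] at h
  exact h

/-- A family of factors of `M` acting on planes in `V`. -/
structure FactorSystem (p : ℕ) (V C M : Subgroup G) {ι : Type v} (F W : ι → Subgroup G) : Prop where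
  prime : p = 2 ∨ p = 3
  elemAb : Cfsg.IsElementaryAbelian p V
  le_normalizer_V : M ≤ Subgroup.normalizer (V : Set G)
  C_eq : C = M ⊓ Subgroup.centralizer (V : Set G)
  F_le : ∀ i, F i ≤ M
  C_le : ∀ i, C ≤ F i
  W_le : ∀ i, W i ≤ V
  card_W : ∀ i, Nat.card (W i) = p ^ 2
  le_normalizer_F : ∀ i, M ≤ Subgroup.normalizer (F i : Set G)
  le_normalizer_W : ∀ i, M ≤ Subgroup.normalizer (W i : Set G)
  faithful : ∀ i, F i ⊓ Subgroup.centralizer (W i : Set G) ≤ C
  centralizes : ∀ i j, i ≠ j → F i ≤ Subgroup.centralizer (W j : Set G)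
  indep : iSupIndep W
  M_le : M ≤ ⨆ i, F i
  V_le : V ≤ (V ⊓ Subgroup.centralizer (M : Set G)) ⊔ ⨆ i, W i

/-- A group of operators on a factor system. -/
structure Operators (q : ℕ) (V M X : Subgroup G) {ι : Type v} (F W : ι → Subgroup G) : Prop where
  five_le : 5 ≤ q
  elemAb : Cfsg.IsElementaryAbelian q X
  le_normalizer_V : X ≤ Subgroup.normalizer (V : Set G)
  le_normalizer_M : X ≤ Subgroup.normalizer (M : Set G)
  coprime : (Nat.card X).Coprime (Nat.card M)
  permutes : ∀ x ∈ X, ∀ i, ∃ j, (W i).map (cj x) = W j ∧ (F i).map (cj x) = F j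

variable {V C M X : Subgroup G} {ι : Type v} {F W : ι → Subgroup G}

namespace FactorSystem

variable (S : FactorSystem p V C M F W)
include S

theorem W_injective : Function.Injective W := by
  intro i j h
  by_contra hne
  have hb : W i = ⊥ := by
    rw [eq_bot_iff]
    exact ((S.indep.pairwiseDisjoint hne).le_bot : W i ⊓ W j ≤ ⊥).trans' (le_inf le_rfl h.le)
  have := S.card_W i
  rw [hb, Subgroup.card_bot] at this
  rcases S.prime with rfl | rfl <;> norm_num at this

theorem conj_centralizer {k : ι} {a g : G} (ha : a ∈ M)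
    (hg : g ∈ Subgroup.centralizer (W k : Set G)) :
    a * g * a⁻¹ ∈ Subgroup.centralizer (W k : Set G) :=
  conj_mem_centralizer' (Subgroup.mem_normalizer_iff_map_conj_eq.1 (S.le_normalizer_W k ha)) hg

/-- An element of `M` centralizing every plane lies in `C`. -/
theorem mem_C {g : G} (hg : g ∈ M) (h : ∀ k, g ∈ Subgroup.centralizer (W k : Set G)) : g ∈ C := by
  rw [S.C_eq]
  refine ⟨hg, Subgroup.le_centralizer_iff.1 ?_ (Subgroup.mem_zpowers g)⟩
  refine S.V_le.trans (sup_le ?_ (iSup_le fun k => ?_))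
  · exact inf_le_right.trans (Subgroup.centralizer_le (Subgroup.zpowers_le.2 hg : _ ≤ M))
  · exact Subgroup.le_centralizer_iff.1 (Subgroup.zpowers_le.2 (h k))

theorem le_sup_centralizer (i : ι) : M ≤ F i ⊔ (M ⊓ Subgroup.centralizer (W i : Set G)) := by
  refine S.M_le.trans (iSup_le fun k => ?_)
  rcases eq_or_ne k i with rfl | hne
  · exact le_sup_left
  · exact le_sup_of_le_right (le_inf (S.F_le k) (S.centralizes k i hne))

/-- An element of `M` acts on the plane `W i` as an element of `F i`. -/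
theorem exists_same (i : ι) {g : G} (hg : g ∈ M) :
    ∃ f ∈ F i, f⁻¹ * g ∈ Subgroup.centralizer (W i : Set G) := by
  obtain ⟨a, ha, b, hb, hab⟩ := CfsgLib.Coprime.exists_mul_of_mem_sup
    (inf_le_left.trans (S.le_normalizer_F i) : M ⊓ Subgroup.centralizer (W i : Set G) ≤ _)
    (sup_comm (F i) _ ▸ S.le_sup_centralizer i hg)
  refine ⟨a * b * a⁻¹, conj_mem_of_map (Subgroup.mem_normalizer_iff_map_conj_eq.1
    (S.le_normalizer_F i ha.1)) hb, ?_⟩
  rw [hab, show (a * b * a⁻¹)⁻¹ * (a * b) = a by group]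
  exact ha.2

end FactorSystem

variable [Fact q.Prime]

section
variable (S : FactorSystem p V C M F W) (O : Operators q V M X F W)
include S O

theorem map_W_centralizes {x : G} (hx : x ∈ X) {i : ι} (h : (W i).map (cj x) = W i) :
    x ∈ Subgroup.centralizer (W i : Set G) :=
  mem_centralizer_plane S.prime O.five_le (S.card_W i) (O.elemAb.2 x hx) (mem_normalizer_of_map h)

theorem map_F {x : G} (hx : x ∈ X) {i j : ι} (h : (W i).map (cj x) = W j) :
    (F i).map (cj x) = F j := by
  obtain ⟨k, hk, hk'⟩ := O.permutes x hx i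
  rw [hk] at h
  rwa [← S.W_injective h]

theorem same_transport {x x' : G} (hx : x ∈ X) (hx' : x' ∈ X) {i j : ι} {f : G} (hf : f ∈ M)
    (h : (W i).map (cj x) = W j) (h' : (W i).map (cj x') = W j) :
    (x' * f * x'⁻¹)⁻¹ * (x * f * x⁻¹) ∈ Subgroup.centralizer (W j : Set G) := by
  have hs : x'⁻¹ * x ∈ Subgroup.centralizer (W i : Set G) := by
    refine map_W_centralizes S O (X.mul_mem (X.inv_mem hx') hx) ?_
    rw [cj, map_mul, MulEquiv.toMonoidHom_eq_coe]
    have e : ((MulAut.conj x'⁻¹ * MulAut.conj x : MulAut G) : G →* G) = (cj x'⁻¹).comp (cj x) := rfl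
    rw [e, ← Subgroup.map_map, h, ← h', Subgroup.map_map]
    have e' : (cj x'⁻¹).comp (cj x') = MonoidHom.id G := by
      ext g; simp [cj]; group
    rw [e', Subgroup.map_id]
  have key : ∀ s ∈ Subgroup.centralizer (W i : Set G),
      f⁻¹ * (s * f * s⁻¹) ∈ Subgroup.centralizer (W i : Set G) := fun s hs => by
    rw [show f⁻¹ * (s * f * s⁻¹) = (f⁻¹ * s * f⁻¹⁻¹) * s⁻¹ by group]
    exact Subgroup.mul_mem _ (S.conj_centralizer (M.inv_mem hf) hs) (Subgroup.inv_mem _ hs)
  have := conj_mem_centralizer' h' (key _ hs)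
  convert this using 1
  group

/-- Every element of a factor acts on its plane as a fixed point of the operators. -/
theorem exists_fixed_same [Finite ι] {i : ι} {f : G} (hf : f ∈ F i) :
    ∃ d ∈ M ⊓ Subgroup.centralizer (X : Set G),
      f⁻¹ * d ∈ Subgroup.centralizer (W i : Set G) := by
  classical
  haveI := Fintype.ofFinite ι
  have hfM : f ∈ M := S.F_le i hf
  let P : ι → G → Prop := fun k g =>
    (∀ x ∈ X, (W i).map (cj x) = W k →
      (x * f * x⁻¹)⁻¹ * g ∈ Subgroup.centralizer (W k : Set G)) ∧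
    ((∀ x ∈ X, (W i).map (cj x) ≠ W k) → g ∈ Subgroup.centralizer (W k : Set G))
  have hind : ∀ s : Finset ι, ∃ g ∈ M, (∀ k ∈ s, P k g) ∧
      ∀ k, k ∉ s → g ∈ Subgroup.centralizer (W k : Set G) := by
    intro s
    induction s using Finset.induction_on with
    | empty => exact ⟨1, M.one_mem, by simp, fun k _ => Subgroup.one_mem _⟩
    | @insert j s hj ih =>
      obtain ⟨g, hg, hgs, hgo⟩ := ih
      by_cases hx : ∃ x ∈ X, (W i).map (cj x) = W j
      · obtain ⟨x, hx, hxj⟩ := hx
        set t := x * f * x⁻¹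
        have htF : t ∈ F j := conj_mem_of_map (map_F S O hx hxj) hf
        have htM : t ∈ M := S.F_le j htF
        refine ⟨t * g, M.mul_mem htM hg, fun k hk => ?_, fun k hk => ?_⟩
        · rcases Finset.mem_insert.1 hk with rfl | hk
          · refine ⟨fun x' hx' h' => ?_, fun h => absurd hxj (h x hx)⟩
            rw [← mul_assoc]
            exact Subgroup.mul_mem _ (same_transport S O hx hx' hfM hxj h') (hgo k hj)
          · have hne : j ≠ k := fun h => hj (h ▸ hk)
            have htk := S.centralizes j k hne htF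
            refine ⟨fun x' hx' h' => ?_, fun h => Subgroup.mul_mem _ htk ((hgs k hk).2 h)⟩
            set a := x' * f * x'⁻¹
            have haM : a ∈ M := by
              refine S.F_le k ?_
              exact conj_mem_of_map (map_F S O hx' h') hf
            rw [show a⁻¹ * (t * g) = (a⁻¹ * t * a⁻¹⁻¹) * (a⁻¹ * g) by group]
            exact Subgroup.mul_mem _ (S.conj_centralizer (M.inv_mem haM) htk)
              ((hgs k hk).1 x' hx' h')
        · rw [Finset.mem_insert, not_or] at hk
          exact Subgroup.mul_mem _ (S.centralizes j k (Ne.symm hk.1) htF) (hgo k hk.2)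
      · push Not at hx
        refine ⟨g, hg, fun k hk => ?_, fun k hk => hgo k fun h => hk (Finset.mem_insert_of_mem h)⟩
        rcases Finset.mem_insert.1 hk with rfl | hk
        · exact ⟨fun x hx' h' => absurd h' (hx x hx'), fun _ => hgo k hj⟩
        · exact hgs k hk
  obtain ⟨g, hg, hgs, -⟩ := hind Finset.univ
  have hP : ∀ k, P k g := fun k => hgs k (Finset.mem_univ k)
  have hfix : ∀ x ∈ X, g⁻¹ * (x * g * x⁻¹) ∈ C := by
    intro x hx
    refine S.mem_C (M.mul_mem (M.inv_mem hg) (CfsgLib.Coprime.mem_normalizer_conj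
      (O.le_normalizer_M hx) hg)) fun k => ?_
    obtain ⟨l, hl, -⟩ := O.permutes x⁻¹ (X.inv_mem hx) k
    have hl' : (W l).map (cj x) = W k := by
      rw [← hl, Subgroup.map_map]
      have e : (cj x).comp (cj x⁻¹) = MonoidHom.id G := by ext y; simp [cj]; group
      rw [e, Subgroup.map_id]
    by_cases h : ∃ x' ∈ X, (W i).map (cj x') = W l
    · obtain ⟨x', hx', h'⟩ := h
      have hk : (W i).map (cj (x * x')) = W k := by
        rw [← hl', ← h', Subgroup.map_map]
        congr 1
        ext y; simp [cj]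
      have h1 := conj_mem_centralizer' hl' ((hP l).1 x' hx' h')
      have h2 := (hP k).1 (x * x') (X.mul_mem hx hx') hk
      have h3 := Subgroup.mul_mem _ (Subgroup.inv_mem _ h2) h1
      convert h3 using 1
      group
    · push Not at h
      refine Subgroup.mul_mem _ (Subgroup.inv_mem _ ((hP k).2 fun y hy hyk => ?_))
        (conj_mem_centralizer' hl' ((hP l).2 h))
      refine h (x⁻¹ * y) (X.mul_mem (X.inv_mem hx) hy) ?_
      rw [← hl, ← hyk, Subgroup.map_map]
      congr 1
      ext z; simp [cj]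
  obtain ⟨d, hd, hgd⟩ := CfsgLib.Coprime.exists_centralizing_rep X M O.le_normalizer_M O.coprime
    (Or.inl (Group.isSolvable_of_comm fun a b => Subtype.ext (elemAb_commute O.elemAb a.2 b.2))) C (S.C_eq.le.trans inf_le_left)
    (Subgroup.le_normalizer_iff.2 fun a ha c hc => by
      rw [S.C_eq] at hc ⊢
      exact ⟨CfsgLib.Coprime.mem_normalizer_conj (O.le_normalizer_M ha) hc.1,
        conj_mem_centralizer' (Subgroup.mem_normalizer_iff_map_conj_eq.1 (O.le_normalizer_V ha))
          hc.2⟩) hg hfix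
  refine ⟨d, hd, ?_⟩
  have hgd' : g⁻¹ * d ∈ Subgroup.centralizer (W i : Set G) :=
    Subgroup.centralizer_le (S.W_le i) (S.C_eq.le hgd).2
  have hW1 : (W i).map (cj (1 : G)) = W i := by
    rw [cj, map_one]; exact Subgroup.map_id _
  have h1 := (hP i).1 1 X.one_mem hW1
  rw [one_mul, inv_one, mul_one] at h1
  have := Subgroup.mul_mem _ h1 hgd'
  rwa [mul_assoc, mul_inv_cancel_left] at this

/-- A subgroup containing `C`, the fixed points and enough of `F i` contains `F i`. -/
theorem factor_le [Finite ι] {i : ι} {T : Subgroup G} {U : Set G} (hU : U ⊆ F i) (hUT : U ⊆ T)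
    (hC : C ≤ T) (hX : M ⊓ Subgroup.centralizer (X : Set G) ≤ T)
    (hgen : F i ≤ Subgroup.closure ({y | ∃ f ∈ F i, ∃ u ∈ U, y = f * u * f⁻¹} ∪ C)) :
    F i ≤ T := by
  refine hgen.trans ((Subgroup.closure_le _).2 (Set.union_subset ?_ hC))
  rintro _ ⟨f, hf, u, hu, rfl⟩
  obtain ⟨d, hd, hfd⟩ := exists_fixed_same S O hf
  have hdu : d * u * d⁻¹ ∈ T := T.mul_mem (T.mul_mem (hX hd) (hUT hu)) (T.inv_mem (hX hd))
  have hdF : d * u * d⁻¹ ∈ F i :=
    CfsgLib.Coprime.mem_normalizer_conj (S.le_normalizer_F i hd.1) (hU hu)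
  have hfF : f * u * f⁻¹ ∈ F i := (F i).mul_mem ((F i).mul_mem hf (hU hu)) ((F i).inv_mem hf)
  have he : (f * u * f⁻¹)⁻¹ * (d * u * d⁻¹) ∈ C := by
    refine S.faithful i ⟨(F i).mul_mem ((F i).inv_mem hfF) hdF, ?_⟩
    set e := f⁻¹ * d
    have : (f * u * f⁻¹)⁻¹ * (d * u * d⁻¹) =
        (f * (u⁻¹ * e * u) * f⁻¹) * (f * e⁻¹ * f⁻¹) := by
      simp [e, mul_assoc]
    rw [this]
    refine Subgroup.mul_mem _ (S.conj_centralizer (S.F_le i hf) ?_)
      (S.conj_centralizer (S.F_le i hf) (Subgroup.inv_mem _ hfd))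
    have := S.conj_centralizer (M.inv_mem (S.F_le i (hU hu))) hfd
    rwa [inv_inv] at this
  have := T.mul_mem hdu (T.inv_mem (hC he))
  rwa [mul_inv_rev, inv_inv, mul_inv_cancel_left] at this

end

end CfsgLib.PLocal
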