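import Cfsg.Agent.Lib.PLocal.SLTwoPair
import Cfsg.Agent.Lib.PLocal5.QuadPair
import Cfsg.Agent.Lib.Involutions.BaerSuzuki
import Cfsg.Agent.Lib.PCore.Basic
import Cfsg.Prelude.Def_PLocal

/-!
A quadratically acting element outside `O_p` of a faithful linear group forces a section
`SL(2, p)`.
-/

set_option autoImplicit false
set_option linter.unusedSectionVars false

open scoped MatrixGroups commutatorElement

namespace CfsgLib.PLocal

universe u v

variable {p : ℕ} [hp : Fact p.Prime]

/-- A surjection from a subgroup of a subgroup gives a section. -/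
theorem exists_section_of_surjective {G X : Type*} [Group G] [Group X] {H : Subgroup G}
    {K' : Subgroup H} {f : K' →* X} (hf : Function.Surjective f) :
    ∃ (K L : Subgroup G) (_ : (L.subgroupOf K).Normal),
      K ≤ H ∧ Nonempty ((K ⧸ L.subgroupOf K) ≃* X) := by
  let e := K'.equivMapOfInjective H.subtype H.subtype_injective
  let f' : K'.map H.subtype →* X := f.comp e.symm.toMonoidHom
  have hf' : Function.Surjective f' := hf.comp e.symm.surjective
  have h : (f'.ker.map (K'.map H.subtype).subtype).subgroupOf (K'.map H.subtype) = f'.ker :=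
    Subgroup.comap_map_eq_self_of_injective (Subgroup.subtype_injective _) _
  haveI hn : ((f'.ker.map (K'.map H.subtype).subtype).subgroupOf (K'.map H.subtype)).Normal :=
    h.symm ▸ f'.normal_ker
  exact ⟨_, _, hn, Subgroup.map_subtype_le K',
    ⟨(QuotientGroup.quotientMulEquivOfEq h).trans
      (QuotientGroup.quotientKerEquivOfSurjective f' hf')⟩⟩

/-- A map to `SL₂` of characteristic `p` hitting two opposite root elements gives `SL(2, p)`. -/
theorem exists_sl2_of_hom_pair {L : Type u} [Group L] [Finite L] (hp2 : p ≠ 2)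
    {K : Type v} [Field K] [CharP K p] {μ : K} (hμ : μ ≠ 0) (φ : L →* SL(2, K)) {a b : L}
    (ha : φ a = SLTwo.upper μ) (hb : φ b = SLTwo.lower 1) :
    ∃ (M : Subgroup L) (f : M →* SL(2, ZMod p)), Function.Surjective f := by
  haveI : Finite φ.range := Finite.of_surjective φ.rangeRestrict φ.rangeRestrict_surjective
  obtain ⟨ψ, hinj, hr⟩ := SLTwo.exists_sl2_le (p := p) (H := φ.range) hp2 hμ ⟨a, ha⟩ ⟨b, hb⟩
  let e := MonoidHom.ofInjective hinj
  refine ⟨ψ.range.comap φ, e.symm.toMonoidHom.comp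
    ((φ.comp (ψ.range.comap φ).subtype).codRestrict ψ.range fun x => x.2), fun y => ?_⟩
  obtain ⟨x, hx⟩ := hr y
  refine ⟨⟨x, ⟨y, hx.symm⟩⟩, e.injective ?_⟩
  simp only [MonoidHom.coe_comp, Function.comp_apply, MulEquiv.coe_toMonoidHom,
    MulEquiv.apply_symm_apply]
  exact Subtype.ext hx

/-- Baer–Suzuki, contraposed. -/
theorem exists_conj_pair_not_isPGroup {L : Type u} [Group L] [Finite L] {a : L}
    (hna : a ∉ Cfsg.pCore p L) :
    ∃ g : L, ¬ IsPGroup p (Subgroup.closure ({a, g * a * g⁻¹} : Set L)) := by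
  by_contra! h
  obtain ⟨N, hN, hP, haN⟩ := CfsgLib.Involutions.exists_normal_isPGroup_of_mem h
  exact hna (CfsgLib.PCore.le_pCore hN hP haN)

/-- In a faithful representation, a quadratic element outside `O_p` gives a section `SL(2, p)`. -/
theorem exists_sl2_of_rep {L : Type u} [Group L] [Finite L] (hp2 : p ≠ 2) {W : Type v}
    [AddCommGroup W] [Module (ZMod p) W] [FiniteDimensional (ZMod p) W]
    (ρ : L →* Module.End (ZMod p) W) (hρ : Function.Injective ρ) {a : L}
    (ha : (ρ a - 1) * (ρ a - 1) = 0) (hna : a ∉ Cfsg.pCore p L) :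
    ∃ (M : Subgroup L) (f : M →* SL(2, ZMod p)), Function.Surjective f := by
  obtain ⟨g, hg⟩ := exists_conj_pair_not_isPGroup hna
  set D := Subgroup.closure ({a, g * a * g⁻¹} : Set L) with hD
  set a' : D := ⟨a, Subgroup.subset_closure (Set.mem_insert _ _)⟩ with ha'
  set b' : D := ⟨g * a * g⁻¹, Subgroup.subset_closure (Set.mem_insert_of_mem _ rfl)⟩ with hb'
  have hgg : ρ g⁻¹ * ρ g = 1 := by rw [← map_mul, inv_mul_cancel, map_one]
  have hgg' : ρ g * ρ g⁻¹ = 1 := by rw [← map_mul, mul_inv_cancel, map_one]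
  have hb : (ρ (g * a * g⁻¹) - 1) * (ρ (g * a * g⁻¹) - 1) = 0 := by
    have e : ρ (g * a * g⁻¹) - 1 = ρ g * (ρ a - 1) * ρ g⁻¹ := by
      rw [mul_sub, sub_mul, mul_one, hgg', map_mul, map_mul]
    rw [e]
    calc ρ g * (ρ a - 1) * ρ g⁻¹ * (ρ g * (ρ a - 1) * ρ g⁻¹)
        = ρ g * (ρ a - 1) * (ρ g⁻¹ * ρ g) * ((ρ a - 1) * ρ g⁻¹) := by simp only [mul_assoc]
      _ = ρ g * ((ρ a - 1) * (ρ a - 1)) * ρ g⁻¹ := by rw [hgg]; simp only [mul_one, mul_assoc]
      _ = 0 := by rw [ha, mul_zero, zero_mul]
  let σ : D →* Module.End (ZMod p) W := ρ.comp D.subtype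
  have hgen : Subgroup.closure ({a', b'} : Set D) = ⊤ := by
    refine Subgroup.map_injective D.subtype_injective ?_
    rw [MonoidHom.map_closure, ← MonoidHom.range_eq_map, Subgroup.range_subtype, Set.image_pair,
      Subgroup.coe_subtype]
  obtain ⟨d, hdn⟩ : ∃ d : D, ¬ IsNilpotent (σ d - 1) := by
    by_contra! hcon
    refine hg (IsPGroup.of_equiv ?_ Subgroup.topEquiv)
    exact CfsgLib.QuadPair.isPGroup_of_forall_isNilpotent σ (hρ.comp D.subtype_injective)
      (⊤ : Subgroup D) fun h _ => hcon h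
  haveI : CharP (AlgebraicClosure (ZMod p)) p :=
    charP_of_injective_algebraMap (algebraMap (ZMod p) (AlgebraicClosure (ZMod p))).injective p
  obtain ⟨μ, φ, hμ, h2, h3, -⟩ :=
    CfsgLib.QuadPair.exists_hom σ hgen (a := a') (b := b') ha hb hdn
  obtain ⟨M, f, hf⟩ := exists_sl2_of_hom_pair hp2 hμ φ (a := a') (b := b') h2 h3
  let e := M.equivMapOfInjective D.subtype D.subtype_injective
  exact ⟨M.map D.subtype, f.comp e.symm.toMonoidHom, hf.comp e.symm.surjective⟩

/-- The faithful module `V` of `G / C_G(V)`, for an abstract copy of `V`. -/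
theorem exists_rep_conj {G : Type u} [Group G] (V : Subgroup G) [V.Normal] {M : Type v}
    [AddCommGroup M] [Module (ZMod p) M] (emb : Multiplicative M →* G)
    (hinj : Function.Injective emb) (hrange : ∀ v, v ∈ V ↔ ∃ w, emb w = v) (f : G → M →+ M)
    (key : ∀ g v, emb (Multiplicative.ofAdd (f g v)) = g * emb (Multiplicative.ofAdd v) * g⁻¹) :
    ∃ ρ : G ⧸ Subgroup.centralizer (V : Set G) →* Module.End (ZMod p) M,
      (∀ (g : G) (w : M), emb (Multiplicative.ofAdd (ρ (QuotientGroup.mk g) w)) =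
          g * emb (Multiplicative.ofAdd w) * g⁻¹) ∧
      Function.Injective ρ ∧ ∀ g : G, ⁅⁅V, Subgroup.zpowers g⁆, Subgroup.zpowers g⁆ = ⊥ →
        (ρ (QuotientGroup.mk g) - 1) * (ρ (QuotientGroup.mk g) - 1) = 0 := by
  have hemb : ∀ {v w : M}, emb (Multiplicative.ofAdd v) = emb (Multiplicative.ofAdd w) → v = w :=
    fun h => Multiplicative.ofAdd.injective (hinj h)
  have hV : ∀ w, emb w ∈ V := fun w => (hrange _).2 ⟨w, rfl⟩
  have hcen : ∀ (g : G) (n : G), n ∈ Subgroup.centralizer (V : Set G) → ∀ v : M,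
      f (g * n) v = f g v := fun g n hn v => hemb (by
    rw [key, key]
    have := Subgroup.mem_centralizer_iff.1 hn _ (hV (Multiplicative.ofAdd v))
    calc g * n * emb (Multiplicative.ofAdd v) * (g * n)⁻¹
        = g * (n * emb (Multiplicative.ofAdd v)) * n⁻¹ * g⁻¹ := by group
      _ = g * (emb (Multiplicative.ofAdd v) * n) * n⁻¹ * g⁻¹ := by rw [← this]
      _ = g * emb (Multiplicative.ofAdd v) * g⁻¹ := by group)
  have hout : ∀ (g : G) (v : M),
      f (QuotientGroup.mk (s := Subgroup.centralizer (V : Set G)) g).out v = f g v := fun g v => by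
    obtain ⟨n, hn⟩ := QuotientGroup.mk_out_eq_mul (Subgroup.centralizer (V : Set G)) g
    rw [hn, hcen g n n.2]
  let ρ : G ⧸ Subgroup.centralizer (V : Set G) →* Module.End (ZMod p) M :=
    { toFun := fun q => (f q.out).toZModLinearMap p
      map_one' := LinearMap.ext fun v => by
        show f (QuotientGroup.mk (s := Subgroup.centralizer (V : Set G)) 1).out v = v
        rw [hout]
        exact hemb (by rw [key]; simp)
      map_mul' := fun q r => LinearMap.ext fun v => by
        obtain ⟨g, rfl⟩ := QuotientGroup.mk_surjective q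
        obtain ⟨h, rfl⟩ := QuotientGroup.mk_surjective r
        show f (QuotientGroup.mk (s := Subgroup.centralizer (V : Set G)) (g * h)).out v = f _ (f _ v)
        rw [hout, hout h v, hout]
        exact hemb (by rw [key, key, key]; simp [mul_assoc]) }
  have hρg : ∀ (g : G) (v : M), ρ (QuotientGroup.mk g) v = f g v := fun g v => hout g v
  refine ⟨ρ, fun g w => by rw [hρg, key], ?_, fun g hg => ?_⟩
  · rw [injective_iff_map_eq_one]
    intro q hq
    obtain ⟨g, rfl⟩ := QuotientGroup.mk_surjective q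
    refine (QuotientGroup.eq_one_iff g).2 (Subgroup.mem_centralizer_iff.2 fun v hv => ?_)
    obtain ⟨w, rfl⟩ := (hrange v).1 hv
    have e := key g (Multiplicative.toAdd w)
    rw [← hρg, hq] at e
    exact eq_mul_inv_iff_mul_eq.1 e
  · refine LinearMap.ext fun v => ?_
    show ρ (QuotientGroup.mk g) (ρ (QuotientGroup.mk g) v - v) -
      (ρ (QuotientGroup.mk g) v - v) = 0
    rw [hρg g v, hρg, sub_eq_zero]
    refine hemb ?_
    rw [key, ofAdd_sub, div_eq_mul_inv, map_mul, map_inv, key]
    have e : g * emb (Multiplicative.ofAdd v) * g⁻¹ * (emb (Multiplicative.ofAdd v))⁻¹ =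
        ⁅emb (Multiplicative.ofAdd v), g⁆⁻¹ := by rw [commutatorElement_def]; group
    have := CfsgLib.Quadratic.quadratic_commute hg (hV (Multiplicative.ofAdd v))
      (Subgroup.mem_zpowers g) (Subgroup.mem_zpowers g)
    rw [e, (show Commute g _ from this).inv_right.eq, mul_inv_cancel_right]

/-- The faithful module `V` of `G / C_G(V)`. -/
theorem exists_rep_quotient' {G : Type u} [Group G] [Finite G] (V : Subgroup G) [V.Normal]
    (hV : Cfsg.IsElementaryAbelian p V) :
    ∃ (W : Type u) (_ : AddCommGroup W) (_ : Module (ZMod p) W) (_ : FiniteDimensional (ZMod p) W)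
      (ρ : G ⧸ Subgroup.centralizer (V : Set G) →* Module.End (ZMod p) W)
      (emb : Multiplicative W →* G),
        Function.Injective emb ∧ (∀ w, emb w ∈ V) ∧
        (∀ (g : G) (w : W), emb (Multiplicative.ofAdd (ρ (QuotientGroup.mk g) w)) =
          g * emb (Multiplicative.ofAdd w) * g⁻¹) ∧
        Function.Injective ρ ∧ ∀ g : G, ⁅⁅V, Subgroup.zpowers g⁆, Subgroup.zpowers g⁆ = ⊥ →
          (ρ (QuotientGroup.mk g) - 1) * (ρ (QuotientGroup.mk g) - 1) = 0 := by
  have : IsMulCommutative V := hV.1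
  letI : CommGroup V := { (inferInstance : Group V) with mul_comm := this.is_comm.comm }
  letI : Module (ZMod p) (Additive V) := AddCommGroup.zmodModule fun x =>
    Additive.toMul.injective (Subtype.ext (hV.2 _ (Additive.toMul x).2))
  let emb : Multiplicative (Additive V) →* G :=
    { toFun := fun w => ((Additive.toMul (Multiplicative.toAdd w) : V) : G)
      map_one' := rfl
      map_mul' := fun _ _ => rfl }
  have hinj : Function.Injective emb := fun x y h =>
    Multiplicative.toAdd.injective (Additive.toMul.injective (Subtype.ext h))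
  obtain ⟨ρ, h1, h2, h3⟩ := exists_rep_conj (p := p) V emb hinj
    (fun v => ⟨fun hv => ⟨Multiplicative.ofAdd (Additive.ofMul ⟨v, hv⟩), rfl⟩,
      by rintro ⟨w, rfl⟩; exact (Additive.toMul (Multiplicative.toAdd w) : V).2⟩)
    (fun g => MonoidHom.toAdditive (MulAut.conjNormal g : MulAut V).toMonoidHom)
    (fun g v => MulAut.conjNormal_apply g _)
  exact ⟨Additive V, inferInstance, inferInstance, Module.Finite.of_finite, ρ, emb, hinj,
    fun w => (Additive.toMul (Multiplicative.toAdd w) : V).2, h1, h2, h3⟩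

theorem exists_rep_quotient {G : Type u} [Group G] [Finite G] (V : Subgroup G) [V.Normal]
    (hV : Cfsg.IsElementaryAbelian p V) :
    ∃ (W : Type u) (_ : AddCommGroup W) (_ : Module (ZMod p) W) (_ : FiniteDimensional (ZMod p) W)
      (ρ : G ⧸ Subgroup.centralizer (V : Set G) →* Module.End (ZMod p) W),
        Function.Injective ρ ∧ ∀ g : G, ⁅⁅V, Subgroup.zpowers g⁆, Subgroup.zpowers g⁆ = ⊥ →
          (ρ (QuotientGroup.mk g) - 1) * (ρ (QuotientGroup.mk g) - 1) = 0 := by
  obtain ⟨W, i1, i2, i3, ρ, -, -, -, -, hρ, hsq⟩ := exists_rep_quotient' V hV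
  exact ⟨W, i1, i2, i3, ρ, hρ, hsq⟩

/-- If a normal elementary abelian `p`-subgroup is not `p`-stably acted on, `SL(2, p)` is a section
of the acting group. -/
theorem exists_sl2_of_not_isPStableOn {G : Type u} [Group G] [Finite G] (hp2 : p ≠ 2)
    (V : Subgroup G) [V.Normal] (hV : Cfsg.IsElementaryAbelian p V)
    (hns : ¬ Cfsg.IsPStableOn p V) :
    ∃ (M : Subgroup (G ⧸ Subgroup.centralizer (V : Set G))) (f : M →* SL(2, ZMod p)),
      Function.Surjective f := by
  unfold Cfsg.IsPStableOn at hns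
  push Not at hns
  obtain ⟨a, hq, hna⟩ := hns
  obtain ⟨W, hW1, hW2, hW3, ρ, hρ, hsq⟩ := exists_rep_quotient V hV
  exact exists_sl2_of_rep hp2 ρ hρ (hsq a hq) hna

end CfsgLib.PLocal
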