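import Cfsg.Agent.Lib.PLocal.Thompson
import Cfsg.Agent.Lib.PLocal.StableBasic
import Cfsg.Agent.Lib.PLocal5.Quadratic
import Cfsg.Prelude.Def_PLocal

/-!
The stable normal closure `W(S)` of `Ω₁(Z(S))`.
-/

set_option autoImplicit false
set_option linter.unusedSectionVars false

open scoped commutatorElement

namespace CfsgLib.PLocal

universe u

section Quad

variable {G : Type*} [Group G]

theorem quadratic_iff {V : Subgroup G} {a : G} :
    ⁅⁅V, Subgroup.zpowers a⁆, Subgroup.zpowers a⁆ = ⊥ ↔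
      ∀ v ∈ V, a * ⁅v, a⁆ = ⁅v, a⁆ * a := by
  constructor
  · exact fun h v hv => CfsgLib.Quadratic.quadratic_commute h hv (Subgroup.mem_zpowers a)
      (Subgroup.mem_zpowers a)
  · intro h
    rw [Subgroup.commutator_eq_bot_iff_le_centralizer, Subgroup.commutator_le]
    rintro v hv _ ⟨n, rfl⟩
    rw [CfsgLib.Quadratic.mem_centralizer_zpowers]
    induction n using Int.induction_on with
    | zero => simp
    | succ n ih =>
      have e : ⁅v, a ^ ((n : ℤ) + 1)⁆ = ⁅v, a⁆ * (a * ⁅v, a ^ (n : ℤ)⁆ * a⁻¹) := by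
        rw [add_comm, zpow_add, zpow_one]; simp only [commutatorElement_def]; group
      rw [show (fun x => a ^ x) ((n : ℤ) + 1) = a ^ ((n : ℤ) + 1) from rfl, e]
      exact (Commute.mul_right (h v hv)
        (((Commute.refl a).mul_right ih).mul_right (Commute.refl a).inv_right)).eq
    | pred n ih =>
      have e : ⁅v, a ^ (-(n : ℤ) - 1)⁆ = a⁻¹ * (⁅v, a⁆⁻¹ * ⁅v, a ^ (-(n : ℤ))⁆) * a := by
        rw [show (-(n : ℤ)) = 1 + (-(n : ℤ) - 1) by ring, zpow_add, zpow_one,
          show (1 + (-(n : ℤ) - 1) - 1) = (-(n : ℤ) - 1) by ring]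
        simp only [commutatorElement_def]; group
      rw [show (fun x => a ^ x) (-(n : ℤ) - 1) = a ^ (-(n : ℤ) - 1) from rfl, e]
      exact (((Commute.refl a).inv_right.mul_right
        ((Commute.inv_right (h v hv)).mul_right ih)).mul_right (Commute.refl a)).eq

theorem centralizes_iff {V : Subgroup G} {a : G} :
    ⁅V, Subgroup.zpowers a⁆ = ⊥ ↔ ∀ v ∈ V, a * v = v * a := by
  rw [Subgroup.commutator_eq_bot_iff_le_centralizer]
  exact ⟨fun h v hv => CfsgLib.Quadratic.mem_centralizer_zpowers.1 (h hv),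
    fun h v hv => CfsgLib.Quadratic.mem_centralizer_zpowers.2 (h v hv)⟩

/-- Quadratic action only depends on the coset modulo the centralizer. -/
theorem quadratic_of_mul {V : Subgroup G} [V.Normal] {c s : G}
    (hc : c ∈ Subgroup.centralizer (V : Set G))
    (h : ∀ v ∈ V, c * s * ⁅v, c * s⁆ = ⁅v, c * s⁆ * (c * s)) :
    ∀ v ∈ V, s * ⁅v, s⁆ = ⁅v, s⁆ * s := by
  intro v hv
  have hsV : ⁅v, s⁆ ∈ V := CfsgLib.Quadratic.commutator_mem hv
    (by rw [Subgroup.normalizer_eq_top V]; trivial)
  have h1 := Subgroup.mem_centralizer_iff.1 hc v hv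
  have h3 := Subgroup.mem_centralizer_iff.1 hc _ hsV
  have e : ⁅v, c * s⁆ = ⁅v, s⁆ := by
    calc ⁅v, c * s⁆ = v * c * s * v⁻¹ * (c * s)⁻¹ := by rw [commutatorElement_def]; group
      _ = c * ⁅v, s⁆ * c⁻¹ := by rw [h1, commutatorElement_def]; group
      _ = ⁅v, s⁆ := by rw [← h3, mul_inv_cancel_right]
  have h4 := h v hv
  rw [e, ← mul_assoc (⁅v, s⁆) c s, h3, mul_assoc, mul_assoc] at h4
  exact mul_left_cancel h4

end Quad

variable {p : ℕ} {S : Type u} [Group S]

/-- Every element quadratic on `U` centralizes it. -/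
def QuadCentral (U : Subgroup S) : Prop :=
  ∀ x : S, (∀ u ∈ U, x * ⁅u, x⁆ = ⁅u, x⁆ * x) → ∀ u ∈ U, x * u = u * x

/-- The family defining the stable normal closure. -/
def stableFamily (p : ℕ) (S : Type u) [Group S] : Set (Subgroup S) :=
  {W : Subgroup S | Cfsg.omegaOne p (Subgroup.center S) ≤ W ∧
    ∀ (H : Type u) [Group H] (τ : S →* H), Cfsg.IsStableEmbedding p τ → (W.map τ).Normal}

theorem stableNormalClosure_eq : Cfsg.stableNormalClosure p S = sInf (stableFamily p S) := rfl

theorem center_omegaOne_le_omegaCenterThompson [Finite S] :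
    Cfsg.omegaOne p (Subgroup.center S) ≤ Cfsg.omegaCenterThompson p S := by
  rw [omegaCenterThompson_eq]
  refine le_trans (omegaOne_mono ?_) (omegaOne_inf_centralizer_le p (⊤ : Subgroup S))
  intro x hx
  exact ⟨Subgroup.mem_top x, Subgroup.mem_centralizer_iff.2 fun y _ => Subgroup.mem_center_iff.1 hx y⟩

theorem omegaCenterThompson_mem_stableFamily [Finite S] :
    Cfsg.omegaCenterThompson p S ∈ stableFamily p S := by
  refine ⟨center_omegaOne_le_omegaCenterThompson, fun H _ τ hτ => ?_⟩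
  have hJ := hτ.2.2.2.2.1
  rw [thompsonSubgroup_eq] at hJ
  rw [omegaCenterThompson_eq, ← omegaOne_map hτ.1]
  have e : (centerJ p (⊤ : Subgroup S)).map τ = (thompson p (⊤ : Subgroup S)).map τ ⊓
      Subgroup.centralizer ((thompson p (⊤ : Subgroup S)).map τ : Set H) := by
    rw [← centerJ_map hτ.1, centerJ, thompson_map hτ.1]
  rw [← Subgroup.normalizer_eq_top_iff, eq_top_iff]
  refine le_trans ?_ (normalizer_le_normalizer_omegaOne p _)
  rw [e]
  haveI := hJ
  rw [Subgroup.normalizer_eq_top]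

theorem stableNormalClosure_le_omegaCenterThompson [Finite S] :
    Cfsg.stableNormalClosure p S ≤ Cfsg.omegaCenterThompson p S :=
  sInf_le omegaCenterThompson_mem_stableFamily

theorem omegaOne_center_le_stableNormalClosure :
    Cfsg.omegaOne p (Subgroup.center S) ≤ Cfsg.stableNormalClosure p S :=
  le_sInf fun _ hW => hW.1

theorem stableNormalClosure_mem_stableFamily :
    Cfsg.stableNormalClosure p S ∈ stableFamily p S := by
  refine ⟨omegaOne_center_le_stableNormalClosure, fun H _ τ hτ => ⟨?_⟩⟩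
  rintro _ ⟨w, hw, rfl⟩ g
  have key : ∀ W ∈ stableFamily p S, g * τ w * g⁻¹ ∈ W.map τ := fun W hW =>
    (hW.2 H τ hτ).conj_mem _ ⟨w, Subgroup.mem_sInf.1 hw W hW, rfl⟩ g
  by_cases hne : (stableFamily p S).Nonempty
  · obtain ⟨W₀, hW₀⟩ := hne
    obtain ⟨w', -, hw'⟩ := key W₀ hW₀
    refine ⟨w', Subgroup.mem_sInf.2 fun W hW => ?_, hw'⟩
    obtain ⟨w'', hw'', e⟩ := key W hW
    exact hτ.1 (e.trans hw'.symm) ▸ hw''
  · haveI := hτ.2.1
    haveI : Finite S := Finite.of_injective τ hτ.1
    exact absurd ⟨_, omegaCenterThompson_mem_stableFamily⟩ hne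

theorem stableNormalClosure_normal_map {H : Type u} [Group H] {τ : S →* H}
    (hτ : Cfsg.IsStableEmbedding p τ) : ((Cfsg.stableNormalClosure p S).map τ).Normal :=
  stableNormalClosure_mem_stableFamily.2 H τ hτ

/-- The key property of the stable normal closure. -/
theorem quadCentral_stableNormalClosure [Finite S] [Fact p.Prime] :
    QuadCentral (Cfsg.stableNormalClosure p S) := by
  set W := Cfsg.stableNormalClosure p S with hW
  set P₀ : Set (Subgroup S) :=
    {U | Cfsg.omegaOne p (Subgroup.center S) ≤ U ∧ U ≤ W ∧ QuadCentral U} with hP₀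
  have hbase : Cfsg.omegaOne p (Subgroup.center S) ∈ P₀ := by
    refine ⟨le_rfl, omegaOne_center_le_stableNormalClosure, fun x _ u hu => ?_⟩
    exact Subgroup.mem_center_iff.1 (omegaOne_le p _ hu) x
  obtain ⟨U, hU⟩ := Set.Finite.exists_maximal (Set.toFinite P₀) ⟨_, hbase⟩
  obtain ⟨hU1, hU2, hU3⟩ := hU.1
  suffices hUW : W ≤ U by
    have : U = W := le_antisymm hU2 hUW
    exact this ▸ hU3
  refine sInf_le ⟨hU1, fun H _ τ hτ => ?_⟩
  haveI := hτ.2.1
  set N := Subgroup.normalClosure ((U.map τ : Subgroup H) : Set H) with hN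
  haveI hWn : (W.map τ).Normal := stableNormalClosure_normal_map hτ
  have hNW : N ≤ W.map τ := Subgroup.normalClosure_le_normal (Subgroup.map_mono hU2)
  have hNr : N ≤ τ.range := hNW.trans (Subgroup.map_le_range τ W)
  have hN' : (N.comap τ).map τ = N := Subgroup.map_comap_eq_self hNr
  have hUN : U ≤ N.comap τ := fun u hu => Subgroup.subset_normalClosure ⟨u, hu, rfl⟩
  have hU' : N.comap τ ∈ P₀ := by
    refine ⟨hU1.trans hUN, fun u hu => ?_, fun x hx => ?_⟩
    · obtain ⟨w, hw, e⟩ := hNW hu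
      exact hτ.1 e ▸ hw
    -- `τ x` acts quadratically on `N`, hence lies in `stabD`
    obtain ⟨P, hP⟩ := hτ.2.2.1
    have hstab : Cfsg.IsPStableOn p N := hτ.2.2.2.2.2 N
      (hNW.trans (Subgroup.map_mono stableNormalClosure_le_omegaCenterThompson))
    have hq : ∀ v ∈ N, τ x * ⁅v, τ x⁆ = ⁅v, τ x⁆ * τ x := by
      intro v hv
      obtain ⟨u, rfl⟩ := hNr hv
      rw [← map_commutatorElement, ← map_mul, ← map_mul, hx u hv]
    have hxD := isPStableOn_iff_stabD.1 hstab (τ x) (quadratic_iff.2 hq)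
    haveI := stabD_normal p N
    have hall : ∀ h : H, ∀ u ∈ U, h * τ x * h⁻¹ * τ u = τ u * (h * τ x * h⁻¹) := by
      intro h u hu
      have ha : h * τ x * h⁻¹ ∈ stabD p N := (stabD_normal p N).conj_mem _ hxD h
      obtain ⟨c, hc, s, hs, e⟩ := Subgroup.mem_sup_of_normal_left.1 (stabD_le_sup N P ha)
      obtain ⟨y, rfl⟩ : s ∈ τ.range := hP ▸ hs.1
      have hq' : ∀ v ∈ N, h * τ x * h⁻¹ * ⁅v, h * τ x * h⁻¹⁆ =
          ⁅v, h * τ x * h⁻¹⁆ * (h * τ x * h⁻¹) := by
        intro v hv
        have hv' : h⁻¹ * v * h ∈ N := by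
          have := Subgroup.normalClosure_normal.conj_mem v hv h⁻¹
          rwa [inv_inv] at this
        have h5 := congrArg (fun z => h * z * h⁻¹) (hq _ hv')
        simp only [commutatorElement_def] at h5 ⊢
        simpa [mul_assoc] using h5
      rw [← e] at hq' ⊢
      have hy : ∀ w ∈ U, y * ⁅w, y⁆ = ⁅w, y⁆ * y := fun w hw => hτ.1 (by
        rw [map_mul, map_mul, map_commutatorElement]
        exact quadratic_of_mul hc hq' (τ w) (hUN hw))
      have h6 := congrArg τ (hU3 y hy u hu)
      rw [map_mul, map_mul] at h6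
      rw [mul_assoc, h6, ← mul_assoc, ← Subgroup.mem_centralizer_iff.1 hc _ (hUN hu), mul_assoc]
    have hcen : N ≤ Subgroup.centralizer {τ x} := by
      rw [hN, Subgroup.normalClosure, Subgroup.closure_le]
      intro z hz
      obtain ⟨_, ⟨u, hu, rfl⟩, hz'⟩ := Group.mem_conjugatesOfSet_iff.1 hz
      obtain ⟨g, rfl⟩ := isConj_iff.1 hz'
      rw [SetLike.mem_coe, Subgroup.mem_centralizer_iff]
      rintro _ rfl
      have h7 := congrArg (fun w => g * w * g⁻¹) (hall g⁻¹ u hu)
      simpa [mul_assoc] using h7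
    intro u hu
    apply hτ.1
    rw [map_mul, map_mul]
    exact Subgroup.mem_centralizer_iff.1 (hcen hu) _ rfl
  have hEq : N.comap τ = U := le_antisymm (hU.2 hU' hUN) hUN
  rw [← hEq, hN']
  exact Subgroup.normalClosure_normal

/-- Equivariance. -/
theorem isStableEmbedding_comp_equiv {S' : Type u} [Group S'] [Finite S] (η : S ≃* S')
    {H : Type u} [Group H] {τ : S' →* H} (hτ : Cfsg.IsStableEmbedding p τ) :
    Cfsg.IsStableEmbedding p (τ.comp η.toMonoidHom) := by
  obtain ⟨h1, h2, ⟨P, hP⟩, h4, h5, h6⟩ := hτ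
  have hJ : (Cfsg.thompsonSubgroup p S).map η.toMonoidHom = Cfsg.thompsonSubgroup p S' := by
    rw [thompsonSubgroup_eq, thompsonSubgroup_eq, ← thompson_map η.injective,
      Subgroup.map_top_of_surjective η.toMonoidHom η.surjective]
  have hO : (Cfsg.omegaCenterThompson p S).map η.toMonoidHom = Cfsg.omegaCenterThompson p S' := by
    rw [omegaCenterThompson_eq, omegaCenterThompson_eq, ← omegaOne_map η.injective,
      ← centerJ_map η.injective, Subgroup.map_top_of_surjective η.toMonoidHom η.surjective]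
  refine ⟨h1.comp η.injective, h2, ⟨P, ?_⟩, h4, ?_, fun V _ hV => h6 V ?_⟩
  · rw [hP, MonoidHom.range_comp, (MonoidHom.range_eq_top (f := η.toMonoidHom)).2 η.surjective, ← MonoidHom.range_eq_map]
  · rwa [← Subgroup.map_map, hJ]
  · rwa [← Subgroup.map_map, hO] at hV

theorem omegaOne_center_map {S' : Type u} [Group S'] (η : S ≃* S') :
    (Cfsg.omegaOne p (Subgroup.center S)).map η.toMonoidHom =
      Cfsg.omegaOne p (Subgroup.center S') := by
  rw [← omegaOne_map η.injective]
  congr 1
  ext y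
  rw [Subgroup.mem_map, Subgroup.mem_center_iff]
  constructor
  · rintro ⟨x, hx, rfl⟩ z
    obtain ⟨w, rfl⟩ := η.surjective z
    show η w * η x = η x * η w
    rw [← map_mul, ← map_mul, Subgroup.mem_center_iff.1 hx w]
  · intro hy
    obtain ⟨x, rfl⟩ := η.surjective y
    exact ⟨x, Subgroup.mem_center_iff.2 fun z => η.injective (by rw [map_mul, map_mul, hy]), rfl⟩

theorem stableNormalClosure_map_le {S' : Type u} [Group S'] [Finite S] (η : S ≃* S') :
    Cfsg.stableNormalClosure p S' ≤ (Cfsg.stableNormalClosure p S).map η.toMonoidHom := by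
  refine sInf_le ⟨?_, fun H _ τ hτ => ?_⟩
  · rw [← omegaOne_center_map η]
    exact Subgroup.map_mono omegaOne_center_le_stableNormalClosure
  · rw [Subgroup.map_map]
    exact stableNormalClosure_normal_map (isStableEmbedding_comp_equiv η hτ)

theorem stableNormalClosure_map {S' : Type u} [Group S'] [Finite S] (η : S ≃* S') :
    (Cfsg.stableNormalClosure p S).map η.toMonoidHom = Cfsg.stableNormalClosure p S' := by
  refine le_antisymm ?_ (stableNormalClosure_map_le η)
  haveI : Finite S' := Finite.of_equiv S η.toEquiv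
  have h := Subgroup.map_mono (f := η.toMonoidHom) (stableNormalClosure_map_le (p := p) η.symm)
  rwa [Subgroup.map_map, show η.toMonoidHom.comp η.symm.toMonoidHom = MonoidHom.id S' from
    MonoidHom.ext fun x => η.apply_symm_apply x, Subgroup.map_id] at h

theorem stableNormalClosure_characteristic [Finite S] :
    (Cfsg.stableNormalClosure p S).Characteristic :=
  Subgroup.characteristic_iff_map_eq.2 fun φ => stableNormalClosure_map φ

theorem stableNormalClosure_ne_bot [Finite S] [Fact p.Prime] [Nontrivial S] (hS : IsPGroup p S) :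
    Cfsg.stableNormalClosure p S ≠ ⊥ := by
  intro h
  obtain ⟨⟨z, hz⟩, hz1⟩ : ∃ z : Subgroup.center S, orderOf z = p := by
    refine exists_prime_orderOf_dvd_card' p ?_
    haveI := hS.center_nontrivial
    obtain ⟨n, hn, hc⟩ := (hS.to_subgroup (Subgroup.center S)).nontrivial_iff_card.1 inferInstance
    rw [hc]
    exact dvd_pow_self p (by omega)
  rw [Subgroup.orderOf_mk] at hz1
  have := omegaOne_center_le_stableNormalClosure (p := p)
    (mem_omegaOne hz (hz1 ▸ pow_orderOf_eq_one z))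
  rw [h, Subgroup.mem_bot] at this
  rw [this, orderOf_one] at hz1
  exact (Fact.out : p.Prime).one_lt.ne hz1

end CfsgLib.PLocal
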