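import Cfsg.Agent.Lib.PLocal.StableClosure
import Cfsg.Agent.Lib.PLocal5.MaxOffender
import Cfsg.Agent.Lib.Coprime.Commutator
import Cfsg.Agent.Lib.Techniques.Basic

/-!
In an action `p`-stable group of characteristic `p` the stable normal closure of a Sylow subgroup is
normal.
-/

set_option autoImplicit false
set_option linter.unusedSectionVars false

open scoped commutatorElement

namespace CfsgLib.PLocal

universe u

variable {p : ℕ} [hp : Fact p.Prime] {G : Type u} [Group G] [Finite G]

/-- `W(S)` seen in `G`. -/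
def stableW (p : ℕ) (S : Subgroup G) : Subgroup G :=
  (Cfsg.stableNormalClosure p S).map S.subtype

theorem stableW_le (S : Subgroup G) : stableW p S ≤ S := Subgroup.map_subtype_le _

theorem le_normalizer_stableW (S : Subgroup G) :
    S ≤ Subgroup.normalizer (stableW p S : Set G) := by
  haveI := stableNormalClosure_characteristic (p := p) (S := S)
  have h := Subgroup.le_normalizer_map S.subtype (H := Cfsg.stableNormalClosure p S)
  rw [Subgroup.normalizer_eq_top (Cfsg.stableNormalClosure p S), ← MonoidHom.range_eq_map,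
    Subgroup.range_subtype] at h
  exact h

theorem stableW_elemAb (S : Subgroup G) : Cfsg.IsElementaryAbelian p (stableW p S) :=
  elemAb_of_le (omegaOne_centerJ_elemAb p S) ((Subgroup.map_mono
    stableNormalClosure_le_omegaCenterThompson).trans (map_omegaCenterThompson p S).le)

theorem quadCentral_stableW {S : Subgroup G} {x : G} (hx : x ∈ S)
    (h : ∀ w ∈ stableW p S, x * ⁅w, x⁆ = ⁅w, x⁆ * x) :
    ∀ w ∈ stableW p S, x * w = w * x := by
  rintro _ ⟨w, hw, rfl⟩
  refine congrArg Subtype.val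
    (quadCentral_stableNormalClosure ⟨x, hx⟩ (fun u hu => Subtype.ext ?_) w hw)
  exact h _ ⟨u, hu, rfl⟩

theorem sectionKernel_isPGroup
    [((frattini ↥(Cfsg.pCore p G)).map (Cfsg.pCore p G).subtype).Normal]
    (hc : Subgroup.centralizer (Cfsg.pCore p G : Set G) ≤ Cfsg.pCore p G) :
    IsPGroup p (Cfsg.sectionKernel (Cfsg.pCore p G)
      ((frattini ↥(Cfsg.pCore p G)).map (Cfsg.pCore p G).subtype)) := by
  haveI := Cfsg.pCore_normal p G
  set Q := Cfsg.pCore p G
  set Φ := (frattini ↥Q).map Q.subtype with hΦ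
  have hQ : IsPGroup p Q := CfsgLib.PCore.pCore_isPGroup
  rintro ⟨c, hc'⟩
  obtain ⟨j, m, hm, hord⟩ :=
    Nat.exists_eq_pow_mul_and_not_dvd (orderOf_pos c).ne' p hp.out.ne_one
  refine ⟨j, Subtype.ext ?_⟩
  show c ^ p ^ j = 1
  have hom : orderOf (c ^ p ^ j) = m := by
    rw [orderOf_pow, hord, Nat.gcd_mul_right_left,
      Nat.mul_div_cancel_left _ (pow_pos hp.out.pos j)]
  have hle : Subgroup.zpowers (c ^ p ^ j) ≤ Subgroup.centralizer (Q : Set G) := by
    refine CfsgLib.Coprime.le_centralizer_of_trivial_on_frattini _ Q ?_ ?_ ?_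
    · rw [Subgroup.normalizer_eq_top Q]; exact le_top
    · obtain ⟨n, hn⟩ := IsPGroup.iff_card.mp (hQ.to_subgroup (frattini ↥Q))
      rw [hn, Nat.card_zpowers, hom]
      exact ((hp.out.coprime_iff_not_dvd.mpr hm).symm).pow_right n
    · intro x hx y hy
      have hxV : x ∈ Cfsg.sectionKernel Q Φ :=
        Subgroup.zpowers_le.2 (pow_mem hc' _) hx
      have e := Subgroup.mem_centralizer_iff.mp hxV _ ⟨y, hy, rfl⟩
      refine (QuotientGroup.eq_one_iff _).mp ?_
      show QuotientGroup.mk' Φ (x * y * x⁻¹ * y⁻¹) = 1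
      rw [map_mul, map_mul, map_mul, map_inv, map_inv, ← e, mul_inv_cancel_right, mul_inv_cancel]
  obtain ⟨k, hk⟩ := hQ ⟨c ^ p ^ j, hc (hle (Subgroup.mem_zpowers _))⟩
  have hk' : orderOf (c ^ p ^ j) ∣ p ^ k :=
    orderOf_dvd_of_pow_eq_one (congrArg Subtype.val hk)
  rw [hom] at hk'
  have : m = 1 := Nat.eq_one_of_dvd_coprimes ((hp.out.coprime_iff_not_dvd.mpr hm).pow_left k) hk'
    dvd_rfl
  exact orderOf_eq_one_iff.1 (hom.trans this)

theorem stableW_le_pCore (hst : Cfsg.IsActionPStable p G)
    (hc : Subgroup.centralizer (Cfsg.pCore p G : Set G) ≤ Cfsg.pCore p G) (S : Sylow p G) :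
    stableW p (S : Subgroup G) ≤ Cfsg.pCore p G := by
  haveI := Cfsg.pCore_normal p G
  haveI : ((frattini ↥(Cfsg.pCore p G)).map (Cfsg.pCore p G).subtype).Normal := inferInstance
  intro w hw
  haveI := (stableW_elemAb (p := p) (S : Subgroup G)).1
  have hq : ⁅⁅Cfsg.pCore p G, Subgroup.zpowers w⁆, Subgroup.zpowers w⁆ = ⊥ :=
    quadratic_of_normalizes
      ((CfsgLib.PCore.pCore_le_sylow S).trans (le_normalizer_stableW _)) hw
  obtain ⟨D, hDn, hCD, ⟨k, hk⟩, hwD⟩ := hst.2.1 w (hq.le.trans bot_le)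
  refine CfsgLib.PCore.le_pCore hDn (fun x => ?_) hwD
  obtain ⟨i, hi⟩ := IsPGroup.iff_card.1 (sectionKernel_isPGroup hc)
  refine (IsPGroup.of_card (n := i + k) ?_) x
  rw [pow_add, ← hi, ← hk, ← Subgroup.relIndex_bot_left, ← Subgroup.relIndex_bot_left]
  exact (Subgroup.relIndex_mul_relIndex _ _ D bot_le hCD).symm

/-- The stable normal closure is normal. -/
theorem stableW_normal (hst : Cfsg.IsActionPStable p G)
    (hc : Subgroup.centralizer (Cfsg.pCore p G : Set G) ≤ Cfsg.pCore p G) (S : Sylow p G) :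
    (stableW p (S : Subgroup G)).Normal := by
  haveI := Cfsg.pCore_normal p G
  set W := stableW p (S : Subgroup G) with hW
  have hWQ : W ≤ Cfsg.pCore p G := stableW_le_pCore hst hc S
  have hWel : Cfsg.IsElementaryAbelian p W := stableW_elemAb _
  have hQS : Cfsg.pCore p G ≤ (S : Subgroup G) := CfsgLib.PCore.pCore_le_sylow S
  -- conjugates of `W` commute
  have hconjW : ∀ (g : G), ∀ y ∈ W, ∀ w ∈ W, g * y * g⁻¹ * w = w * (g * y * g⁻¹) := by
    intro g y hy w hw
    set y' := g * y * g⁻¹ with hy'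
    have hy'Q : y' ∈ Cfsg.pCore p G := (Cfsg.pCore_normal p G).conj_mem _ (hWQ hy) g
    refine quadCentral_stableW (hQS hy'Q) (fun v hv => ?_) w hw
    have h1 : g⁻¹ * v * g ∈ Cfsg.pCore p G := by
      have := (Cfsg.pCore_normal p G).conj_mem _ (hWQ hv) g⁻¹
      rwa [inv_inv] at this
    have h2 : ⁅g⁻¹ * v * g, y⁆ ∈ W := by
      have h3 := (Subgroup.mem_normalizer_iff.1 (le_normalizer_stableW _ (hQS h1)) y).1 hy
      rw [commutatorElement_def]
      exact mul_mem h3 (inv_mem hy)
    have h4 := congrArg (fun z => g * z * g⁻¹) (elemAb_commute hWel hy h2)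
    simp only [commutatorElement_def, hy'] at h4 ⊢
    simpa [mul_assoc] using h4
  set U := Subgroup.normalClosure (W : Set G) with hU
  haveI : U.Normal := Subgroup.normalClosure_normal
  have hWU : W ≤ U := Subgroup.le_normalClosure
  have hUQ : U ≤ Cfsg.pCore p G := Subgroup.normalClosure_le_normal hWQ
  have hUel : Cfsg.IsElementaryAbelian p U := by
    refine elemAb_closure ?_ ?_
    · intro a ha b hb
      obtain ⟨a', ha', ha''⟩ := Group.mem_conjugatesOfSet_iff.1 ha
      obtain ⟨g, rfl⟩ := isConj_iff.1 ha''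
      obtain ⟨b', hb', hb''⟩ := Group.mem_conjugatesOfSet_iff.1 hb
      obtain ⟨h, rfl⟩ := isConj_iff.1 hb''
      have := congrArg (fun z => h * z * h⁻¹) (hconjW (h⁻¹ * g) a' ha' b' hb')
      simpa [mul_assoc] using this
    · intro a ha
      obtain ⟨a', ha', ha''⟩ := Group.mem_conjugatesOfSet_iff.1 ha
      obtain ⟨g, rfl⟩ := isConj_iff.1 ha''
      rw [conj_pow, hWel.2 a' ha', mul_one, mul_inv_cancel]
  -- quadratic elements of `S` centralize `U`
  have hstab : Cfsg.IsPStableOn p U := hst.1 U hUel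
  haveI := stabD_normal p U
  have hquad : ∀ x ∈ (S : Subgroup G), (∀ v ∈ U, x * ⁅v, x⁆ = ⁅v, x⁆ * x) →
      x ∈ Subgroup.centralizer (U : Set G) := by
    intro x hx hq
    have hxD := isPStableOn_iff_stabD.1 hstab x (quadratic_iff.2 hq)
    have hall : ∀ g : G, ∀ w ∈ W, g * x * g⁻¹ * w = w * (g * x * g⁻¹) := by
      intro g w hw
      have ha : g * x * g⁻¹ ∈ stabD p U := (stabD_normal p U).conj_mem _ hxD g
      obtain ⟨c, hc', s, hs, e⟩ := Subgroup.mem_sup_of_normal_left.1 (stabD_le_sup U S ha)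
      have hq' : ∀ v ∈ U, g * x * g⁻¹ * ⁅v, g * x * g⁻¹⁆ =
          ⁅v, g * x * g⁻¹⁆ * (g * x * g⁻¹) := by
        intro v hv
        have hv' : g⁻¹ * v * g ∈ U := by
          have := (inferInstance : U.Normal).conj_mem v hv g⁻¹
          rwa [inv_inv] at this
        have h5 := congrArg (fun z => g * z * g⁻¹) (hq _ hv')
        simp only [commutatorElement_def] at h5 ⊢
        simpa [mul_assoc] using h5
      rw [← e] at hq' ⊢
      have h6 := quadCentral_stableW hs.1
        (fun v hv => quadratic_of_mul hc' hq' v (hWU hv)) w hw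
      rw [mul_assoc, h6, ← mul_assoc, ← Subgroup.mem_centralizer_iff.1 hc' _ (hWU hw), mul_assoc]
    have : U ≤ Subgroup.centralizer {x} := by
      rw [hU, Subgroup.normalClosure, Subgroup.closure_le]
      intro z hz
      obtain ⟨w, hw, hz'⟩ := Group.mem_conjugatesOfSet_iff.1 hz
      obtain ⟨g, rfl⟩ := isConj_iff.1 hz'
      rw [SetLike.mem_coe, Subgroup.mem_centralizer_iff]
      rintro _ rfl
      have h7 := congrArg (fun v => g * v * g⁻¹) (hall g⁻¹ w hw)
      simpa [mul_assoc] using h7
    exact Subgroup.mem_centralizer_iff.2 fun v hv =>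
      (Subgroup.mem_centralizer_iff.1 (this hv) x rfl).symm
  -- `J(S) ≤ C(U)`
  have hJ : Cfsg.thompsonSubgroupOf p (S : Subgroup G) ≤ Subgroup.centralizer (U : Set G) := by
    rw [Cfsg.thompsonSubgroupOf, Cfsg.thompsonSubgroup, Subgroup.map_le_iff_le_comap, sSup_le_iff]
    intro A hA
    set U' := U.subgroupOf (S : Subgroup G) with hU'
    haveI : U'.Normal := (inferInstance : U.Normal).subgroupOf _
    have hU'el : Cfsg.IsElementaryAbelian p U' :=
      (elemAb_map_iff (S : Subgroup G).subtype_injective).1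
        (elemAb_of_le hUel (Subgroup.map_le_iff_le_comap.2 le_rfl))
    obtain ⟨-, hq, hne⟩ := CfsgLib.MaxOffender.replacement hU'el hA
    set A' := ⁅U', A⁆ ⊔ (A ⊓ Subgroup.centralizer ((⁅U', A⁆ : Subgroup (S : Subgroup G)) : Set (S : Subgroup G)))
    have h0 : ⁅U', A⁆ = ⊥ := by
      by_contra hnb
      apply hne hnb
      rw [Subgroup.commutator_comm, Subgroup.commutator_eq_bot_iff_le_centralizer]
      intro a ha
      have haq : ∀ v ∈ U, (a : G) * ⁅v, (a : G)⁆ = ⁅v, (a : G)⁆ * (a : G) := fun v hv =>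
        congrArg Subtype.val (CfsgLib.Quadratic.quadratic_commute hq
          (show (⟨v, hQS (hUQ hv)⟩ : (S : Subgroup G)) ∈ U' from hv) ha ha)
      exact Subgroup.mem_centralizer_iff.2 fun v hv => Subtype.ext
        (Subgroup.mem_centralizer_iff.1 (hquad _ a.2 haq) _ hv)
    intro a ha
    rw [Subgroup.commutator_comm, Subgroup.commutator_eq_bot_iff_le_centralizer] at h0
    exact Subgroup.mem_centralizer_iff.2 fun v hv => congrArg Subtype.val
      (Subgroup.mem_centralizer_iff.1 (h0 ha) ⟨v, hQS (hUQ hv)⟩ hv)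
  -- Frattini
  set J := Cfsg.thompsonSubgroupOf p (S : Subgroup G) with hJdef
  set N := Subgroup.normalizer (J : Set G) with hN
  set C := Subgroup.centralizer (U : Set G) with hC
  have htop : C ⊔ N = ⊤ := by
    rw [eq_top_iff, ← CfsgLib.Techniques.sup_normalizer_inf_eq_top S C]
    refine sup_le le_sup_left (le_trans ?_ le_sup_right)
    have hTJ : thompson p ((S : Subgroup G) ⊓ C) = thompson p (S : Subgroup G) := by
      refine thompson_eq_of_le inf_le_left (le_inf (thompson_le _ _) ?_)
      rw [← thompsonSubgroupOf_eq]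
      exact hJ
    rw [hN, hJdef, thompsonSubgroupOf_eq, ← hTJ]
    exact normalizer_le_normalizer_thompson p _
  -- the embedding `S → N`
  have hSN : (S : Subgroup G) ≤ N := by
    rw [hN, hJdef, thompsonSubgroupOf_eq]
    exact le_normalizer_thompson p _
  let τ : (S : Subgroup G) →* N := Subgroup.inclusion hSN
  have hτ : Cfsg.IsStableEmbedding p τ := by
    have hrange : τ.range = (S : Subgroup G).subgroupOf N := Subgroup.inclusion_range hSN
    refine ⟨Subgroup.inclusion_injective hSN, inferInstance, ⟨S.subtype hSN, ?_⟩, ?_, ?_, ?_⟩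
    · rw [hrange, Sylow.coe_subtype]
    · have hle : (Cfsg.pCore p G).subgroupOf N ≤ Cfsg.pCore p N :=
        CfsgLib.PCore.le_pCore ((Cfsg.pCore_normal p G).subgroupOf N)
          (CfsgLib.PCore.pCore_isPGroup.comap_of_injective N.subtype N.subtype_injective)
      intro x hx
      refine hle (hc (Subgroup.mem_centralizer_iff.2 fun y hy => congrArg Subtype.val
        (Subgroup.mem_centralizer_iff.1 hx ⟨y, hSN (hQS hy)⟩ (hle hy))))
    · have e : (Cfsg.thompsonSubgroup p (S : Subgroup G)).map τ = J.subgroupOf N := by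
        apply Subgroup.map_injective N.subtype_injective
        rw [Subgroup.map_map, Subgroup.subgroupOf_map_subtype,
          inf_eq_left.2 (show J ≤ N from Subgroup.le_normalizer)]
        rfl
      rw [e]
      exact Subgroup.normal_subgroupOf_iff_le_normalizer Subgroup.le_normalizer |>.2 le_rfl
    · intro V _ hV
      refine hst.2.2 S V ?_
      refine (Subgroup.map_mono hV).trans ?_
      rw [Subgroup.map_map]
      rfl
  have hWN : N ≤ Subgroup.normalizer (W : Set G) := by
    have h := stableNormalClosure_normal_map hτ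
    have e : ((Cfsg.stableNormalClosure p (S : Subgroup G)).map τ).map N.subtype = W := by
      rw [Subgroup.map_map]; rfl
    have h' := Subgroup.le_normalizer_map N.subtype (H := (Cfsg.stableNormalClosure p (S : Subgroup G)).map τ)
    rw [e, Subgroup.normalizer_eq_top, ← MonoidHom.range_eq_map, Subgroup.range_subtype] at h'
    exact h'
  rw [← Subgroup.normalizer_eq_top_iff, eq_top_iff, ← htop]
  refine sup_le (fun c hc' => ?_) hWN
  rw [Subgroup.mem_normalizer_iff]
  intro w
  constructor
  · intro hw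
    rw [← Subgroup.mem_centralizer_iff.1 hc' w (hWU hw), mul_inv_cancel_right]
    exact hw
  · intro hw
    have h := Subgroup.mem_centralizer_iff.1 hc' _ (hWU hw)
    have h' : c * w * c⁻¹ = w := by
      have e1 : w = c⁻¹ * (c * w * c⁻¹ * c) := by group
      rw [h, ← mul_assoc, inv_mul_cancel, one_mul] at e1
      exact e1.symm
    exact h' ▸ hw

end CfsgLib.PLocal
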