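import Cfsg.Agent.Lib.PLocal.StableClosureNormal
import Cfsg.Agent.Lib.PLocal.NoSLTwo
import Cfsg.Agent.Lib.PLocal.PStableQuot
import Cfsg.Agent.Lib.Frobenius.ZJComplement

/-!
Consequences for the stable normal closure: factorization and the normal `p`-complement theorem.
-/

set_option autoImplicit false
set_option linter.unusedSectionVars false

open scoped commutatorElement

namespace CfsgLib.PLocal

universe u

variable {p : ℕ} [hp : Fact p.Prime] {G : Type u} [Group G] [Finite G]

theorem stableW_map_of_injOn {H : Type u} [Group H] (f : G →* H) (P : Subgroup G)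
    (hf : Function.Injective (f.comp P.subtype)) : stableW p (P.map f) = (stableW p P).map f := by
  let η : P ≃* P.map f := MulEquiv.ofBijective (f.subgroupMap P)
    ⟨fun a b h => hf (congrArg Subtype.val h), f.subgroupMap_surjective P⟩
  unfold stableW
  rw [← stableNormalClosure_map η, Subgroup.map_map, Subgroup.map_map]
  rfl

theorem stableW_ne_bot {P : Subgroup G} (hP : IsPGroup p P) (h : P ≠ ⊥) : stableW p P ≠ ⊥ := by
  haveI : Nontrivial P := (Subgroup.nontrivial_iff_ne_bot P).mpr h
  rw [stableW, Ne, Subgroup.map_eq_bot_iff, Subgroup.ker_subtype, le_bot_iff]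
  exact stableNormalClosure_ne_bot hP

theorem sup_normalizer_stableW_eq_top (hp5 : 5 ≤ p) (hsep : Cfsg.IsPSolvable p G) (S : Sylow p G) :
    Cfsg.pPrimeCore p G ⊔ Subgroup.normalizer (stableW p (S : Subgroup G) : Set G) = ⊤ := by
  set N := Cfsg.pPrimeCore p G with hNdef
  haveI : N.Normal := inferInstance
  set q := QuotientGroup.mk' N with hq
  have hN : (Nat.card N).Coprime p := CfsgLib.PCore.pPrimeCore_coprime
  have hs : Cfsg.IsPSolvable p (G ⧸ N) := CfsgLib.PCore.isPSolvable_quotient hsep N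
  have h := stableW_normal ((noSLTwo_of_isPSolvable hp5 hs).isActionPStable (by omega))
    (CfsgLib.PCore.centralizer_pCore_le hs CfsgLib.PCore.pPrimeCore_quotient_pPrimeCore)
    (S.mapSurjective (QuotientGroup.mk'_surjective N))
  rw [Sylow.coe_mapSurjective] at h
  have hinj : Function.Injective (q.comp (S : Subgroup G).subtype) := by
    rw [injective_iff_map_eq_one]
    intro x hx
    exact Subtype.ext (eq_one_of_mem_pGroup_of_mem_coprime S.isPGroup' hN x.2
      ((QuotientGroup.eq_one_iff (x : G)).mp hx))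
  rw [stableW_map_of_injOn q _ hinj] at h
  refine top_le_iff.mp fun x _ => ?_
  obtain ⟨n, hn, hnx⟩ := exists_mul_mem_normalizer hN (S.isPGroup'.to_le (stableW_le _)) (x := x)
    fun y hy => by
      rw [map_mul, map_mul, map_inv]
      exact h.conj_mem _ ⟨y, hy, rfl⟩ _
  simpa using Subgroup.mul_mem_sup (inv_mem hn) hnx

theorem isZFunctor_stableW (hp2 : p ≠ 2) :
    CfsgLib.Frobenius.ZJComp.IsZFunctor.{u} p (fun {G} [Group G] P => stableW p P) where
  ne_bot P hP h := stableW_ne_bot hP h
  le P := Subgroup.map_subtype_le _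
  map f P hf := stableW_map_of_injOn f P hf
  normal := by
    intro G _ _ P M _ hOM hab _ hq hc _
    refine stableW_normal ((noSLTwo_of_abelian_sylow_two hp2 fun T => ⟨⟨fun a b => ?_⟩⟩).isActionPStable hp2) hc P
    have hTM : ∀ x ∈ (T : Subgroup G), x ∈ M := by
      intro x hx
      rw [← QuotientGroup.eq_one_iff]
      obtain ⟨i, hi⟩ := T.isPGroup' ⟨x, hx⟩
      obtain ⟨j, hj⟩ := hq (QuotientGroup.mk x)
      refine orderOf_eq_one_iff.1 (Nat.eq_one_of_dvd_coprimes
        (((Nat.coprime_primes Nat.prime_two hp.out).2 (Ne.symm hp2)).pow i j) ?_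
        (orderOf_dvd_of_pow_eq_one hj))
      refine orderOf_dvd_of_pow_eq_one ?_
      rw [← QuotientGroup.mk_pow, show x ^ 2 ^ i = 1 from congrArg Subtype.val hi,
        QuotientGroup.mk_one]
    have hm : ⁅(a : G), (b : G)⁆ ∈ Cfsg.pCore p G :=
      hab (Subgroup.commutator_mem_commutator (hTM _ a.2) (hTM _ b.2))
    have hmT : ⁅(a : G), (b : G)⁆ ∈ (T : Subgroup G) := (⁅a, b⁆ : (T : Subgroup G)).2
    obtain ⟨i, hi⟩ := T.isPGroup' ⟨_, hmT⟩
    obtain ⟨j, hj⟩ := CfsgLib.PCore.pCore_isPGroup (p := p) ⟨_, hm⟩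
    have h1 : orderOf ⁅(a : G), (b : G)⁆ = 1 := Nat.eq_one_of_dvd_coprimes
      (((Nat.coprime_primes Nat.prime_two hp.out).2 (Ne.symm hp2)).pow i j)
      (orderOf_dvd_of_pow_eq_one (congrArg Subtype.val hi))
      (orderOf_dvd_of_pow_eq_one (congrArg Subtype.val hj))
    exact Subtype.ext (commutatorElement_eq_one_iff_mul_comm.1 (orderOf_eq_one_iff.1 h1))

theorem hasNormalPComplement_of_stableW (hp2 : p ≠ 2) (S : Sylow p G)
    (h : Cfsg.HasNormalPComplement p
      (Subgroup.normalizer (stableW p (S : Subgroup G) : Set G))) :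
    Cfsg.HasNormalPComplement p G :=
  (isZFunctor_stableW hp2).hasNormalPComplement S h

end CfsgLib.PLocal
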